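import Groth.Agent.Lead.QCoh9

/-!
# Biproducts and fibre products of quasi-coherent modules are quasi-coherent
-/

universe u

open CategoryTheory CategoryTheory.Limits AlgebraicGeometry Opposite TopologicalSpace

namespace Groth.Agent.Lead.QCoh

variable {X Y : Scheme.{u}}

theorem isQuasicoherent_biprod_spec (R : CommRingCat.{u}) (M N : (Spec R).Modules)
    [M.IsQuasicoherent] [N.IsQuasicoherent] : (M ⊞ N).IsQuasicoherent := by
  haveI := Groth.Agent.S9498.preservesFiniteLimits_tilde R
  haveI : IsIso (Scheme.Modules.fromTildeΓ (R := R) M) := inferInstance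
  haveI : IsIso (Scheme.Modules.fromTildeΓ (R := R) N) := inferInstance
  let eM0 := asIso (Scheme.Modules.fromTildeΓ (R := R) M)
  let eN0 := asIso (Scheme.Modules.fromTildeΓ (R := R) N)
  obtain ⟨A, ⟨eM⟩⟩ : ∃ A : ModuleCat.{u} R, Nonempty ((tilde.functor R).obj A ≅ M) :=
    ⟨_, ⟨eM0⟩⟩
  obtain ⟨B, ⟨eN⟩⟩ : ∃ B : ModuleCat.{u} R, Nonempty ((tilde.functor R).obj B ≅ N) :=
    ⟨_, ⟨eN0⟩⟩
  haveI : PreservesBinaryBiproduct A B (tilde.functor R) :=
    preservesBinaryBiproduct_of_preservesBinaryProduct _
  have e : (tilde.functor R).obj (A ⊞ B) ≅ M ⊞ N :=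
    (tilde.functor R).mapBiprod A B ≪≫ biprod.mapIso eM eN
  exact (SheafOfModules.isQuasicoherent.{u} (Spec R).ringCatSheaf).prop_of_iso e
    (inferInstanceAs ((tilde.functor R).obj (A ⊞ B)).IsQuasicoherent)

/-- restriction commutes with binary biproducts. -/
noncomputable def restrictBiprodIso (f : X ⟶ Y) [IsOpenImmersion f] (F G : Y.Modules) :
    (Scheme.Modules.restrictFunctor f).obj (F ⊞ G) ≅
      (Scheme.Modules.restrictFunctor f).obj F ⊞ (Scheme.Modules.restrictFunctor f).obj G :=
  haveI := preservesFiniteLimits_restrictFunctor f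
  haveI : PreservesBinaryBiproduct F G (Scheme.Modules.restrictFunctor f) :=
    preservesBinaryBiproduct_of_preservesBinaryProduct _
  (Scheme.Modules.restrictFunctor f).mapBiprod F G

theorem isQuasicoherent_biprod_of_isAffine {Z : Scheme.{u}} [IsAffine Z]
    (F G : Z.Modules) [F.IsQuasicoherent] [G.IsQuasicoherent] : (F ⊞ G).IsQuasicoherent := by
  let e := Z.isoSpec
  have h := isQuasicoherent_biprod_spec Γ(Z, ⊤) ((Scheme.Modules.restrictFunctor e.inv).obj F)
    ((Scheme.Modules.restrictFunctor e.inv).obj G)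
  have h1 : ((Scheme.Modules.restrictFunctor e.inv).obj (F ⊞ G)).IsQuasicoherent :=
    (SheafOfModules.isQuasicoherent.{u} _).prop_of_iso (restrictBiprodIso e.inv F G).symm h
  have h2 : ((Scheme.Modules.restrictFunctor e.hom).obj
      ((Scheme.Modules.restrictFunctor e.inv).obj (F ⊞ G))).IsQuasicoherent := inferInstance
  exact (SheafOfModules.isQuasicoherent.{u} _).prop_of_iso
    ((restrictIsoInvHom e).app (F ⊞ G)) h2

/-- Binary biproducts of quasi-coherent modules are quasi-coherent. -/
theorem isQuasicoherent_biprod (F G : X.Modules) [F.IsQuasicoherent] [G.IsQuasicoherent] :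
    (F ⊞ G).IsQuasicoherent := by
  have hp : ∀ V : X.affineOpens, Nonempty ((F ⊞ G).restrict (V : X.Opens).ι).Presentation := by
    intro V
    have : IsAffine ((V : X.Opens) : Scheme.{u}) := V.2
    have h := isQuasicoherent_biprod_of_isAffine
      ((Scheme.Modules.restrictFunctor (V : X.Opens).ι).obj F)
      ((Scheme.Modules.restrictFunctor (V : X.Opens).ι).obj G)
    have : ((F ⊞ G).restrict (V : X.Opens).ι).IsQuasicoherent :=
      (SheafOfModules.isQuasicoherent.{u} _).prop_of_iso
        (restrictBiprodIso (V : X.Opens).ι F G).symm h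
    exact nonempty_presentation_of_isAffine _ _
  exact isQuasicoherent_of_isOpenCover_presentation _ (fun V : X.affineOpens => (V : X.Opens))
    (iSup_affineOpens_eq_top X) (fun V => (hp V).some)

/-- Fibre products of quasi-coherent modules are quasi-coherent. -/
theorem isQuasicoherent_pullback {A B C : X.Modules} [A.IsQuasicoherent] [B.IsQuasicoherent]
    [C.IsQuasicoherent] (f : A ⟶ C) (g : B ⟶ C) : (pullback f g).IsQuasicoherent := by
  haveI := isQuasicoherent_biprod A B
  have hk := (isQuasicoherent_kernel_cokernel (biprod.desc f (-g))).1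
  have e : pullback f g ≅ kernel (biprod.desc f (-g)) :=
    IsLimit.conePointUniqueUpToIso
      (Abelian.PullbackToBiproductIsKernel.isLimitPullbackToBiproduct f g)
      (limit.isLimit (parallelPair (biprod.desc f (-g)) 0))
  exact (SheafOfModules.isQuasicoherent.{u} _).prop_of_iso e.symm hk

end Groth.Agent.Lead.QCoh
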