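import Groth.Agent.Lead.FinPres
import Groth.Agent.Lead.QCoh10

/-!
# Epimorphisms of quasi-coherent modules are surjective on sections over affine opens (lead)
-/

set_option autoImplicit false
universe u
open CategoryTheory CategoryTheory.Limits AlgebraicGeometry Opposite TopologicalSpace
open Groth.Agent.Lead.QCoh

namespace Groth.Agent.Lead.AffSurj

variable {X : Scheme.{u}}

theorem app_surjective_of_eq {F G : X.Modules} (v : F ⟶ G) {A B : X.Opens} (h : A = B)
    (hs : Function.Surjective (v.app A)) : Function.Surjective (v.app B) := by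
  subst h; exact hs

set_option backward.isDefEq.respectTransparency false in
theorem app_top_surjective_spec (R : CommRingCat.{u}) {F G : (Spec R).Modules}
    [F.IsQuasicoherent] [G.IsQuasicoherent] (v : F ⟶ G) [Epi v] :
    Function.Surjective (v.app ⊤) := by
  haveI hF : IsIso (Scheme.Modules.fromTildeΓ (R := R) F) :=
    Scheme.Modules.isIso_fromTildeΓ_of_isQuasicoherent F
  haveI hG : IsIso (Scheme.Modules.fromTildeΓ (R := R) G) :=
    Scheme.Modules.isIso_fromTildeΓ_of_isQuasicoherent G
  have hnat : (tilde.functor R).map ((moduleSpecΓFunctor (R := R)).map v) ≫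
      Scheme.Modules.fromTildeΓ (R := R) G = Scheme.Modules.fromTildeΓ (R := R) F ≫ v :=
    (Scheme.Modules.fromTildeΓNatTrans (R := R)).naturality v
  haveI : Epi ((tilde.functor R).map ((moduleSpecΓFunctor (R := R)).map v)) := by
    have : (tilde.functor R).map ((moduleSpecΓFunctor (R := R)).map v) =
        Scheme.Modules.fromTildeΓ (R := R) F ≫ v ≫ inv (Scheme.Modules.fromTildeΓ (R := R) G) := by
      rw [← Category.assoc, ← hnat, Category.assoc, IsIso.hom_inv_id, Category.comp_id]
    rw [this]; infer_instance
  haveI : Epi ((moduleSpecΓFunctor (R := R)).map v) :=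
    (tilde.functor R).epi_of_epi_map inferInstance
  have hs : Function.Surjective ((moduleSpecΓFunctor (R := R)).map v).hom :=
    (ModuleCat.epi_iff_surjective _).mp inferInstance
  intro t
  obtain ⟨s, hs'⟩ := hs t
  exact ⟨s, hs'⟩

set_option backward.isDefEq.respectTransparency false in
theorem app_top_surjective_of_isAffine (Z : Scheme.{u}) [IsAffine Z] {F G : Z.Modules}
    [F.IsQuasicoherent] [G.IsQuasicoherent] (v : F ⟶ G) [Epi v] :
    Function.Surjective (v.app ⊤) := by
  let e := Z.isoSpec
  haveI : ((Scheme.Modules.restrictFunctor e.inv).obj F).IsQuasicoherent := inferInstance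
  haveI : ((Scheme.Modules.restrictFunctor e.inv).obj G).IsQuasicoherent := inferInstance
  haveI : Epi ((Scheme.Modules.restrictFunctor e.inv).map v) := inferInstance
  have h1 := app_top_surjective_spec Γ(Z, ⊤) ((Scheme.Modules.restrictFunctor e.inv).map v)
  have h2 : e.inv ''ᵁ (⊤ : (Spec Γ(Z, ⊤)).Opens) = ⊤ := by
    rw [Scheme.Hom.image_top_eq_opensRange]
    exact Scheme.Hom.opensRange_of_isIso e.inv
  exact app_surjective_of_eq v h2 h1

set_option backward.isDefEq.respectTransparency false in
/-- **Exactness of sections over affine opens**: an epimorphism of quasi-coherent modules is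
surjective on sections over every affine open. -/
theorem app_surjective_of_isAffineOpen {F G : X.Modules} [F.IsQuasicoherent] [G.IsQuasicoherent]
    (v : F ⟶ G) [Epi v] {U : X.Opens} (hU : IsAffineOpen U) : Function.Surjective (v.app U) := by
  haveI : IsAffine (U : Scheme.{u}) := hU
  haveI : ((Scheme.Modules.restrictFunctor U.ι).obj F).IsQuasicoherent := inferInstance
  haveI : ((Scheme.Modules.restrictFunctor U.ι).obj G).IsQuasicoherent := inferInstance
  haveI : Epi ((Scheme.Modules.restrictFunctor U.ι).map v) := inferInstance
  have h1 := app_top_surjective_of_isAffine (U : Scheme.{u})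
    ((Scheme.Modules.restrictFunctor U.ι).map v)
  exact app_surjective_of_eq v U.ι_image_top h1

end Groth.Agent.Lead.AffSurj
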