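import Groth.Agent.Lead.QCoh
import Groth.Prelude.Def_CurvBase

/-!
# Left exactness of sections / stalks of `𝒪_X`-modules, and (weakly) associated points in
short exact sequences.
-/

universe u

open CategoryTheory CategoryTheory.Limits AlgebraicGeometry Opposite TopologicalSpace

namespace Groth.Agent.Lead.QCoh

variable {X : Scheme.{u}}

/-- Sections over `U` as a functor to abelian groups. -/
noncomputable def sectionsFunctor (X : Scheme.{u}) (U : X.Opens) : X.Modules ⥤ Ab.{u} :=
  Scheme.Modules.toPresheaf X ⋙ (evaluation (Opens X)ᵒᵖ Ab.{u}).obj (op U)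

instance (U : X.Opens) : PreservesLimits (sectionsFunctor X U) := by
  have h : PreservesLimits ((evaluation (Opens X)ᵒᵖ Ab.{u}).obj (op U)) := inferInstance
  exact @comp_preservesLimits _ _ _ _ _ _ (Scheme.Modules.toPresheaf X) _ _ h

instance (U : X.Opens) : (sectionsFunctor X U).Additive where
  map_add := by intros; rfl

theorem app_injective_of_mono {F G : X.Modules} (φ : F ⟶ G) [Mono φ] (U : X.Opens) :
    Function.Injective (φ.app U) := by
  have : Mono ((sectionsFunctor X U).map φ) := inferInstance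
  exact (AddCommGrpCat.mono_iff_injective _).1 this

theorem stalkMap_injective_of_mono {F G : X.Modules} (φ : F ⟶ G) [Mono φ] (x : X) :
    Function.Injective (stalkMap φ x) := by
  intro s t h
  exact TopCat.Presheaf.stalkFunctor_map_injective_of_app_injective
    (f := Scheme.Modules.Hom.mapPresheaf φ) (fun U => app_injective_of_mono φ U) x h

theorem app_exact (S : ShortComplex X.Modules) (hS : S.ShortExact) (U : X.Opens)
    (t : Γ(S.X₂, U)) (ht : S.g.app U t = 0) : ∃ s : Γ(S.X₁, U), S.f.app U s = t := by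
  have := hS.mono_f
  have h := hS.exact.map_of_mono_of_preservesKernel (sectionsFunctor X U) hS.mono_f inferInstance
  rw [ShortComplex.ab_exact_iff] at h
  exact h t ht

theorem app_naturality {F G : X.Modules} (φ : F ⟶ G) {V W : X.Opens} (i : W ⟶ V)
    (t : Γ(F, V)) : φ.app W (F.presheaf.map i.op t) = G.presheaf.map i.op (φ.app V t) :=
  ConcreteCategory.congr_hom ((Scheme.Modules.Hom.mapPresheaf φ).naturality i.op) t

theorem stalk_exact (S : ShortComplex X.Modules) (hS : S.ShortExact) (x : X)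
    (t : S.X₂.presheaf.stalk x) (ht : stalkMap S.g x t = 0) :
    ∃ s, stalkMap S.f x s = t := by
  obtain ⟨V, hxV, t', rfl⟩ := TopCat.Presheaf.exists_germ_eq S.X₂.presheaf t
  rw [stalkMap_germ] at ht
  have h0 : S.X₃.presheaf.germ V x hxV (S.g.app V t') = S.X₃.presheaf.germ V x hxV 0 := by
    rw [ht, map_zero]
  obtain ⟨W, hxW, i1, i2, e⟩ := TopCat.Presheaf.germ_eq S.X₃.presheaf x hxV hxV _ _ h0
  have e' : S.g.app W (S.X₂.presheaf.map i1.op t') = 0 := by
    rw [app_naturality, e, map_zero]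
  obtain ⟨s, hs⟩ := app_exact S hS W _ e'
  refine ⟨S.X₁.presheaf.germ W x hxW s, ?_⟩
  rw [stalkMap_germ, hs]
  exact TopCat.Presheaf.germ_res_apply S.X₂.presheaf i1 x hxW t'

section Algebra

variable {R M₁ M₂ M₃ : Type*} [CommRing R] [AddCommGroup M₁] [Module R M₁]
  [AddCommGroup M₂] [Module R M₂] [AddCommGroup M₃] [Module R M₃]

theorem colon_bot_singleton (m : M₁) :
    (⊥ : Submodule R M₁).colon {m} = LinearMap.ker (LinearMap.toSpanSingleton R M₁ m) := by
  ext b
  rw [Submodule.mem_colon_singleton, Submodule.mem_bot, LinearMap.mem_ker,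
    LinearMap.toSpanSingleton_apply]

theorem ker_toSpanSingleton_of_injective (i : M₁ →+ M₂)
    (hi : ∀ (a : R) (m : M₁), i (a • m) = a • i m) (hinj : Function.Injective i) (n : M₁) :
    LinearMap.ker (LinearMap.toSpanSingleton R M₂ (i n)) =
      LinearMap.ker (LinearMap.toSpanSingleton R M₁ n) := by
  ext b
  rw [LinearMap.mem_ker, LinearMap.toSpanSingleton_apply, LinearMap.mem_ker,
    LinearMap.toSpanSingleton_apply, ← hi]
  constructor
  · intro h; exact hinj (h.trans (map_zero _).symm)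
  · intro h; rw [h, map_zero]

theorem weakAss_of_exact [IsLocalRing R] (i : M₁ →+ M₂) (p : M₂ →+ M₃)
    (hi : ∀ (a : R) (m : M₁), i (a • m) = a • i m)
    (hp : ∀ (a : R) (m : M₂), p (a • m) = a • p m)
    (hinj : Function.Injective i) (hex : ∀ m, p m = 0 → ∃ n, i n = m)
    (m : M₂) (hm : Ideal.radical (LinearMap.ker (LinearMap.toSpanSingleton R M₂ m)) =
      IsLocalRing.maximalIdeal R) :
    (∃ n : M₁, Ideal.radical (LinearMap.ker (LinearMap.toSpanSingleton R M₁ n)) =
      IsLocalRing.maximalIdeal R) ∨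
    (∃ n : M₃, Ideal.radical (LinearMap.ker (LinearMap.toSpanSingleton R M₃ n)) =
      IsLocalRing.maximalIdeal R) := by
  by_cases h : ∃ (a : R) (n : M₁), i n = a • m ∧ n ≠ 0
  · obtain ⟨a, n, hn, hn0⟩ := h
    left
    refine ⟨n, le_antisymm ?_ ?_⟩
    · have hne : LinearMap.ker (LinearMap.toSpanSingleton R M₁ n) ≠ ⊤ := by
        intro htop
        apply hn0
        have h1 : (1 : R) ∈ LinearMap.ker (LinearMap.toSpanSingleton R M₁ n) := by
          rw [htop]; trivial
        rw [LinearMap.mem_ker, LinearMap.toSpanSingleton_apply, one_smul] at h1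
        exact h1
      exact (IsLocalRing.maximalIdeal.isMaximal R).isPrime.radical_le_iff.mpr
        (IsLocalRing.le_maximalIdeal hne)
    · rw [← hm]
      apply Ideal.radical_mono
      intro b hb
      rw [LinearMap.mem_ker, LinearMap.toSpanSingleton_apply] at hb ⊢
      apply hinj
      rw [hi, hn, map_zero, smul_comm, hb, smul_zero]
  · right
    push Not at h
    refine ⟨p m, ?_⟩
    rw [← hm]
    congr 1
    ext b
    rw [LinearMap.mem_ker, LinearMap.toSpanSingleton_apply, LinearMap.mem_ker,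
      LinearMap.toSpanSingleton_apply, ← hp]
    constructor
    · intro hb
      obtain ⟨n, hn⟩ := hex _ hb
      have := h b n hn
      rw [← hn, this, map_zero]
    · intro hb
      rw [hb, map_zero]

end Algebra

theorem isAssPoint_iff (F : X.Modules) (x : X) :
    Curv2.IsAssPoint F x ↔ Curv2.IsWeakAssPoint F x := by
  unfold Curv2.IsAssPoint Curv2.IsWeakAssPoint IsAssociatedPrime
  rw [Submodule.isAssociatedPrime_def]
  constructor
  · rintro ⟨-, m, hm⟩
    exact ⟨m, by rw [← colon_bot_singleton]; exact hm.symm⟩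
  · rintro ⟨m, hm⟩
    exact ⟨(IsLocalRing.maximalIdeal.isMaximal _).isPrime, m, by
      rw [colon_bot_singleton]; exact hm.symm⟩

/-- Weakly associated points in a short exact sequence. -/
theorem weakAss_shortExact (S : ShortComplex X.Modules) (hS : S.ShortExact) :
    (∀ x : X, Curv2.IsWeakAssPoint S.X₂ x →
      Curv2.IsWeakAssPoint S.X₁ x ∨ Curv2.IsWeakAssPoint S.X₃ x) ∧
    (∀ x : X, Curv2.IsWeakAssPoint S.X₁ x → Curv2.IsWeakAssPoint S.X₂ x) := by
  have := hS.mono_f
  constructor
  · rintro x ⟨m, hm⟩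
    exact weakAss_of_exact (stalkMap S.f x) (stalkMap S.g x) (stalkMap_smul S.f x)
      (stalkMap_smul S.g x) (stalkMap_injective_of_mono S.f x) (stalk_exact S hS x) m hm
  · rintro x ⟨m, hm⟩
    refine ⟨stalkMap S.f x m, ?_⟩
    rw [ker_toSpanSingleton_of_injective (stalkMap S.f x) (stalkMap_smul S.f x)
      (stalkMap_injective_of_mono S.f x)]
    exact hm

section Specializes

/-- Refinement of `exists_weakAss_germ`: the point `y` can moreover be chosen to be a
generization of `x`. -/
theorem exists_weakAss_germ_specializes (F : X.Modules) [F.IsQuasicoherent] {U : X.Opens}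
    (hU : IsAffineOpen U) (m : Γ(F, U)) (x : X) (hxU : x ∈ U)
    (hx : F.presheaf.germ U x hxU m ≠ 0) :
    ∃ (y : X) (hy : y ∈ U), y ⤳ x ∧ (∀ a : Γ(X, U), a • m = 0 → y ∉ X.basicOpen a) ∧
      ∀ N : Ideal (X.presheaf.stalk y), (∀ α, α ∈ N ↔ α • F.presheaf.germ U y hy m = 0) →
        N.radical = IsLocalRing.maximalIdeal (X.presheaf.stalk y) := by
  have hm : ∀ a : Γ(X, U), x ∈ X.basicOpen a → a • m ≠ 0 := by
    intro a hxa ha
    exact hx ((germ_eq_zero_iff F hU x hxU m).mpr ⟨a, hxa, ha⟩)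
  let I : Ideal Γ(X, U) := LinearMap.ker (LinearMap.toSpanSingleton Γ(X, U) Γ(F, U) m)
  have hI : ∀ a, a ∈ I ↔ a • m = 0 := fun a => by
    rw [LinearMap.mem_ker, LinearMap.toSpanSingleton_apply]
  have hIp : I ≤ (hU.primeIdealOf ⟨x, hxU⟩).asIdeal := by
    intro a ha
    rw [mem_primeIdealOf_iff hU x hxU a]
    intro hxa
    exact hm a hxa ((hI a).mp ha)
  obtain ⟨q, hq, hqle⟩ := Ideal.exists_minimalPrimes_le hIp
  have hqp : q.IsPrime := hq.1.1
  let z : PrimeSpectrum Γ(X, U) := ⟨q, hqp⟩
  have hy : hU.fromSpec z ∈ U := by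
    have : hU.fromSpec z ∈ Set.range hU.fromSpec := ⟨z, rfl⟩
    rwa [hU.range_fromSpec] at this
  have hz : hU.primeIdealOf ⟨hU.fromSpec z, hy⟩ = z := primeIdealOf_fromSpec hU z hy
  have hq' : (hU.primeIdealOf ⟨hU.fromSpec z, hy⟩).asIdeal ∈ I.minimalPrimes := by
    rw [hz]; exact hq
  refine ⟨hU.fromSpec z, hy, ?_, ?_, fun N hN =>
    radical_annihilator_germ_eq_maximalIdeal F hU m I hI _ hy hq' N hN⟩
  · have h1 : z ⤳ hU.primeIdealOf ⟨x, hxU⟩ :=
      (PrimeSpectrum.le_iff_specializes z (hU.primeIdealOf ⟨x, hxU⟩)).mp hqle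
    have h2 := h1.map hU.fromSpec.continuous
    rwa [hU.fromSpec_primeIdealOf ⟨x, hxU⟩] at h2
  · intro a ha
    rw [← mem_primeIdealOf_iff hU _ hy a]
    exact hq'.1.2 ((hI a).mpr ha)

/-- Every point in the support of a quasi-coherent module has a weakly associated
generization. -/
theorem exists_weakAssPoint_specializes (F : X.Modules) [F.IsQuasicoherent] (x : X)
    (hx : Nontrivial (F.presheaf.stalk x)) :
    ∃ y : X, y ⤳ x ∧ Curv2.IsWeakAssPoint F y := by
  obtain ⟨_, ⟨U, hU, rfl⟩, hxU, -⟩ :=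
    X.isBasis_affineOpens.exists_subset_of_mem_open (Set.mem_univ x) isOpen_univ
  have hU' : IsAffineOpen U := hU
  obtain ⟨t, ht⟩ := exists_ne (0 : F.presheaf.stalk x)
  obtain ⟨b, m, hxb, hbt⟩ := exists_smul_eq_germ F hU' x hxU t
  have hbu : IsUnit (X.presheaf.germ U x hxU b) := (Scheme.mem_basicOpen _ _ x hxU).mp hxb
  have hm : F.presheaf.germ U x hxU m ≠ 0 := by
    rw [← hbt]; intro h; exact ht (hbu.smul_eq_zero.mp h)
  obtain ⟨y, hyU, hyx, -, hN⟩ := exists_weakAss_germ_specializes F hU' m x hxU hm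
  refine ⟨y, hyx, F.presheaf.germ U y hyU m, hN _ (fun α => ?_)⟩
  rw [LinearMap.mem_ker, LinearMap.toSpanSingleton_apply]

theorem nontrivial_stalk_of_isWeakAssPoint (F : X.Modules) (x : X)
    (h : Curv2.IsWeakAssPoint F x) : Nontrivial (F.presheaf.stalk x) := by
  obtain ⟨m, hm⟩ := h
  by_contra hnt
  rw [not_nontrivial_iff_subsingleton] at hnt
  have h1 : (1 : X.presheaf.stalk x) ∈ Ideal.radical (LinearMap.ker
      (LinearMap.toSpanSingleton (X.presheaf.stalk x) (F.presheaf.stalk x) m)) :=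
    Ideal.le_radical (by rw [LinearMap.mem_ker]; exact Subsingleton.elim _ _)
  rw [hm] at h1
  exact (IsLocalRing.maximalIdeal.isMaximal _).ne_top ((Ideal.eq_top_iff_one _).mpr h1)

/-- The weakly associated points which are minimal (w.r.t. generization) among weakly associated
points are exactly the minimal points of the support. -/
theorem minimal_weakAss_iff (F : X.Modules) [F.IsQuasicoherent] (x : X) :
    (Curv2.IsWeakAssPoint F x ∧ ∀ y, Curv2.IsWeakAssPoint F y → y ⤳ x → y = x) ↔
    (Nontrivial (F.presheaf.stalk x) ∧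
      ∀ y : X, Nontrivial (F.presheaf.stalk y) → y ⤳ x → y = x) := by
  constructor
  · rintro ⟨hx, hmin⟩
    refine ⟨nontrivial_stalk_of_isWeakAssPoint F x hx, fun y hy hyx => ?_⟩
    obtain ⟨z, hzy, hz⟩ := exists_weakAssPoint_specializes F y hy
    have hzx : z = x := hmin z hz (hzy.trans hyx)
    rw [hzx] at hzy
    exact (hyx.antisymm hzy).eq
  · rintro ⟨hx, hmin⟩
    obtain ⟨z, hzx, hz⟩ := exists_weakAssPoint_specializes F x hx
    have h : z = x := hmin z (nontrivial_stalk_of_isWeakAssPoint F z hz) hzx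
    rw [h] at hz
    exact ⟨hz, fun y hy hyx => hmin y (nontrivial_stalk_of_isWeakAssPoint F y hy) hyx⟩

end Specializes

end Groth.Agent.Lead.QCoh
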