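import Mathlib
import Groth.Agent.Lead.QCoh2

/-!
# Epimorphisms of sheaves of modules on a scheme are surjective on stalks
-/

universe v v' u u'

open CategoryTheory CategoryTheory.Limits

namespace Groth.Agent.Lead.EpiStalk

section General

variable {C : Type u'} [Category.{v'} C] {J : GrothendieckTopology C}
  (R : Sheaf J RingCat.{u}) [HasSheafify J AddCommGrpCat.{v}]
  [J.WEqualsLocallyBijective AddCommGrpCat.{v}]

/-- sheafification of presheaves of modules -/
noncomputable abbrev L : PresheafOfModules.{v} R.obj ⥤ SheafOfModules.{v} R :=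
  PresheafOfModules.sheafification.{v} (𝟙 R.obj)

/-- the forgetful functor -/
noncomputable abbrev U : SheafOfModules.{v} R ⥤ PresheafOfModules.{v} R.obj :=
  SheafOfModules.forget R ⋙ PresheafOfModules.restrictScalars (𝟙 R.obj)

/-- the adjunction -/
noncomputable abbrev adj : L.{v} R ⊣ U.{v} R :=
  PresheafOfModules.sheafificationAdjunction.{v} (𝟙 R.obj)

/-- forget then sheafify as abelian sheaf -/
noncomputable abbrev T : PresheafOfModules.{v} R.obj ⥤ Sheaf J AddCommGrpCat.{v} :=
  PresheafOfModules.toPresheaf R.obj ⋙ presheafToSheaf J AddCommGrpCat.{v}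

/-- The forgetful functor from sheaves of modules to sheaves of abelian groups preserves
epimorphisms. -/
theorem epi_toSheaf {F G : SheafOfModules.{v} R} (f : F ⟶ G) [Epi f] :
    Epi ((SheafOfModules.toSheaf R).map f) := by
  have : (L.{v} R).PreservesEpimorphisms :=
    Functor.preservesEpimorphisms_of_adjunction (adj.{v} R)
  -- Step 1: `L.map g` is an epimorphism
  have hnat : (L.{v} R).map ((U.{v} R).map f) ≫ (adj.{v} R).counit.app G =
      (adj.{v} R).counit.app F ≫ f := (adj.{v} R).counit.naturality f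
  have : IsIso ((adj.{v} R).counit.app F) := inferInstance
  have : IsIso ((adj.{v} R).counit.app G) := inferInstance
  have hLg : (L.{v} R).map ((U.{v} R).map f) =
      (adj.{v} R).counit.app F ≫ f ≫ inv ((adj.{v} R).counit.app G) := by
    rw [← Category.assoc, ← hnat, Category.assoc, IsIso.hom_inv_id, Category.comp_id]
  have : Epi ((L.{v} R).map ((U.{v} R).map f)) := by rw [hLg]; infer_instance
  -- Step 2: `L.obj (cokernel g)` is zero
  have h0 : (L.{v} R).map (cokernel.π ((U.{v} R).map f)) = 0 := by
    rw [← cancel_epi ((L.{v} R).map ((U.{v} R).map f)), ← (L.{v} R).map_comp,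
      cokernel.condition, comp_zero]
    exact (L.{v} R).map_zero _ _
  have hz : IsZero ((L.{v} R).obj (cokernel ((U.{v} R).map f))) :=
    IsZero.of_epi_eq_zero ((L.{v} R).map (cokernel.π ((U.{v} R).map f))) h0
  -- Step 3
  have hz' : IsZero ((T.{v} R).obj (cokernel ((U.{v} R).map f))) :=
    (SheafOfModules.toSheaf R).map_isZero hz
  -- Step 4
  have hcol := CokernelCofork.mapIsColimit _ (cokernelIsCokernel ((U.{v} R).map f)) (T.{v} R)
  have hTg : Epi ((T.{v} R).map ((U.{v} R).map f)) := by
    apply Preadditive.epi_of_cancel_zero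
    intro W k hk
    have h1 := Cofork.IsColimit.π_desc' hcol k (by simpa using hk)
    rw [← h1]
    have : Cofork.π ((CokernelCofork.ofπ (cokernel.π ((U.{v} R).map f))
        (cokernel.condition _)).map (T.{v} R)) = 0 := hz'.eq_of_tgt _ _
    rw [this, zero_comp]
  -- Step 5
  have e1 : Epi ((SheafOfModules.toSheaf R).map ((L.{v} R).map ((U.{v} R).map f))) := hTg
  have e2 : (SheafOfModules.toSheaf R).map ((L.{v} R).map ((U.{v} R).map f)) ≫
      (SheafOfModules.toSheaf R).map ((adj.{v} R).counit.app G) =
      (SheafOfModules.toSheaf R).map ((adj.{v} R).counit.app F) ≫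
        (SheafOfModules.toSheaf R).map f := by
    rw [← Functor.map_comp, ← Functor.map_comp, hnat]
  have e3 : Epi ((SheafOfModules.toSheaf R).map ((adj.{v} R).counit.app F) ≫
      (SheafOfModules.toSheaf R).map f) := by
    rw [← e2]; exact epi_comp _ _
  exact epi_of_epi ((SheafOfModules.toSheaf R).map ((adj.{v} R).counit.app F)) _

end General

section Scheme

open AlgebraicGeometry Opposite TopologicalSpace Groth.Agent.Lead.QCoh

universe w

variable {X : Scheme.{w}}

/-- An epimorphism of `𝒪_X`-modules is locally surjective. -/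
theorem isLocallySurjective_of_epi {F G : X.Modules} (φ : F ⟶ G) [Epi φ] :
    TopCat.Presheaf.IsLocallySurjective (Scheme.Modules.Hom.mapPresheaf φ) := by
  have hφ : @Epi (SheafOfModules.{w} X.ringCatSheaf) _ F G φ := ‹Epi φ›
  have h : Epi ((SheafOfModules.toSheaf X.ringCatSheaf).map φ) :=
    @epi_toSheaf _ _ _ X.ringCatSheaf _ _ F G φ hφ
  exact (TopCat.Sheaf.isLocallySurjective_iff_epi
    ((SheafOfModules.toSheaf X.ringCatSheaf).map φ)).mpr h

/-- An epimorphism of `𝒪_X`-modules is surjective on stalks. -/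
theorem stalkMap_surjective_of_epi {F G : X.Modules} (φ : F ⟶ G) [Epi φ] (x : X) :
    Function.Surjective (stalkMap φ x) :=
  (TopCat.Presheaf.locally_surjective_iff_surjective_on_stalks
    (Scheme.Modules.Hom.mapPresheaf φ)).mp (isLocallySurjective_of_epi φ) x

/-- Local lifting of sections along an epimorphism. -/
theorem exists_local_lift_of_epi {F G : X.Modules} (φ : F ⟶ G) [Epi φ] (U : X.Opens)
    (t : Γ(G, U)) (x : X) (hx : x ∈ U) :
    ∃ (V : X.Opens) (hVU : V ≤ U) (_ : x ∈ V) (s : Γ(F, V)),
      φ.app V s = G.presheaf.map (homOfLE hVU).op t := by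
  obtain ⟨V, hVU, ⟨s, hs⟩, hxV⟩ :=
    (TopCat.Presheaf.isLocallySurjective_iff _).mp (isLocallySurjective_of_epi φ) U t x hx
  exact ⟨V, hVU, hxV, s, hs⟩

end Scheme

end Groth.Agent.Lead.EpiStalk
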