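import Groth.Agent.Lead.FinType2

/-!
# Constructing finite type structures on sheaves of modules from local generation
-/

universe u

open CategoryTheory CategoryTheory.Limits AlgebraicGeometry Opposite TopologicalSpace
open Groth.Agent.Lead.QCoh Groth.Agent.Lead.EpiStalk

namespace Groth.Agent.Lead.FinType

variable {Z : Scheme.{u}}

/-- A locally surjective morphism of `𝒪`-modules is an epimorphism. -/
theorem epi_of_isLocallySurjective {F G : Z.Modules} (φ : F ⟶ G)
    (h : TopCat.Presheaf.IsLocallySurjective (Scheme.Modules.Hom.mapPresheaf φ)) : Epi φ := by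
  have h1 : Epi ((SheafOfModules.toSheaf Z.ringCatSheaf).map φ) :=
    (TopCat.Sheaf.isLocallySurjective_iff_epi
      ((SheafOfModules.toSheaf Z.ringCatSheaf).map φ)).mp h
  have h2 : @Epi (SheafOfModules.{u} Z.ringCatSheaf) _ F G φ :=
    (SheafOfModules.toSheaf Z.ringCatSheaf).epi_of_epi_map h1
  exact h2

/-- A morphism of `𝒪`-modules which is surjective on stalks is an epimorphism. -/
theorem epi_of_stalkMap_surjective {F G : Z.Modules} (φ : F ⟶ G)
    (h : ∀ x, Function.Surjective (stalkMap φ x)) : Epi φ :=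
  epi_of_isLocallySurjective φ
    ((TopCat.Presheaf.locally_surjective_iff_surjective_on_stalks
      (Scheme.Modules.Hom.mapPresheaf φ)).mpr h)

theorem app_ι_one (N : Z.Modules) {I : Type u} (π : freeM Z I ⟶ N) (i : I) (W : Z.Opens) :
    π.app W ((ιF i).app W (toUnit W 1)) = secVal N (SheafOfModules.freeHomEquiv N π i) W := by
  have h := unit_app N (ιF i ≫ π) W 1
  rw [one_smul] at h
  exact h

/-- A finite family of global sections which locally generates gives an epimorphism from a free
module. -/
theorem epi_of_local_sum {I : Type u} [Fintype I] (N : Z.Modules) (π : freeM Z I ⟶ N)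
    (h : ∀ (V : Z.Opens) (t : Γ(N, V)) (y : Z) (_ : y ∈ V),
      ∃ (W : Z.Opens) (hWV : W ≤ V) (_ : y ∈ W) (a : I → Γ(Z, W)),
        N.presheaf.map (homOfLE hWV).op t =
          ∑ i, a i • secVal N (SheafOfModules.freeHomEquiv N π i) W) :
    Epi π := by
  classical
  apply epi_of_isLocallySurjective
  rw [TopCat.Presheaf.isLocallySurjective_iff]
  intro V t y hy
  obtain ⟨W, hWV, hyW, a, ha⟩ := h V t y hy
  refine ⟨W, hWV, ⟨∑ i, a i • (ιF i).app W (toUnit W 1), ?_⟩, hyW⟩
  change π.app W (∑ i, a i • (ιF i).app W (toUnit W 1)) =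
    N.presheaf.map (homOfLE hWV).op t
  rw [ha, map_sum]
  refine Finset.sum_congr rfl (fun i _ => ?_)
  rw [Scheme.Modules.Hom.app_smul, app_ι_one]

/-- The global section of `N` determined by an element of `Γ(N, ⊤)`. -/
noncomputable def ofTop (N : Z.Modules) (t : Γ(N, ⊤)) : N.sections :=
  PresheafOfModules.sectionsMk (M := N.val)
    (fun U => N.presheaf.map (homOfLE (le_top : U.unop ≤ ⊤)).op t)
    (fun U V f => map_map_apply N f.unop (homOfLE le_top) (homOfLE le_top) t)

theorem secVal_ofTop (N : Z.Modules) (t : Γ(N, ⊤)) (W : Z.Opens) :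
    secVal N (ofTop N t) W = N.presheaf.map (homOfLE (le_top : W ≤ ⊤)).op t := rfl


variable {X : Scheme.{u}}

set_option backward.isDefEq.respectTransparency false in
/-- generating sections of `M.over U` from generating sections of the restriction. -/
noncomputable def overGenerators (M : X.Modules) (U : X.Opens)
    (gen : (M.restrict U.ι).GeneratingSections) :
    SheafOfModules.GeneratingSections (R := X.ringCatSheaf.over U) (M.over U) :=
  let e := Scheme.Modules.overEquiv U
  have : PreservesColimitsOfSize.{u, u} e.inverse := inferInstance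
  ((gen.ofEpi ((Scheme.Modules.overFunctorEquiv U).app M).inv).map e.inverse
    (U.sheafOfModulesEquivOverInverseUnit X.ringCatSheaf).symm).ofEpi
      (e.unitIso.app (M.over U)).inv

set_option backward.isDefEq.respectTransparency false in
theorem overGenerators_isFiniteType (M : X.Modules) (U : X.Opens)
    (gen : (M.restrict U.ι).GeneratingSections) [gen.IsFiniteType] :
    (overGenerators M U gen).IsFiniteType := by
  unfold overGenerators
  infer_instance

set_option backward.isDefEq.respectTransparency false in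
/-- Finite type can be checked on an open cover with finite generating sections. -/
theorem isFiniteType_of_isOpenCover_generators (M : X.Modules) {ι : Type u}
    (U : ι → X.Opens) (hU : IsOpenCover U)
    (gen : ∀ i, (M.restrict (U i).ι).GeneratingSections)
    (hgen : ∀ i, (gen i).IsFiniteType) :
    SheafOfModules.IsFiniteType.{u, u, u} (R := X.ringCatSheaf) M := by
  have hcov : (Opens.grothendieckTopology X).CoversTop U := by
    rw [Opens.coversTop_iff]; exact hU
  let σ : SheafOfModules.LocalGeneratorsData.{u, u, u, u} (R := X.ringCatSheaf) M :=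
    { I := ι, X := U, coversTop := hcov, generators := fun i => overGenerators M (U i) (gen i) }
  have hσ : SheafOfModules.LocalGeneratorsData.IsFiniteType.{u, u, u, u}
      (R := X.ringCatSheaf) (M := M) σ := by
    constructor
    intro i
    haveI := hgen i
    exact overGenerators_isFiniteType M (U i) (gen i)
  constructor
  exact Exists.intro σ hσ


theorem restrict_smul (M : X.Modules) (U : X.Opens) (W' : (U : Scheme.{u}).Opens)
    (b : Γ(X, U.ι ''ᵁ W')) (n : Γ(M, U.ι ''ᵁ W')) (n' : Γ(M.restrict U.ι, W')) (hn : n' = n) :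
    ((U.ι.appIso W').hom b) • n' = (show Γ(M.restrict U.ι, W') from b • n) := by
  subst hn
  have h : (U.ι.appIso W').inv ((U.ι.appIso W').hom b) = b := by
    first | rfl | (simp; rfl)
  conv_rhs => rw [← h]
  rfl

/-- local generation by finitely many sections over `U` gives finite generating sections of the
restriction to `U`. -/
theorem exists_generatingSections_restrict_of_local_sum (M : X.Modules) (U : X.Opens)
    (I : Type u) [Fintype I] (s : I → Γ(M, U))
    (hs : ∀ (V : X.Opens) (hVU : V ≤ U) (t : Γ(M, V)) (y : X) (_ : y ∈ V),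
        ∃ (W : X.Opens) (hWV : W ≤ V) (_ : y ∈ W) (a : I → Γ(X, W)),
          M.presheaf.map (homOfLE hWV).op t =
            ∑ i, a i • M.presheaf.map (homOfLE (hWV.trans hVU)).op (s i)) :
    ∃ G : (M.restrict U.ι).GeneratingSections, G.IsFiniteType := by
  classical
  let N : (U : Scheme.{u}).Modules := M.restrict U.ι
  have hU : U.ι ''ᵁ ⊤ ≤ U := U.ι_image_top.le
  let sN : I → N.sections := fun i => ofTop N (M.presheaf.map (homOfLE hU).op (s i))
  let π : freeM (U : Scheme.{u}) I ⟶ N := N.freeHomEquiv.symm sN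
  have hπ : ∀ i, SheafOfModules.freeHomEquiv N π i = sN i :=
    fun i => congrFun (N.freeHomEquiv.apply_symm_apply sN) i
  have hepi : Epi π := by
    apply epi_of_local_sum N π
    intro V' t y' hy'
    have hV'U : U.ι ''ᵁ V' ≤ U := U.ι_image_le V'
    obtain ⟨W, hWV, hyW, a, ha⟩ := hs (U.ι ''ᵁ V') hV'U t y'.1 ⟨y', hy', rfl⟩
    let W' : (U : Scheme.{u}).Opens := U.ι ⁻¹ᵁ W
    have hW'W : U.ι ''ᵁ W' ≤ W := U.ι.image_preimage_le W
    have hW'V' : W' ≤ V' := (U.ι.preimage_mono hWV).trans (U.ι.preimage_image_eq V').le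
    refine ⟨W', hW'V', hyW,
      fun i => (U.ι.appIso W').hom (X.presheaf.map (homOfLE hW'W).op (a i)), ?_⟩
    have e1 : N.presheaf.map (homOfLE hW'V').op t =
        M.presheaf.map (homOfLE hW'W).op (M.presheaf.map (homOfLE hWV).op t) := by
      rw [map_map_apply M (homOfLE hW'W) (homOfLE hWV) (homOfLE (U.ι.image_mono hW'V')) t]
      rfl
    rw [e1, ha, map_sum]
    refine Finset.sum_congr rfl (fun i _ => ?_)
    rw [hπ i, Scheme.Modules.map_smul,
      map_map_apply M (homOfLE hW'W) (homOfLE (hWV.trans hV'U)) (homOfLE (hW'W.trans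
        (hWV.trans hV'U))) (s i)]
    refine (restrict_smul M U W' _ _ _ ?_).symm
    change N.presheaf.map (homOfLE (le_top : W' ≤ ⊤)).op (M.presheaf.map (homOfLE hU).op (s i)) = _
    exact map_map_apply M (homOfLE (U.ι.image_mono (le_top : W' ≤ ⊤))) (homOfLE hU)
      (homOfLE (hW'W.trans (hWV.trans hV'U))) (s i)
  exact ⟨{ I := I, s := sN, epi := hepi }, ⟨inferInstance⟩⟩

/-- A module which is locally generated by finitely many sections is of finite type. -/
theorem isFiniteType_of_local_sum (M : X.Modules)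
    (h : ∀ x : X, ∃ (U : X.Opens) (_ : x ∈ U) (I : Type u) (_ : Fintype I) (s : I → Γ(M, U)),
      ∀ (V : X.Opens) (hVU : V ≤ U) (t : Γ(M, V)) (y : X) (_ : y ∈ V),
        ∃ (W : X.Opens) (hWV : W ≤ V) (_ : y ∈ W) (a : I → Γ(X, W)),
          M.presheaf.map (homOfLE hWV).op t =
            ∑ i, a i • M.presheaf.map (homOfLE (hWV.trans hVU)).op (s i)) :
    SheafOfModules.IsFiniteType.{u, u, u} (R := X.ringCatSheaf) M := by
  choose U hxU I hI s hs using h
  have hcov : IsOpenCover U := by
    rw [IsOpenCover, eq_top_iff]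
    intro x _
    exact Opens.mem_iSup.mpr ⟨x, hxU x⟩
  have hG : ∀ x, ∃ G : (M.restrict (U x).ι).GeneratingSections, G.IsFiniteType := fun x =>
    @exists_generatingSections_restrict_of_local_sum _ M (U x) (I x) (hI x) (s x) (hs x)
  choose G hG using hG
  exact isFiniteType_of_isOpenCover_generators M U hcov G hG


/-- A module which is locally generated, stalkwise, by finitely many sections is of finite
type. -/
theorem isFiniteType_of_span_germ (M : X.Modules)
    (h : ∀ x : X, ∃ (U : X.Opens) (_ : x ∈ U) (I : Type u) (_ : Fintype I) (s : I → Γ(M, U)),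
      ∀ (y : X) (hy : y ∈ U), Submodule.span (X.presheaf.stalk y)
        (Set.range fun i => M.presheaf.germ U y hy (s i)) = ⊤) :
    SheafOfModules.IsFiniteType.{u, u, u} (R := X.ringCatSheaf) M := by
  classical
  apply isFiniteType_of_local_sum
  intro x
  obtain ⟨U, hxU, I, hI, s, hs⟩ := h x
  refine ⟨U, hxU, I, hI, s, ?_⟩
  intro V hVU t y hy
  have hmem : M.presheaf.germ V y hy t ∈ Submodule.span (X.presheaf.stalk y)
      (Set.range fun i => M.presheaf.germ U y (hVU hy) (s i)) := by
    rw [hs y (hVU hy)]; trivial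
  obtain ⟨c, hc⟩ := (Submodule.mem_span_range_iff_exists_fun _).mp hmem
  have hex : ∀ i, ∃ (W : X.Opens) (hyW : y ∈ W) (b : Γ(X, W)),
      X.presheaf.germ W y hyW b = c i :=
    fun i => TopCat.Presheaf.exists_germ_eq X.presheaf (c i)
  choose Wi hyWi b hb using hex
  let W0 : X.Opens := V ⊓ ⨅ i, Wi i
  have hyW0 : y ∈ W0 := by
    refine ⟨hy, ?_⟩
    rw [Opens.coe_iInf]
    exact Set.mem_iInter.mpr hyWi
  have hW0V : W0 ≤ V := inf_le_left
  have hW0i : ∀ i, W0 ≤ Wi i := fun i => inf_le_right.trans (iInf_le _ i)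
  let r : Γ(M, W0) := ∑ i, X.presheaf.map (homOfLE (hW0i i)).op (b i) •
    M.presheaf.map (homOfLE (hW0V.trans hVU)).op (s i)
  have hgerm : M.presheaf.germ W0 y hyW0 (M.presheaf.map (homOfLE hW0V).op t) =
      M.presheaf.germ W0 y hyW0 r := by
    rw [TopCat.Presheaf.germ_res_apply, ← hc, map_sum]
    refine Finset.sum_congr rfl (fun i _ => ?_)
    rw [germ_smul, TopCat.Presheaf.germ_res_apply, TopCat.Presheaf.germ_res_apply, hb]
  obtain ⟨W, hyW, i1, i2, heq⟩ := TopCat.Presheaf.germ_eq M.presheaf y hyW0 hyW0 _ _ hgerm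
  have hWW0 : W ≤ W0 := leOfHom i1
  refine ⟨W, hWW0.trans hW0V, hyW,
    fun i => X.presheaf.map (homOfLE (hWW0.trans (hW0i i))).op (b i), ?_⟩
  have e1 : M.presheaf.map (homOfLE (hWW0.trans hW0V)).op t =
      M.presheaf.map i1.op (M.presheaf.map (homOfLE hW0V).op t) :=
    (map_map_apply M i1 (homOfLE hW0V) _ t).symm
  rw [e1, heq, map_sum]
  refine Finset.sum_congr rfl (fun i _ => ?_)
  rw [Scheme.Modules.map_smul,
    map_map_apply M i2 (homOfLE (hW0V.trans hVU)) (homOfLE ((hWW0.trans hW0V).trans hVU)) (s i),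
    map_map_apply' i2 (homOfLE (hW0i i)) (homOfLE (hWW0.trans (hW0i i))) (b i)]


/-- For a quasi-coherent module on an affine open, generators of the sections generate all
stalks. -/
theorem span_germ_eq_top_of_span_eq_top (F : X.Modules) [F.IsQuasicoherent] {U : X.Opens}
    (hU : IsAffineOpen U) {I : Type*} (s : I → Γ(F, U))
    (hs : Submodule.span Γ(X, U) (Set.range s) = ⊤) (y : X) (hy : y ∈ U) :
    Submodule.span (X.presheaf.stalk y) (Set.range fun i => F.presheaf.germ U y hy (s i)) = ⊤ := by
  have key : ∀ n ∈ Submodule.span Γ(X, U) (Set.range s), F.presheaf.germ U y hy n ∈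
      Submodule.span (X.presheaf.stalk y) (Set.range fun i => F.presheaf.germ U y hy (s i)) := by
    intro n hn0
    induction hn0 using Submodule.span_induction with
    | mem t ht => obtain ⟨i, rfl⟩ := ht; exact Submodule.subset_span ⟨i, rfl⟩
    | zero => rw [map_zero]; exact Submodule.zero_mem _
    | add a b _ _ ha hb => rw [map_add]; exact Submodule.add_mem _ ha hb
    | smul c t _ ht => rw [germ_smul]; exact Submodule.smul_mem _ _ ht
  rw [eq_top_iff]
  rintro m -
  obtain ⟨a, n, hya, han⟩ := exists_smul_eq_germ F hU y hy m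
  have hu : IsUnit (X.presheaf.germ U y hy a) := (Scheme.mem_basicOpen _ _ y hy).mp hya
  have hn := key n (by rw [hs]; trivial)
  obtain ⟨v, hv⟩ := hu
  have : m = (↑v⁻¹ : X.presheaf.stalk y) • F.presheaf.germ U y hy n := by
    rw [← han, ← hv, smul_smul, Units.inv_mul, one_smul]
  rw [this]
  exact Submodule.smul_mem _ _ hn

/-- A quasi-coherent module whose sections over the members of an affine open cover are finite
modules is of finite type. -/
theorem isFiniteType_of_finite_sections (F : X.Modules) [F.IsQuasicoherent]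
    (h : ∀ x : X, ∃ (U : X.Opens), IsAffineOpen U ∧ x ∈ U ∧ Module.Finite Γ(X, U) Γ(F, U)) :
    SheafOfModules.IsFiniteType.{u, u, u} (R := X.ringCatSheaf) F := by
  apply isFiniteType_of_span_germ
  intro x
  obtain ⟨U, hU, hxU, hfin⟩ := h x
  obtain ⟨S, hS⟩ := hfin.fg_top
  refine ⟨U, hxU, {m : Γ(F, U) // m ∈ S}, inferInstance, Subtype.val, fun y hy => ?_⟩
  apply span_germ_eq_top_of_span_eq_top F hU
  rw [Subtype.range_coe_subtype]
  exact hS

end Groth.Agent.Lead.FinType
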