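import Groth.Agent.Lead.QCoh8
import Groth.Agent.S9496

/-!
# Kernels and cokernels of morphisms of quasi-coherent modules are quasi-coherent
-/

universe u

open CategoryTheory CategoryTheory.Limits AlgebraicGeometry Opposite TopologicalSpace

namespace Groth.Agent.Lead.QCoh

variable {X Y : Scheme.{u}}

set_option backward.isDefEq.respectTransparency false in
/-- Restriction along an open immersion is a right adjoint. -/
theorem isRightAdjoint_restrictFunctor (f : X ⟶ Y) [IsOpenImmersion f] :
    (Scheme.Modules.restrictFunctor f).IsRightAdjoint := by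
  unfold Scheme.Modules.restrictFunctor
  exact (SheafOfModules.PullbackConstruction.adjunction.{u} _).isRightAdjoint

theorem preservesFiniteLimits_restrictFunctor (f : X ⟶ Y) [IsOpenImmersion f] :
    PreservesFiniteLimits (Scheme.Modules.restrictFunctor f) := by
  have := isRightAdjoint_restrictFunctor f
  infer_instance

theorem preservesFiniteColimits_restrictFunctor (f : X ⟶ Y) [IsOpenImmersion f] :
    PreservesFiniteColimits (Scheme.Modules.restrictFunctor f) := by
  infer_instance

/-- restriction commutes with kernels. -/
noncomputable def restrictKernelIso (f : X ⟶ Y) [IsOpenImmersion f] {F G : Y.Modules} (φ : F ⟶ G) :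
    (Scheme.Modules.restrictFunctor f).obj (kernel φ) ≅
      kernel ((Scheme.Modules.restrictFunctor f).map φ) :=
  haveI := preservesFiniteLimits_restrictFunctor f
  PreservesKernel.iso (Scheme.Modules.restrictFunctor f) φ

/-- restriction commutes with cokernels. -/
noncomputable def restrictCokernelIso (f : X ⟶ Y) [IsOpenImmersion f] {F G : Y.Modules}
    (φ : F ⟶ G) :
    (Scheme.Modules.restrictFunctor f).obj (cokernel φ) ≅
      cokernel ((Scheme.Modules.restrictFunctor f).map φ) :=
  PreservesCokernel.iso (Scheme.Modules.restrictFunctor f) φ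

/-- Kernels and cokernels of morphisms of quasi-coherent modules on an affine scheme are
quasi-coherent. -/
theorem isQuasicoherent_kernel_cokernel_of_isAffine {Z : Scheme.{u}} [IsAffine Z]
    {F G : Z.Modules} [F.IsQuasicoherent] [G.IsQuasicoherent] (ψ : F ⟶ G) :
    (kernel ψ).IsQuasicoherent ∧ (cokernel ψ).IsQuasicoherent := by
  let e := Z.isoSpec
  have h := Groth.Agent.S9496.key Γ(Z, ⊤) ((Scheme.Modules.restrictFunctor e.inv).map ψ)
  constructor
  · have h1 : ((Scheme.Modules.restrictFunctor e.inv).obj (kernel ψ)).IsQuasicoherent :=
      (SheafOfModules.isQuasicoherent.{u} _).prop_of_iso (restrictKernelIso e.inv ψ).symm h.1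
    have h2 : ((Scheme.Modules.restrictFunctor e.hom).obj
        ((Scheme.Modules.restrictFunctor e.inv).obj (kernel ψ))).IsQuasicoherent := inferInstance
    exact (SheafOfModules.isQuasicoherent.{u} _).prop_of_iso
      ((restrictIsoInvHom e).app (kernel ψ)) h2
  · have h1 : ((Scheme.Modules.restrictFunctor e.inv).obj (cokernel ψ)).IsQuasicoherent :=
      (SheafOfModules.isQuasicoherent.{u} _).prop_of_iso (restrictCokernelIso e.inv ψ).symm h.2
    have h2 : ((Scheme.Modules.restrictFunctor e.hom).obj
        ((Scheme.Modules.restrictFunctor e.inv).obj (cokernel ψ))).IsQuasicoherent := inferInstance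
    exact (SheafOfModules.isQuasicoherent.{u} _).prop_of_iso
      ((restrictIsoInvHom e).app (cokernel ψ)) h2

/-- Kernels and cokernels of morphisms of quasi-coherent modules are quasi-coherent. -/
theorem isQuasicoherent_kernel_cokernel {F G : X.Modules} [F.IsQuasicoherent]
    [G.IsQuasicoherent] (φ : F ⟶ G) :
    (kernel φ).IsQuasicoherent ∧ (cokernel φ).IsQuasicoherent := by
  have key : ∀ V : X.affineOpens,
      ((kernel φ).restrict (V : X.Opens).ι).IsQuasicoherent ∧
      ((cokernel φ).restrict (V : X.Opens).ι).IsQuasicoherent := by
    intro V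
    have : IsAffine ((V : X.Opens) : Scheme.{u}) := V.2
    have h := isQuasicoherent_kernel_cokernel_of_isAffine
      ((Scheme.Modules.restrictFunctor (V : X.Opens).ι).map φ)
    exact ⟨(SheafOfModules.isQuasicoherent.{u} _).prop_of_iso
        (restrictKernelIso (V : X.Opens).ι φ).symm h.1,
      (SheafOfModules.isQuasicoherent.{u} _).prop_of_iso
        (restrictCokernelIso (V : X.Opens).ι φ).symm h.2⟩
  constructor
  · have hp : ∀ V : X.affineOpens, Nonempty ((kernel φ).restrict (V : X.Opens).ι).Presentation := by
      intro V
      have : IsAffine ((V : X.Opens) : Scheme.{u}) := V.2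
      have := (key V).1
      exact nonempty_presentation_of_isAffine _ _
    exact isQuasicoherent_of_isOpenCover_presentation _ (fun V : X.affineOpens => (V : X.Opens))
      (iSup_affineOpens_eq_top X) (fun V => (hp V).some)
  · have hp : ∀ V : X.affineOpens,
        Nonempty ((cokernel φ).restrict (V : X.Opens).ι).Presentation := by
      intro V
      have : IsAffine ((V : X.Opens) : Scheme.{u}) := V.2
      have := (key V).2
      exact nonempty_presentation_of_isAffine _ _
    exact isQuasicoherent_of_isOpenCover_presentation _ (fun V : X.affineOpens => (V : X.Opens))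
      (iSup_affineOpens_eq_top X) (fun V => (hp V).some)

end Groth.Agent.Lead.QCoh
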