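import Groth.Agent.Lead.FinPres
import Groth.Agent.Lead.QCoh10
import Groth.Agent.S9514
import Groth.Agent.S0049

/-!
# Extending finite type quasi-coherent submodules from quasi-compact opens (lead)
-/

set_option autoImplicit false
universe u
open CategoryTheory CategoryTheory.Limits AlgebraicGeometry Opposite TopologicalSpace
open Groth.Agent.Lead.QCoh Groth.Agent.Lead.FinType Groth.Agent.Lead.FinPres Groth.Agent.Lead.EpiStalk

namespace Groth.Agent.Lead.Extend

variable {X : Scheme.{u}}

/-- `M` has finitely generated sections over arbitrarily small affine neighbourhoods of the points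
of `W`. -/
def FTon (M : X.Modules) (W : X.Opens) : Prop :=
  ∀ x ∈ W, ∀ N : X.Opens, x ∈ N → ∃ V0 : X.Opens, IsAffineOpen V0 ∧ x ∈ V0 ∧ V0 ≤ N ∧
    Module.Finite Γ(X, V0) Γ(M, V0)

theorem FTon.mono {M : X.Modules} {W W' : X.Opens} (h : FTon M W) (hle : W' ≤ W) : FTon M W' :=
  fun x hx N hN => h x (hle hx) N hN

theorem FTon.sup {M : X.Modules} {W W' : X.Opens} (h : FTon M W) (h' : FTon M W') :
    FTon M (W ⊔ W') := by
  intro x hx N hN
  rcases hx with hx | hx
  · exact h x hx N hN
  · exact h' x hx N hN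

theorem finite_of_eq (M : X.Modules) {A B : X.Opens} (h : A = B)
    (hf : Module.Finite Γ(X, A) Γ(M, A)) : Module.Finite Γ(X, B) Γ(M, B) := by
  subst h; exact hf

set_option backward.isDefEq.respectTransparency false in
/-- transport of finiteness: from the restriction to the ambient scheme. -/
theorem finite_image_of_finite_restrict (M : X.Modules) (U : X.Opens)
    (W' : (U : Scheme.{u}).Opens)
    (hf : Module.Finite Γ(U, W') Γ(M.restrict U.ι, W')) :
    Module.Finite Γ(X, U.ι ''ᵁ W') Γ(M, U.ι ''ᵁ W') := by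
  let σ : Γ(U, W') →+* Γ(X, U.ι ''ᵁ W') := (U.ι.appIso W').inv.hom
  haveI : RingHomSurjective σ := ⟨fun b => ⟨(U.ι.appIso W').hom.hom b, by
    show ((U.ι.appIso W').hom ≫ (U.ι.appIso W').inv) b = b
    rw [Iso.hom_inv_id]; rfl⟩⟩
  let g : Γ(M.restrict U.ι, W') →ₛₗ[σ] Γ(M, U.ι ''ᵁ W') :=
    { toFun := fun n => n
      map_add' := fun _ _ => rfl
      map_smul' := fun r n => by
        have h := restrict_smul M U W' (σ r) n n rfl
        have h2 : (U.ι.appIso W').hom (σ r) = r := by
          show ((U.ι.appIso W').inv ≫ (U.ι.appIso W').hom) r = r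
          rw [Iso.inv_hom_id]; rfl
        rw [h2] at h
        exact h }
  exact Module.Finite.of_surjective g (fun n => ⟨n, rfl⟩)

set_option backward.isDefEq.respectTransparency false in
/-- transport of finiteness: from the ambient scheme to the restriction. -/
theorem finite_restrict_of_finite_image (M : X.Modules) (U : X.Opens)
    (W' : (U : Scheme.{u}).Opens)
    (hf : Module.Finite Γ(X, U.ι ''ᵁ W') Γ(M, U.ι ''ᵁ W')) :
    Module.Finite Γ(U, W') Γ(M.restrict U.ι, W') := by
  let σ : Γ(X, U.ι ''ᵁ W') →+* Γ(U, W') := (U.ι.appIso W').hom.hom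
  haveI : RingHomSurjective σ := ⟨fun b => ⟨(U.ι.appIso W').inv.hom b, by
    show ((U.ι.appIso W').inv ≫ (U.ι.appIso W').hom) b = b
    rw [Iso.inv_hom_id]; rfl⟩⟩
  let g : Γ(M, U.ι ''ᵁ W') →ₛₗ[σ] Γ(M.restrict U.ι, W') :=
    { toFun := fun n => n
      map_add' := fun _ _ => rfl
      map_smul' := fun r n => (restrict_smul M U W' r n n rfl).symm }
  exact Module.Finite.of_surjective g (fun n => ⟨n, rfl⟩)

/-- finite type of the restriction gives `FTon`. -/
theorem fton_of_isFiniteType_restrict (M : X.Modules) [M.IsQuasicoherent] (U : X.Opens)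
    (h : SheafOfModules.IsFiniteType.{u, u, u} (R := (U : Scheme.{u}).ringCatSheaf)
      (M.restrict U.ι)) : FTon M U := by
  intro x hx N hxN
  obtain ⟨W', hW'aff, hxW', hW'N⟩ := Opens.isBasis_iff_nbhd.mp
    (U : Scheme.{u}).isBasis_affineOpens (show (⟨x, hx⟩ : U) ∈ U.ι ⁻¹ᵁ N from hxN)
  haveI : (M.restrict U.ι).IsQuasicoherent :=
    inferInstanceAs ((Scheme.Modules.restrictFunctor U.ι).obj M).IsQuasicoherent
  have hfin := finite_sections_of_isFiniteType (M.restrict U.ι) hW'aff
  refine ⟨U.ι ''ᵁ W', hW'aff.image_of_isOpenImmersion U.ι, ⟨⟨x, hx⟩, hxW', rfl⟩, ?_,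
    finite_image_of_finite_restrict M U W' hfin⟩
  rintro _ ⟨y, hy, rfl⟩
  exact hW'N hy

theorem app_bijective_of_isIso {Z : Scheme.{u}} {A B : Z.Modules} (φ : A ⟶ B) [IsIso φ]
    (O : Z.Opens) : Function.Bijective (φ.app O) :=
  ConcreteCategory.bijective_of_isIso (φ.app O)

theorem app_bijective_of_eq {A B : X.Modules} (φ : A ⟶ B) {O O' : X.Opens} (h : O = O')
    (hb : Function.Bijective (φ.app O)) : Function.Bijective (φ.app O') := by
  subst h; exact hb

set_option backward.isDefEq.respectTransparency false in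
/-- an isomorphism after restriction to `W` is bijective on sections over opens inside `W`. -/
theorem app_bijective_of_isIso_restrict {A B : X.Modules} (φ : A ⟶ B) (W : X.Opens)
    [IsIso ((Scheme.Modules.restrictFunctor W.ι).map φ)] (O : X.Opens) (hO : O ≤ W) :
    Function.Bijective (φ.app O) := by
  have h1 := app_bijective_of_isIso ((Scheme.Modules.restrictFunctor W.ι).map φ) (W.ι ⁻¹ᵁ O)
  have h2 : W.ι ''ᵁ (W.ι ⁻¹ᵁ O) = O := by
    rw [Scheme.Hom.image_preimage_eq_opensRange_inf, Scheme.Opens.opensRange_ι]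
    exact inf_eq_right.mpr hO
  exact app_bijective_of_eq φ h2 h1

/-- `FTon` transfers along maps which are bijective on sections. -/
theorem fton_of_bijOn {M M' : X.Modules} (ι : M' ⟶ M) (W : X.Opens)
    (hb : ∀ O : X.Opens, O ≤ W → Function.Bijective (ι.app O)) (h : FTon M W) : FTon M' W := by
  intro x hx N hxN
  obtain ⟨V0, hV0, hxV0, hV0N, hfin⟩ := h x hx (N ⊓ W) ⟨hxN, hx⟩
  refine ⟨V0, hV0, hxV0, hV0N.trans inf_le_left, ?_⟩
  have hbij := hb V0 (hV0N.trans inf_le_right)
  let f : Γ(M', V0) →ₗ[Γ(X, V0)] Γ(M, V0) :=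
    { toFun := fun x => ι.app V0 x
      map_add' := fun x y => map_add _ x y
      map_smul' := fun r x => Scheme.Modules.Hom.app_smul _ r x }
  exact Module.Finite.equiv (LinearEquiv.ofBijective f hbij).symm

/-- On an affine scheme, near a point with an affine neighbourhood over which `K` has finitely
generated sections, finitely many GLOBAL sections generate all stalks on a basic open. -/
theorem exists_local_global_generators (Z : Scheme.{u}) [IsAffine Z] (K : Z.Modules)
    [K.IsQuasicoherent] (x : Z) (V0 : Z.Opens) (hV0 : IsAffineOpen V0) (hx : x ∈ V0)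
    (hfin : Module.Finite Γ(Z, V0) Γ(K, V0)) :
    ∃ (f : Γ(Z, (⊤ : Z.Opens))) (_ : x ∈ Z.basicOpen f) (J : Finset Γ(K, (⊤ : Z.Opens))),
      ∀ (y : Z) (_ : y ∈ Z.basicOpen f), Submodule.span (Z.presheaf.stalk y)
        ((fun m => K.presheaf.germ ⊤ y trivial m) '' (J : Set Γ(K, (⊤ : Z.Opens)))) = ⊤ := by
  classical
  obtain ⟨S0, hS0⟩ := hfin.fg_top
  obtain ⟨f, hfV0, hxf⟩ := (isAffineOpen_top Z).exists_basicOpen_le ⟨x, hx⟩ trivial
  choose n m hm using fun t : Γ(K, V0) =>
    exists_section_of_basicOpen K (isAffineOpen_top Z) f (K.presheaf.map (homOfLE hfV0).op t)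
  refine ⟨f, hxf, S0.image m, fun y hy => ?_⟩
  have hyV0 : y ∈ V0 := hfV0 hy
  have hsp := span_germ_eq_top_of_span_eq_top K hV0
    (Subtype.val : {t // t ∈ S0} → Γ(K, V0))
    (by rw [Subtype.range_coe_subtype]; exact hS0) y hyV0
  rw [eq_top_iff, ← hsp, Submodule.span_le]
  rintro _ ⟨t, rfl⟩
  have hu : IsUnit (Z.presheaf.germ ⊤ y trivial f) := (Scheme.mem_basicOpen Z f y (show y ∈ (⊤ : Z.Opens) from trivial)).mp hy
  obtain ⟨v, hv⟩ := hu
  have h1 : K.presheaf.germ ⊤ y trivial (m t.1) =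
      (Z.presheaf.germ ⊤ y trivial f) ^ (n t.1) • K.presheaf.germ V0 y hyV0 t.1 := by
    have e1 : K.presheaf.germ (Z.basicOpen f) y hy
        (K.presheaf.map (homOfLE (Z.basicOpen_le f)).op (m t.1))
        = K.presheaf.germ ⊤ y trivial (m t.1) :=
      TopCat.Presheaf.germ_res_apply K.presheaf _ y hy _
    have e2 : K.presheaf.germ (Z.basicOpen f) y hy (K.presheaf.map (homOfLE hfV0).op t.1)
        = K.presheaf.germ V0 y hyV0 t.1 := TopCat.Presheaf.germ_res_apply K.presheaf _ y hy _
    have e3 : Z.presheaf.germ (Z.basicOpen f) y hy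
        (Z.presheaf.map (homOfLE (Z.basicOpen_le f)).op f)
        = Z.presheaf.germ ⊤ y trivial f := TopCat.Presheaf.germ_res_apply Z.presheaf _ y hy _
    rw [← e1, hm t.1, germ_smul, map_pow, e3, e2]
  have h2 : (↑(v⁻¹ ^ (n t.1)) : Z.presheaf.stalk y) • K.presheaf.germ ⊤ y trivial (m t.1) =
      K.presheaf.germ V0 y hyV0 t.1 := by
    rw [h1, ← hv, smul_smul, ← Units.val_pow_eq_pow_val, ← Units.val_mul, ← mul_pow,
      inv_mul_cancel, one_pow, Units.val_one, one_smul]
  show K.presheaf.germ V0 y hyV0 t.1 ∈ _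
  rw [← h2]
  exact Submodule.smul_mem _ _ (Submodule.subset_span
    ⟨m t.1, Finset.mem_coe.mpr (Finset.mem_image_of_mem m t.2), rfl⟩)

/-- On an affine scheme, if `K` is locally finitely generated at the points of a quasi-compact open
`W'`, then finitely many global sections generate all stalks at points of `W'`. -/
theorem exists_global_generators_on (Z : Scheme.{u}) [IsAffine Z] (K : Z.Modules)
    [K.IsQuasicoherent] (W' : Z.Opens) (hW' : IsCompact (W' : Set Z))
    (hft : ∀ x ∈ W', ∃ V0 : Z.Opens, IsAffineOpen V0 ∧ x ∈ V0 ∧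
      Module.Finite Γ(Z, V0) Γ(K, V0)) :
    ∃ (I : Type u) (_ : Fintype I) (s : I → Γ(K, (⊤ : Z.Opens))), ∀ (y : Z) (_ : y ∈ W'),
      Submodule.span (Z.presheaf.stalk y)
        (Set.range fun i => K.presheaf.germ ⊤ y trivial (s i)) = ⊤ := by
  classical
  have key : ∀ x : W', ∃ (f : Γ(Z, (⊤ : Z.Opens))) (_ : x.1 ∈ Z.basicOpen f)
      (J : Finset Γ(K, (⊤ : Z.Opens))),
      ∀ (y : Z) (_ : y ∈ Z.basicOpen f), Submodule.span (Z.presheaf.stalk y)
        ((fun m => K.presheaf.germ ⊤ y trivial m) '' (J : Set Γ(K, (⊤ : Z.Opens)))) = ⊤ := by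
    intro x
    obtain ⟨V0, hV0, hxV0, hfin⟩ := hft x.1 x.2
    exact exists_local_global_generators Z K x.1 V0 hV0 hxV0 hfin
  choose f hxf J hJ using key
  obtain ⟨T, hT⟩ := hW'.elim_finite_subcover (fun x : W' => (Z.basicOpen (f x) : Set Z))
    (fun x => (Z.basicOpen (f x)).2) (fun y hy => Set.mem_iUnion.mpr ⟨⟨y, hy⟩, hxf ⟨y, hy⟩⟩)
  let Jall : Finset Γ(K, (⊤ : Z.Opens)) := T.biUnion J
  refine ⟨{m // m ∈ Jall}, inferInstance, Subtype.val, fun y hy => ?_⟩
  obtain ⟨x, hxT, hyx⟩ : ∃ x ∈ T, y ∈ (Z.basicOpen (f x) : Set Z) := by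
    have := hT hy
    simpa using this
  rw [eq_top_iff, ← hJ x y hyx]
  apply Submodule.span_mono
  rintro _ ⟨m, hm, rfl⟩
  exact ⟨⟨m, Finset.mem_biUnion.mpr ⟨x, hxT, hm⟩⟩, rfl⟩

/-- If global sections `s i` generate the stalks of `K` at all points of `W'`, then the cokernel of
the corresponding map from a free module has no nonzero sections over opens inside `W'`. -/
theorem cokernel_sections_eq_zero {Z : Scheme.{u}} (K : Z.Modules) {I : Type u} [Fintype I]
    (s : I → Γ(K, (⊤ : Z.Opens))) (W' : Z.Opens)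
    (hs : ∀ (y : Z) (_ : y ∈ W'), Submodule.span (Z.presheaf.stalk y)
      (Set.range fun i => K.presheaf.germ ⊤ y trivial (s i)) = ⊤)
    (σ : freeM Z I ⟶ K) (hσ : ∀ i, SheafOfModules.freeHomEquiv K σ i = ofTop K (s i))
    (O' : Z.Opens) (hO : O' ≤ W') (c : Γ((cokernel σ : Z.Modules), O')) : c = 0 := by
  classical
  let s' : I → Γ(K, W') := fun i => K.presheaf.map (homOfLE (le_top : W' ≤ ⊤)).op (s i)
  have hs' : ∀ (y : Z) (hy : y ∈ W'), Submodule.span (Z.presheaf.stalk y)
      (Set.range fun i => K.presheaf.germ W' y hy (s' i)) = ⊤ := by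
    intro y hy
    rw [← hs y hy]
    congr 2
    funext i
    exact TopCat.Presheaf.germ_res_apply K.presheaf _ y hy _
  have hloc := local_sum_of_span_germ K W' I s' hs'
  apply TopCat.Presheaf.section_ext ((SheafOfModules.toSheaf _).obj (cokernel σ : Z.Modules)) O'
  intro y hy
  obtain ⟨O1, hO1, hy1, k, hk⟩ := exists_local_lift_of_epi (cokernel.π σ) O' c y hy
  obtain ⟨W1, hW1, hyW1, a, ha⟩ := hloc O1 (hO1.trans hO) k y hy1
  have h1 : K.presheaf.map (homOfLE hW1).op k =
      σ.app W1 (∑ i, a i • (ιF i).app W1 (toUnit W1 1)) := by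
    rw [map_sum, ha]
    refine Finset.sum_congr rfl (fun i _ => ?_)
    rw [Scheme.Modules.Hom.app_smul, app_ι_one K σ i W1, hσ i, secVal_ofTop]
    congr 1
    exact map_map_apply K _ _ _ (s i)
  have h2 : (cokernel.π σ).app W1 (K.presheaf.map (homOfLE hW1).op k) = 0 := by
    rw [h1]
    have h3 : (σ ≫ cokernel.π σ).app W1 (∑ i, a i • (ιF i).app W1 (toUnit W1 1)) = 0 := by
      rw [cokernel.condition]; rfl
    exact h3
  have h4 : (cokernel σ : Z.Modules).presheaf.map (homOfLE (hW1.trans hO1)).op c = 0 := by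
    rw [← map_map_apply (cokernel σ : Z.Modules) (homOfLE hW1) (homOfLE hO1)
      (homOfLE (hW1.trans hO1)) c, ← hk, ← app_naturality]
    exact h2
  have e1 := TopCat.Presheaf.germ_res_apply (cokernel σ : Z.Modules).presheaf
    (homOfLE (hW1.trans hO1)) y hyW1 c
  show (cokernel σ : Z.Modules).presheaf.germ O' y hy c =
    (cokernel σ : Z.Modules).presheaf.germ O' y hy 0
  rw [map_zero, ← e1, h4, map_zero]

set_option backward.isDefEq.respectTransparency false in
/-- One step of the extension: shrink `H` to a quasi-coherent submodule which is unchanged over `W`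
and of finite type over the affine open `V`. -/
theorem step [QuasiSeparatedSpace X] (H : X.Modules) [H.IsQuasicoherent] (W V : X.Opens)
    (hV : IsAffineOpen V) (hWV : IsCompact ((W ⊓ V : X.Opens) : Set X)) (hH : FTon H W) :
    ∃ (H' : X.Modules) (ι : H' ⟶ H), Mono ι ∧ H'.IsQuasicoherent ∧
      (∀ U : X.Opens, U ≤ W → IsIso ((Scheme.Modules.restrictFunctor U.ι).map ι)) ∧
      FTon H' (W ⊔ V) := by
  classical
  haveI : IsAffine (V : Scheme.{u}) := hV
  haveI : QuasiCompact V.ι := inferInstance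
  let RV := Scheme.Modules.restrictFunctor V.ι
  let PV := Scheme.Modules.pushforward V.ι
  let adj := Scheme.Modules.restrictAdjunction V.ι
  let K : (V : Scheme.{u}).Modules := RV.obj H
  haveI hK : K.IsQuasicoherent :=
    inferInstanceAs ((Scheme.Modules.restrictFunctor V.ι).obj H).IsQuasicoherent
  let W' : (V : Scheme.{u}).Opens := V.ι ⁻¹ᵁ W
  have hW'c : IsCompact (W' : Set V) := by
    have h1 : (W' : Set V) = V.ι ⁻¹' ((W ⊓ V : X.Opens) : Set X) := by
      ext z
      constructor
      · intro h; exact ⟨h, z.2⟩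
      · intro h; exact h.1
    rw [h1]
    refine (V.ι.isOpenEmbedding.isInducing.isCompact_preimage_iff ?_).mpr hWV
    intro z hz
    exact ⟨⟨z, hz.2⟩, rfl⟩
  have hft : ∀ x' ∈ W', ∃ V0' : (V : Scheme.{u}).Opens, IsAffineOpen V0' ∧ x' ∈ V0' ∧
      Module.Finite Γ(V, V0') Γ(K, V0') := by
    intro x' hx'
    obtain ⟨V0, hV0, hxV0, hV0le, hfin⟩ := hH (V.ι x') hx' (W ⊓ V) ⟨hx', x'.2⟩
    have hV0V : V0 ≤ V.ι.opensRange := by
      rw [Scheme.Opens.opensRange_ι]; exact hV0le.trans inf_le_right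
    refine ⟨V.ι ⁻¹ᵁ V0, hV0.preimage_of_isOpenImmersion V.ι hV0V, hxV0, ?_⟩
    have heq : V0 = V.ι ''ᵁ (V.ι ⁻¹ᵁ V0) := by
      rw [Scheme.Hom.image_preimage_eq_opensRange_inf]
      exact (inf_eq_right.mpr hV0V).symm
    exact finite_restrict_of_finite_image H V (V.ι ⁻¹ᵁ V0) (finite_of_eq H heq hfin)
  obtain ⟨I, hI, s, hs⟩ := exists_global_generators_on (V : Scheme.{u}) K W' hW'c hft
  let σ : freeM (V : Scheme.{u}) I ⟶ K := K.freeHomEquiv.symm (fun i => ofTop K (s i))
  have hσ : ∀ i, SheafOfModules.freeHomEquiv K σ i = ofTop K (s i) :=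
    fun i => congrFun (K.freeHomEquiv.apply_symm_apply (fun i => ofTop K (s i))) i
  let C : (V : Scheme.{u}).Modules := cokernel σ
  let π : K ⟶ C := cokernel.π σ
  have hC0 : ∀ (O' : (V : Scheme.{u}).Opens), O' ≤ W' → ∀ c : Γ(C, O'), c = 0 :=
    fun O' hO' c => cokernel_sections_eq_zero K s W' hs σ hσ O' hO' c
  haveI : (freeM (V : Scheme.{u}) I).IsQuasicoherent := inferInstance
  haveI hCq : C.IsQuasicoherent := (isQuasicoherent_kernel_cokernel σ).2
  haveI hPC : (PV.obj C).IsQuasicoherent := isQuasicoherent_pushforward V.ι C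
  let cm : H ⟶ PV.obj C := adj.unit.app H ≫ PV.map π
  haveI hH' : (kernel cm).IsQuasicoherent := (isQuasicoherent_kernel_cokernel cm).1
  have hiso : ∀ U : X.Opens, U ≤ W →
      IsIso ((Scheme.Modules.restrictFunctor U.ι).map (kernel.ι cm)) := by
    intro U hUW
    have h0 : (Scheme.Modules.restrictFunctor U.ι).map cm = 0 := by
      ext O'' x
      have hle : V.ι ⁻¹ᵁ (U.ι ''ᵁ O'') ≤ W' := by
        intro z hz
        obtain ⟨u, _, hu⟩ := hz
        show V.ι z ∈ W
        rw [← hu]; exact hUW u.2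
      have e1 := hC0 _ hle (show Γ(C, V.ι ⁻¹ᵁ (U.ι ''ᵁ O'')) from
        (((Scheme.Modules.restrictFunctor U.ι).map cm).app O'') x)
      have e2 := hC0 _ hle (show Γ(C, V.ι ⁻¹ᵁ (U.ι ''ᵁ O'')) from
        ((0 : (Scheme.Modules.restrictFunctor U.ι).obj H ⟶
          (Scheme.Modules.restrictFunctor U.ι).obj (PV.obj C)).app O'') x)
      exact e1.trans e2.symm
    haveI := preservesFiniteLimits_restrictFunctor U.ι
    have hlim := KernelFork.mapIsLimit _ (kernelIsKernel cm) (Scheme.Modules.restrictFunctor U.ι)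
    exact KernelFork.IsLimit.isIso_ι _ hlim h0
  refine ⟨kernel cm, kernel.ι cm, inferInstance, hH', hiso, ?_⟩
  have hW : FTon (kernel cm) W := by
    haveI := hiso W le_rfl
    exact fton_of_bijOn (kernel.ι cm) W
      (fun O hO => app_bijective_of_isIso_restrict (kernel.ι cm) W O hO) hH
  have hVft : FTon (kernel cm) V := by
    apply fton_of_isFiniteType_restrict
    haveI := preservesFiniteLimits_restrictFunctor V.ι
    have e1 : RV.obj (kernel cm) ≅ kernel (RV.map cm) := restrictKernelIso V.ι cm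
    haveI : IsIso (adj.counit.app C) :=
      inferInstanceAs (IsIso ((Scheme.Modules.restrictAdjunction V.ι).counit.app C))
    have hπ : RV.map cm ≫ adj.counit.app C = π := by
      show RV.map (adj.unit.app H ≫ PV.map π) ≫ adj.counit.app C = π
      rw [Functor.map_comp, Category.assoc]
      have hn : RV.map (PV.map π) ≫ adj.counit.app C = adj.counit.app K ≫ π :=
        adj.counit.naturality π
      rw [hn, ← Category.assoc]
      have ht : RV.map (adj.unit.app H) ≫ adj.counit.app K = 𝟙 _ :=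
        adj.left_triangle_components H
      rw [ht, Category.id_comp]
    have e2 : kernel (RV.map cm) ≅ kernel π :=
      (kernelCompMono (RV.map cm) (adj.counit.app C)).symm ≪≫ kernelIsoOfEq hπ
    haveI : SheafOfModules.IsFiniteType.{u, u, u} (R := (V : Scheme.{u}).ringCatSheaf)
        (freeM (V : Scheme.{u}) I) :=
      Groth.Agent.Lead.UnitCoh.isFiniteType_free (V : Scheme.{u}) I
    have hft1 : SheafOfModules.IsFiniteType.{u, u, u} (R := (V : Scheme.{u}).ringCatSheaf)
        (kernel π) :=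
      Groth.Agent.S9514.isFiniteType_of_epi (Abelian.factorThruImage σ)
    haveI := hft1
    exact Groth.Agent.S9514.isFiniteType_of_epi (e1 ≪≫ e2).inv
  exact hW.sup hVft

/-- Iterating `step` over a finite family of affine opens. -/
theorem exists_ft_sub_aux [QuasiSeparatedSpace X] (H : X.Modules) [H.IsQuasicoherent]
    (U : X.Opens) (hU : IsCompact (U : Set X)) (hH : FTon H U) (s : Finset X.affineOpens) :
    ∃ (H' : X.Modules) (ι : H' ⟶ H), Mono ι ∧ H'.IsQuasicoherent ∧
      IsIso ((Scheme.Modules.restrictFunctor U.ι).map ι) ∧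
      FTon H' (U ⊔ s.sup (fun V : X.affineOpens => (V : X.Opens))) ∧
      IsCompact ((U ⊔ s.sup (fun V : X.affineOpens => (V : X.Opens)) : X.Opens) : Set X) := by
  classical
  induction s using Finset.induction_on with
  | empty =>
    refine ⟨H, 𝟙 H, inferInstance, inferInstance, ?_, ?_, ?_⟩
    · rw [CategoryTheory.Functor.map_id]; infer_instance
    · rw [Finset.sup_empty, sup_bot_eq]; exact hH
    · rw [Finset.sup_empty, sup_bot_eq]; exact hU
  | insert V s hVs ih =>
    obtain ⟨H₁, ι₁, hm₁, hq₁, hi₁, hft₁, hc₁⟩ := ih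
    haveI := hq₁
    have hWV : IsCompact (((U ⊔ s.sup (fun V : X.affineOpens => (V : X.Opens))) ⊓
        (V : X.Opens) : X.Opens) : Set X) := by
      rw [Opens.coe_inf]
      exact QuasiSeparatedSpace.inter_isCompact _ _
        (U ⊔ s.sup (fun V : X.affineOpens => (V : X.Opens))).2 hc₁ V.1.2 V.2.isCompact
    obtain ⟨H₂, ι₂, hm₂, hq₂, hi₂, hft₂⟩ := step H₁ _ V.1 V.2 hWV hft₁
    have heq : U ⊔ (insert V s).sup (fun V : X.affineOpens => (V : X.Opens)) =
        (U ⊔ s.sup (fun V : X.affineOpens => (V : X.Opens))) ⊔ (V : X.Opens) := by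
      rw [Finset.sup_insert, sup_comm (V : X.Opens), sup_assoc]
    refine ⟨H₂, ι₂ ≫ ι₁, ?_, hq₂, ?_, ?_, ?_⟩
    · haveI := hm₁; haveI := hm₂; exact mono_comp ι₂ ι₁
    · rw [Functor.map_comp]
      haveI := hi₁
      haveI := hi₂ U le_sup_left
      infer_instance
    · rw [heq]; exact hft₂
    · rw [heq, Opens.coe_sup]
      exact hc₁.union V.2.isCompact

set_option backward.isDefEq.respectTransparency false in
/-- The canonical quasi-coherent extension of a submodule of `F|_U` (fibre product with `j_* G`). -/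
theorem canonical_ext (U : X.Opens) [QuasiCompact U.ι] (F : X.Modules) [F.IsQuasicoherent]
    (G : (U : Scheme.{u}).Modules) [G.IsQuasicoherent] (φ : G ⟶ F.restrict U.ι) [Mono φ] :
    ∃ (H : X.Modules) (ψ : H ⟶ F) (e : H.restrict U.ι ≅ G), Mono ψ ∧ H.IsQuasicoherent ∧
      e.hom ≫ φ = (Scheme.Modules.restrictFunctor U.ι).map ψ := by
  let adj := Scheme.Modules.restrictAdjunction U.ι
  let R := Scheme.Modules.restrictFunctor U.ι
  let P := Scheme.Modules.pushforward U.ι
  let a : P.obj G ⟶ P.obj (R.obj F) := P.map φ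
  let b : F ⟶ P.obj (R.obj F) := adj.unit.app F
  haveI h1 : (P.obj G).IsQuasicoherent := isQuasicoherent_pushforward U.ι G
  haveI h2 : (R.obj F).IsQuasicoherent :=
    inferInstanceAs ((Scheme.Modules.restrictFunctor U.ι).obj F).IsQuasicoherent
  haveI h3 : (P.obj (R.obj F)).IsQuasicoherent := isQuasicoherent_pushforward U.ι _
  have hH : (pullback a b).IsQuasicoherent := isQuasicoherent_pullback a b
  haveI := preservesFiniteLimits_restrictFunctor U.ι
  have hpb : IsPullback (R.map (pullback.fst a b)) (R.map (pullback.snd a b)) (R.map a)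
      (R.map b) := (IsPullback.of_hasPullback a b).map R
  have htri : R.map b ≫ adj.counit.app (R.obj F) = 𝟙 _ := adj.left_triangle_components F
  haveI hb : IsIso (R.map b) := by
    have : IsIso (R.map b ≫ adj.counit.app (R.obj F)) := by rw [htri]; infer_instance
    exact IsIso.of_isIso_comp_right (R.map b) (adj.counit.app (R.obj F))
  haveI hfst : IsIso (R.map (pullback.fst a b)) := hpb.isIso_fst_of_isIso
  haveI hc : IsIso (adj.counit.app G) := inferInstance
  let e : R.obj (pullback a b) ≅ G := asIso (R.map (pullback.fst a b)) ≪≫ asIso (adj.counit.app G)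
  haveI hma : Mono a := inferInstanceAs (Mono ((Scheme.Modules.pushforward U.ι).map φ))
  refine ⟨pullback a b, pullback.snd a b, e, inferInstance, hH, ?_⟩
  have hnat : adj.counit.app G ≫ φ = R.map (P.map φ) ≫ adj.counit.app (R.obj F) :=
    (adj.counit.naturality φ).symm
  calc e.hom ≫ φ = R.map (pullback.fst a b) ≫ adj.counit.app G ≫ φ := by
        simp only [e, Iso.trans_hom, asIso_hom, Category.assoc]
    _ = R.map (pullback.fst a b) ≫ R.map a ≫ adj.counit.app (R.obj F) := by rw [hnat]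
    _ = (R.map (pullback.snd a b) ≫ R.map b) ≫ adj.counit.app (R.obj F) := by
        rw [← Category.assoc, hpb.w]
    _ = R.map (pullback.snd a b) := by rw [Category.assoc, htri, Category.comp_id]

set_option backward.isDefEq.respectTransparency false in
/-- Extension of finite type quasi-coherent submodules from a quasi-compact open of a qcqs
scheme. -/
theorem main [CompactSpace X] [QuasiSeparatedSpace X] (U : X.Opens) (hU : IsCompact (U : Set X))
    (G : X.Modules) [G.IsQuasicoherent] (F' : (U : Scheme.{u}).Modules) [F'.IsQuasicoherent]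
    (hF' : SheafOfModules.IsFiniteType.{u, u, u} (R := (U : Scheme.{u}).ringCatSheaf) F')
    (i' : F' ⟶ G.restrict U.ι) [Mono i'] :
    ∃ (F : X.Modules) (i : F ⟶ G) (e : F.restrict U.ι ≅ F'), Mono i ∧ F.IsQuasicoherent ∧
      SheafOfModules.IsFiniteType.{u, u, u} (R := X.ringCatSheaf) F ∧
      e.hom ≫ i' = (Scheme.Modules.restrictFunctor U.ι).map i := by
  classical
  haveI : CompactSpace U := isCompact_iff_compactSpace.mp hU
  haveI : QuasiCompact U.ι := inferInstance
  obtain ⟨H0, ψ0, e0, hmono0, hq0, hcomp0⟩ := canonical_ext U G F' i'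
  haveI := hq0
  have hft0 : FTon H0 U := by
    apply fton_of_isFiniteType_restrict
    haveI := hF'
    exact Groth.Agent.S9514.isFiniteType_of_epi e0.inv
  obtain ⟨t, ht⟩ := isCompact_univ.elim_finite_subcover
    (fun V : X.affineOpens => (V.1 : Set X)) (fun V => V.1.2) (by
      intro x _
      have : x ∈ (⨆ V : X.affineOpens, (V : X.Opens)) := by
        rw [iSup_affineOpens_eq_top]; trivial
      obtain ⟨V, hV⟩ := Opens.mem_iSup.mp this
      exact Set.mem_iUnion.mpr ⟨V, hV⟩)
  obtain ⟨H1, ι1, hm1, hq1, hi1, hft1, -⟩ := exists_ft_sub_aux H0 U hU hft0 t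
  haveI := hq1
  haveI := hi1
  haveI := hm1
  haveI := hmono0
  have htop : ∀ x : X, x ∈ U ⊔ t.sup (fun V : X.affineOpens => (V : X.Opens)) := by
    intro x
    have hx := ht (Set.mem_univ x)
    obtain ⟨V, hVt, hxV⟩ : ∃ V ∈ t, x ∈ (V.1 : Set X) := by simpa using hx
    exact Or.inr ((Finset.le_sup (f := fun V : X.affineOpens => (V : X.Opens)) hVt) hxV)
  have hFT : SheafOfModules.IsFiniteType.{u, u, u} (R := X.ringCatSheaf) H1 := by
    apply isFiniteType_of_finite_sections
    intro x
    obtain ⟨V0, hV0, hxV0, -, hfin⟩ := hft1 x (htop x) ⊤ trivial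
    exact ⟨V0, hV0, hxV0, hfin⟩
  refine ⟨H1, ι1 ≫ ψ0, asIso ((Scheme.Modules.restrictFunctor U.ι).map ι1) ≪≫ e0,
    mono_comp _ _, hq1, hFT, ?_⟩
  rw [Iso.trans_hom, asIso_hom, Category.assoc, hcomp0, ← Functor.map_comp]

end Groth.Agent.Lead.Extend
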