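import Groth.Agent.Lead.FinPres
import Groth.Agent.Lib.Helper22.FitLocal
import Groth.Prelude.Def_Fitting

/-!
# Values of the Fitting ideal sheaves on affine opens (lead)
-/

set_option autoImplicit false
universe u
open CategoryTheory CategoryTheory.Limits AlgebraicGeometry Opposite TopologicalSpace
open Groth.Agent.Lead.QCoh Groth.Agent.Lead.FinType

namespace Groth.Agent.Lead.FittSheaf

variable {X : Scheme.{u}}

set_option backward.isDefEq.respectTransparency false in
/-- Fitting ideals of the sections of a quasi-coherent module commute with passing to a basic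
open. -/
theorem fitt_basicOpen (F : X.Modules) [F.IsQuasicoherent] {U : X.Opens} (f : Γ(X, U))
    (hU : IsAffineOpen U) (hfin : Module.Finite Γ(X, U) Γ(F, U)) (k : ℕ) :
    Fitt.ideal Γ(X, X.basicOpen f) Γ(F, X.basicOpen f) k =
      (Fitt.ideal Γ(X, U) Γ(F, U) k).map (algebraMap Γ(X, U) Γ(X, X.basicOpen f)) := by
  letI : Module Γ(X, U) Γ(F, X.basicOpen f) :=
    Module.compHom _ (algebraMap Γ(X, U) Γ(X, X.basicOpen f))
  haveI : IsScalarTower Γ(X, U) Γ(X, X.basicOpen f) Γ(F, X.basicOpen f) :=
    IsScalarTower.of_algebraMap_smul (fun r m => rfl)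
  let g : Γ(F, U) →ₗ[Γ(X, U)] Γ(F, X.basicOpen f) :=
    { toFun := fun m => F.presheaf.map (homOfLE (X.basicOpen_le f)).op m
      map_add' := fun a b => map_add _ a b
      map_smul' := fun r m => by
        show F.presheaf.map (homOfLE (X.basicOpen_le f)).op (r • m) =
          (X.presheaf.map (homOfLE (X.basicOpen_le f)).op r) •
            F.presheaf.map (homOfLE (X.basicOpen_le f)).op m
        exact Scheme.Modules.map_smul _ _ _ _ }
  haveI : IsLocalization.Away f Γ(X, X.basicOpen f) := hU.isLocalization_basicOpen f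
  have hu : IsUnit (algebraMap Γ(X, U) Γ(X, X.basicOpen f) f) :=
    IsLocalization.Away.algebraMap_isUnit f
  have h₁ : IsUnit (algebraMap Γ(X, U) (Module.End Γ(X, U) Γ(F, X.basicOpen f)) f) := by
    rw [Module.End.isUnit_iff]
    obtain ⟨v, hv⟩ := hu
    constructor
    · intro a b hab
      have hab' : (v : Γ(X, X.basicOpen f)) • a = (v : Γ(X, X.basicOpen f)) • b := by
        rw [hv]; exact hab
      calc a = (↑v⁻¹ : Γ(X, X.basicOpen f)) • ((v : Γ(X, X.basicOpen f)) • a) := by
            rw [smul_smul, Units.inv_mul, one_smul]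
        _ = (↑v⁻¹ : Γ(X, X.basicOpen f)) • ((v : Γ(X, X.basicOpen f)) • b) := by rw [hab']
        _ = b := by rw [smul_smul, Units.inv_mul, one_smul]
    · intro b
      refine ⟨(↑v⁻¹ : Γ(X, X.basicOpen f)) • b, ?_⟩
      show (algebraMap Γ(X, U) Γ(X, X.basicOpen f) f) • ((↑v⁻¹ : Γ(X, X.basicOpen f)) • b) = b
      rw [← hv, smul_smul, Units.mul_inv, one_smul]
  have h₂ : ∀ y : Γ(F, X.basicOpen f), ∃ (n : ℕ) (m : Γ(F, U)), f ^ n • y = g m := by
    intro y
    obtain ⟨n, t, ht⟩ := exists_section_of_basicOpen F hU f y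
    refine ⟨n, t, ?_⟩
    show (algebraMap Γ(X, U) Γ(X, X.basicOpen f) (f ^ n)) • y = _
    rw [map_pow]
    exact ht.symm
  have h₃ : ∀ m : Γ(F, U), g m = 0 → ∃ n : ℕ, f ^ n • m = 0 := fun m hm =>
    exists_pow_smul_eq_zero F hU f m hm
  haveI : IsLocalizedModule.Away f g := IsLocalizedModule.Away.mk_of_addCommGroup h₁ h₂ h₃
  have hbc : IsBaseChange Γ(X, X.basicOpen f) g :=
    IsLocalizedModule.isBaseChange (Submonoid.powers f) Γ(X, X.basicOpen f) g
  rw [← Groth.Agent.Helper22.FitBase.ideal_baseChange (R' := Γ(X, X.basicOpen f))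
    (M := Γ(F, U)) k]
  exact (Groth.Agent.Helper22.FitLocal.ideal_congr hbc.equiv k).symm

set_option backward.isDefEq.respectTransparency false in
/-- **Values of the Fitting ideal sheaf**: for a quasi-coherent module of finite type, the sections
of `Fitt.sheafIdeal F k` over an affine open are the Fitting ideal of the module of sections. -/
theorem sheafIdeal_ideal (F : X.Modules) [F.IsQuasicoherent]
    [SheafOfModules.IsFiniteType.{u, u, u} (R := X.ringCatSheaf) F] (k : ℕ)
    (U : X.affineOpens) :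
    (Fitt.sheafIdeal F k).ideal U = Fitt.ideal Γ(X, U.1) Γ(F, U.1) k := by
  let J : X.IdealSheafData :=
    { ideal := fun U => Fitt.ideal Γ(X, U.1) Γ(F, U.1) k
      map_ideal_basicOpen := fun U f =>
        (fitt_basicOpen F f U.2 (finite_sections_of_isFiniteType F U.2) k).symm }
  have h : Fitt.sheafIdeal F k = J := Scheme.IdealSheafData.ofIdeals_ideal J
  rw [h]

end Groth.Agent.Lead.FittSheaf
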