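import Groth.Agent.Lead.StalkExact

/-!
# The structure sheaf is quasi-coherent of finite type
-/

universe u

open CategoryTheory CategoryTheory.Limits AlgebraicGeometry Opposite TopologicalSpace
open Groth.Agent.Lead.QCoh Groth.Agent.Lead.EpiStalk Groth.Agent.Lead.FinType

namespace Groth.Agent.Lead.UnitCoh

variable (X : Scheme.{u})

/-- the projection of the free module on one generator. -/
noncomputable def pr : freeM X PUnit.{u + 1} ⟶ unitM X :=
  Cofan.IsColimit.desc (SheafOfModules.isColimitFreeCofan (R := X.ringCatSheaf) PUnit.{u + 1})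
    (fun _ => 𝟙 (unitM X))

theorem ι_pr (j : PUnit.{u + 1}) : ιF j ≫ pr X = 𝟙 (unitM X) :=
  Cofan.IsColimit.fac
    (SheafOfModules.isColimitFreeCofan (R := X.ringCatSheaf) PUnit.{u + 1}) _ j

/-- the structure sheaf is the free module on one generator. -/
noncomputable def unitIsoFree : unitM X ≅ freeM X PUnit.{u + 1} where
  hom := ιF PUnit.unit
  inv := pr X
  hom_inv_id := ι_pr X PUnit.unit
  inv_hom_id := by
    refine Cofan.IsColimit.hom_ext
      (SheafOfModules.isColimitFreeCofan (R := X.ringCatSheaf) PUnit.{u + 1}) _ _ (fun j => ?_)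
    change ιF j ≫ (pr X ≫ ιF PUnit.unit) = ιF j ≫ 𝟙 _
    rw [← Category.assoc, ι_pr, Category.id_comp, Category.comp_id]

theorem isQuasicoherent_unit : (unitM X).IsQuasicoherent :=
  (SheafOfModules.isQuasicoherent.{u} _).prop_of_iso (unitIsoFree X).symm inferInstance

set_option backward.isDefEq.respectTransparency false in
theorem isFiniteType_free (I : Type u) [Finite I] :
    SheafOfModules.IsFiniteType.{u, u, u} (R := X.ringCatSheaf) (freeM X I) := by
  let G := SheafOfModules.free.generatingSections (R := X.ringCatSheaf) I
  haveI : G.IsFiniteType := ⟨(inferInstance : Finite I)⟩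
  have hσ : SheafOfModules.LocalGeneratorsData.IsFiniteType.{u, u, u, u}
      (R := X.ringCatSheaf) (M := freeM X I) (G.localGeneratorsData) := by
    constructor
    intro x
    show (G.map _ _).IsFiniteType
    infer_instance
  constructor
  exact Exists.intro G.localGeneratorsData hσ

theorem isFiniteType_unit :
    SheafOfModules.IsFiniteType.{u, u, u} (R := X.ringCatSheaf) (unitM X) := by
  haveI := isFiniteType_free X PUnit.{u + 1}
  exact Groth.Agent.S9514.isFiniteType_of_epi (unitIsoFree X).inv

end Groth.Agent.Lead.UnitCoh
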