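import Groth.Agent.Lead.LocFree
import Groth.Agent.Lead.FittSheaf
import Groth.Agent.Lead.UnitCoh
import Groth.Agent.Lib.Helper22.FitSpan
import Groth.Agent.Lib.Helper22.Fitting
import Mathlib.RingTheory.LocalProperties.FinitePresentation

/-!
# Sections of finitely presented modules over affine opens are finitely presented (lead)
-/

set_option autoImplicit false
universe u
open CategoryTheory CategoryTheory.Limits AlgebraicGeometry Opposite TopologicalSpace
open Groth.Agent.Lead.QCoh Groth.Agent.Lead.FinType Groth.Agent.Lead.FinPres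
open Groth.Agent.Lead.AffSurj Groth.Agent.Lead.FreeEpi Groth.Agent.Lead.Extend
open Groth.Agent.Lead.FreeIso Groth.Agent.Lead.LocFree Groth.Agent.Lead.StalkExact

namespace Groth.Agent.Lead.FPSec

/-- transport of finite presentation along an isomorphism of rings acting compatibly. -/
theorem fp_transport {R R' : Type u} [CommRing R] [CommRing R'] (e : R ≃+* R') {M : Type u}
    [AddCommGroup M] [Module R M] [Module R' M] (h : ∀ (r : R) (m : M), e r • m = r • m)
    [Module.FinitePresentation R' M] : Module.FinitePresentation R M := by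
  classical
  haveI : Module.Finite R' M := inferInstance
  obtain ⟨n, f', hf'⟩ := Module.Finite.exists_fin' R' M
  have hker' : (LinearMap.ker f').FG := Module.FinitePresentation.fg_ker f' hf'
  let f : (Fin n → R) →ₗ[R] M :=
    { toFun := fun c => f' (fun i => e (c i))
      map_add' := fun a b => by
        rw [← map_add]; congr 1; funext i; simp
      map_smul' := fun r c => by
        simp only [RingHom.id_apply]
        rw [← h, ← map_smul]; congr 1; funext i; simp }
  have hf : Function.Surjective f := by
    intro m
    obtain ⟨c', rfl⟩ := hf' m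
    refine ⟨fun i => e.symm (c' i), ?_⟩
    show f' (fun i => e (e.symm (c' i))) = f' c'
    congr 1; funext i; simp
  obtain ⟨S', hS'⟩ := hker'
  have hfg : (LinearMap.ker f).FG := by
    refine ⟨S'.image (fun k => fun i => e.symm (k i)), ?_⟩
    apply le_antisymm
    · rw [Submodule.span_le]
      intro c hc
      simp only [Finset.coe_image, Set.mem_image] at hc
      obtain ⟨k, hk, rfl⟩ := hc
      have hk' : k ∈ LinearMap.ker f' := by rw [← hS']; exact Submodule.subset_span hk
      show f' (fun i => e (e.symm (k i))) = 0
      have : (fun i => e (e.symm (k i))) = k := by funext i; simp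
      rw [this]; exact hk'
    · intro c hc
      have hc' : (fun i => e (c i)) ∈ Submodule.span R' (S' : Set (Fin n → R')) := by
        rw [hS']; exact hc
      have key : ∀ y : Fin n → R', y ∈ Submodule.span R' (S' : Set (Fin n → R')) →
          (fun i => e.symm (y i)) ∈ Submodule.span R
            ((S'.image (fun k => fun i => e.symm (k i)) : Finset (Fin n → R)) : Set (Fin n → R)) := by
        intro y hy
        induction hy using Submodule.span_induction with
        | mem y hy =>
          refine Submodule.subset_span ?_
          simp only [Finset.coe_image]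
          exact ⟨y, hy, rfl⟩
        | zero =>
          have : (fun i => e.symm ((0 : Fin n → R') i)) = 0 := by funext i; simp
          rw [this]; exact Submodule.zero_mem _
        | add y z _ _ hy hz =>
          have : (fun i => e.symm ((y + z) i)) =
              (fun i => e.symm (y i)) + (fun i => e.symm (z i)) := by funext i; simp
          rw [this]; exact Submodule.add_mem _ hy hz
        | smul r' y _ hy =>
          have : (fun i => e.symm ((r' • y) i)) = e.symm r' • (fun i => e.symm (y i)) := by
            funext i; simp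
          rw [this]; exact Submodule.smul_mem _ _ hy
      have h3 := key _ hc'
      have hcc : (fun i => e.symm (e (c i))) = c := by funext i; simp
      rw [hcc] at h3
      exact h3
  exact Module.finitePresentation_of_free_of_surjective f hf hfg

variable {X : Scheme.{u}}

set_option backward.isDefEq.respectTransparency false in
/-- A finitely presented module has, locally, a finite presentation on the open subscheme. -/
theorem exists_presentation_restrict (M : X.Modules)
    [hM : SheafOfModules.IsFinitePresentation.{u, u, u} (R := X.ringCatSheaf) M] (x : X) :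
    ∃ (U : X.Opens) (_ : x ∈ U) (P : (M.restrict U.ι).Presentation), P.IsFinite := by
  obtain ⟨σ, hσ⟩ := hM.exists_quasicoherentData
  have hcov : IsOpenCover σ.X := (Opens.coversTop_iff _ _).mp σ.coversTop
  obtain ⟨i, hi⟩ : ∃ i, x ∈ σ.X i := by
    have : x ∈ (⨆ i, σ.X i : X.Opens) := by rw [hcov.iSup_eq_top]; trivial
    simpa [Opens.mem_iSup] using this
  refine ⟨σ.X i, hi, ?_⟩
  let P := σ.presentation i
  have hP : P.IsFinite := hσ.isFinite_presentation i
  let e := Scheme.Modules.overEquiv (σ.X i)
  have : PreservesColimitsOfSize.{u, u} e.functor := inferInstance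
  let P1 := P.map e.functor ((σ.X i).sheafOfModulesEquivOverUnit X.ringCatSheaf).symm
  let P2 := SheafOfModules.Presentation.ofIsIso.{u, u, u}
    ((Scheme.Modules.overFunctorEquiv (σ.X i)).app M).hom P1
  have h1 : Finite P.generators.I := hP.isFiniteType_generators.finite
  have h2 : Finite P.relations.I := hP.isFiniteType_relations.finite
  exact ⟨P2, ⟨⟨h1⟩, ⟨h2⟩⟩⟩

set_option backward.isDefEq.respectTransparency false in
/-- The sections over an affine open of a module with a finite global presentation are finitely
presented. -/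
theorem fp_sections_of_presentation {Z : Scheme.{u}} (N : Z.Modules) (P : N.Presentation)
    [hP : P.IsFinite] {W : Z.Opens} (hW : IsAffineOpen W) :
    Module.FinitePresentation Γ(Z, W) Γ(N, W) := by
  classical
  haveI : N.IsQuasicoherent := P.isQuasicoherent
  haveI : Finite P.generators.I := hP.isFiniteType_generators.finite
  letI : Fintype P.generators.I := Fintype.ofFinite _
  haveI : Finite P.relations.I := hP.isFiniteType_relations.finite
  let π : freeM Z P.generators.I ⟶ N := P.generators.π
  haveI : Epi π := P.generators.epi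
  let ρ : freeM Z P.relations.I ⟶ (kernel π : Z.Modules) := P.relations.π
  haveI : Epi ρ := P.relations.epi
  haveI : (freeM Z P.generators.I).IsQuasicoherent := inferInstance
  haveI : (kernel π : Z.Modules).IsQuasicoherent := (isQuasicoherent_kernel_cokernel π).1
  haveI : SheafOfModules.IsFiniteType.{u, u, u} (R := Z.ringCatSheaf) (freeM Z P.relations.I) :=
    Groth.Agent.Lead.UnitCoh.isFiniteType_free Z P.relations.I
  haveI : SheafOfModules.IsFiniteType.{u, u, u} (R := Z.ringCatSheaf) (kernel π : Z.Modules) :=
    Groth.Agent.S9514.isFiniteType_of_epi ρ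
  haveI hKfin : Module.Finite Γ(Z, W) Γ((kernel π : Z.Modules), W) :=
    finite_sections_of_isFiniteType (kernel π : Z.Modules) hW
  obtain ⟨hproj, hfin⟩ := projective_sections_of_retract (freeM Z P.generators.I) (𝟙 _) (𝟙 _)
    (Category.id_comp _) W
  haveI := hproj
  haveI := hfin
  haveI : Module.FinitePresentation Γ(Z, W) Γ(freeM Z P.generators.I, W) :=
    Module.finitePresentation_of_projective _ _
  let l : Γ(freeM Z P.generators.I, W) →ₗ[Γ(Z, W)] Γ(N, W) :=
    { toFun := fun x => π.app W x
      map_add' := fun x y => map_add _ x y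
      map_smul' := fun r x => Scheme.Modules.Hom.app_smul _ r x }
  let kι : Γ((kernel π : Z.Modules), W) →ₗ[Γ(Z, W)] Γ(freeM Z P.generators.I, W) :=
    { toFun := fun x => (kernel.ι π).app W x
      map_add' := fun x y => map_add _ x y
      map_smul' := fun r x => Scheme.Modules.Hom.app_smul _ r x }
  have hl : Function.Surjective l := app_surjective_of_isAffineOpen π hW
  have hker : LinearMap.ker l = LinearMap.range kι := by
    ext σ
    constructor
    · intro hσ
      have hS : (ShortComplex.mk (kernel.ι π) π (kernel.condition π)).Exact :=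
        ShortComplex.exact_of_f_is_kernel _ (kernelIsKernel π)
      obtain ⟨k, hk⟩ := app_exact' (ShortComplex.mk (kernel.ι π) π (kernel.condition π)) hS W σ hσ
      exact ⟨k, hk⟩
    · rintro ⟨k, rfl⟩
      show π.app W ((kernel.ι π).app W k) = 0
      have : (kernel.ι π ≫ π).app W k = 0 := by rw [kernel.condition]; rfl
      exact this
  have hfg : (LinearMap.ker l).FG := by
    rw [hker, LinearMap.range_eq_map]
    exact (Module.Finite.fg_top).map kι
  exact Module.finitePresentation_of_surjective l hl hfg

set_option backward.isDefEq.respectTransparency false in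
theorem fp_restrict_transport (F : X.Modules) (V : X.Opens) (W' : (V : Scheme.{u}).Opens)
    (h : Module.FinitePresentation Γ(V, W') Γ(F.restrict V.ι, W')) :
    Module.FinitePresentation Γ(X, V.ι ''ᵁ W') Γ(F, V.ι ''ᵁ W') := by
  letI : Module Γ(V, W') Γ(F, V.ι ''ᵁ W') :=
    (inferInstance : Module Γ(V, W') Γ(F.restrict V.ι, W'))
  haveI : Module.FinitePresentation Γ(V, W') Γ(F, V.ι ''ᵁ W') := h
  exact fp_transport (V.ι.appIso W').commRingCatIsoToRingEquiv
    (fun b m => restrict_smul F V W' b m m rfl)

theorem fp_of_eq (F : X.Modules) {O O' : X.Opens} (h : O = O')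
    (hfp : Module.FinitePresentation Γ(X, O) Γ(F, O)) :
    Module.FinitePresentation Γ(X, O') Γ(F, O') := by
  subst h; exact hfp

set_option backward.isDefEq.respectTransparency false in
theorem fp_basicOpen_local (F : X.Modules)
    [hF : SheafOfModules.IsFinitePresentation.{u, u, u} (R := X.ringCatSheaf) F]
    {U : X.Opens} (hU : IsAffineOpen U) (x : X) (hx : x ∈ U) :
    ∃ g : Γ(X, U), x ∈ X.basicOpen g ∧
      Module.FinitePresentation Γ(X, X.basicOpen g) Γ(F, X.basicOpen g) := by
  obtain ⟨V, hxV, P, hP⟩ := exists_presentation_restrict F x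
  obtain ⟨g, hgV, hxg⟩ := hU.exists_basicOpen_le (V := V) ⟨x, hxV⟩ hx
  refine ⟨g, hxg, ?_⟩
  have hDg : IsAffineOpen (X.basicOpen g) := hU.basicOpen g
  have hle : X.basicOpen g ≤ V.ι.opensRange := by
    rw [Scheme.Opens.opensRange_ι]; exact hgV
  have himg : V.ι ''ᵁ (V.ι ⁻¹ᵁ (X.basicOpen g)) = X.basicOpen g := by
    rw [Scheme.Hom.image_preimage_eq_opensRange_inf]
    exact inf_eq_right.mpr hle
  have hW' : IsAffineOpen (V.ι ⁻¹ᵁ (X.basicOpen g)) := hDg.preimage_of_isOpenImmersion V.ι hle
  have h1 := @fp_sections_of_presentation _ (F.restrict V.ι) P hP _ hW'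
  have h2 := fp_restrict_transport F V (V.ι ⁻¹ᵁ (X.basicOpen g)) h1
  exact fp_of_eq F himg h2

set_option backward.isDefEq.respectTransparency false in
theorem fp_localized_of_fp_basicOpen (M : X.Modules) [M.IsQuasicoherent] {U : X.Opens}
    (hU : IsAffineOpen U) (f : Γ(X, U))
    (h : Module.FinitePresentation Γ(X, X.basicOpen f) Γ(M, X.basicOpen f)) :
    Module.FinitePresentation (Localization.Away f) (LocalizedModule.Away f Γ(M, U)) := by
  classical
  letI : Module Γ(X, U) Γ(M, X.basicOpen f) :=
    Module.compHom _ (algebraMap Γ(X, U) Γ(X, X.basicOpen f))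
  haveI : IsScalarTower Γ(X, U) Γ(X, X.basicOpen f) Γ(M, X.basicOpen f) :=
    IsScalarTower.of_algebraMap_smul (fun r m => rfl)
  let g : Γ(M, U) →ₗ[Γ(X, U)] Γ(M, X.basicOpen f) :=
    { toFun := fun m => M.presheaf.map (homOfLE (X.basicOpen_le f)).op m
      map_add' := fun a b => map_add _ a b
      map_smul' := fun r m => by
        show M.presheaf.map (homOfLE (X.basicOpen_le f)).op (r • m) =
          (X.presheaf.map (homOfLE (X.basicOpen_le f)).op r) •
            M.presheaf.map (homOfLE (X.basicOpen_le f)).op m
        exact Scheme.Modules.map_smul _ _ _ _ }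
  haveI : IsLocalization.Away f Γ(X, X.basicOpen f) := hU.isLocalization_basicOpen f
  have hu : IsUnit (algebraMap Γ(X, U) Γ(X, X.basicOpen f) f) :=
    IsLocalization.Away.algebraMap_isUnit f
  have h₁ : IsUnit (algebraMap Γ(X, U) (Module.End Γ(X, U) Γ(M, X.basicOpen f)) f) := by
    rw [Module.End.isUnit_iff]
    obtain ⟨v, hv⟩ := hu
    constructor
    · intro a b hab
      have hab' : (v : Γ(X, X.basicOpen f)) • a = (v : Γ(X, X.basicOpen f)) • b := by
        rw [hv]; exact hab
      calc a = (↑v⁻¹ : Γ(X, X.basicOpen f)) • ((v : Γ(X, X.basicOpen f)) • a) := by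
            rw [smul_smul, Units.inv_mul, one_smul]
        _ = (↑v⁻¹ : Γ(X, X.basicOpen f)) • ((v : Γ(X, X.basicOpen f)) • b) := by rw [hab']
        _ = b := by rw [smul_smul, Units.inv_mul, one_smul]
    · intro b
      refine ⟨(↑v⁻¹ : Γ(X, X.basicOpen f)) • b, ?_⟩
      show (algebraMap Γ(X, U) Γ(X, X.basicOpen f) f) • ((↑v⁻¹ : Γ(X, X.basicOpen f)) • b) = b
      rw [← hv, smul_smul, Units.mul_inv, one_smul]
  have h₂ : ∀ y : Γ(M, X.basicOpen f), ∃ (n : ℕ) (m : Γ(M, U)), f ^ n • y = g m := by
    intro y
    obtain ⟨n, t, ht⟩ := exists_section_of_basicOpen M hU f y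
    refine ⟨n, t, ?_⟩
    show (algebraMap Γ(X, U) Γ(X, X.basicOpen f) (f ^ n)) • y = _
    rw [map_pow]
    exact ht.symm
  have h₃ : ∀ m : Γ(M, U), g m = 0 → ∃ n : ℕ, f ^ n • m = 0 := fun m hm =>
    exists_pow_smul_eq_zero M hU f m hm
  haveI : IsLocalizedModule.Away f g := IsLocalizedModule.Away.mk_of_addCommGroup h₁ h₂ h₃
  let e₁ : Localization (Submonoid.powers f) ≃ₐ[Γ(X, U)] Γ(X, X.basicOpen f) :=
    IsLocalization.algEquiv (Submonoid.powers f) (Localization (Submonoid.powers f))
      Γ(X, X.basicOpen f)
  letI : Module (Localization (Submonoid.powers f)) Γ(M, X.basicOpen f) :=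
    Module.compHom _ (e₁.toAlgHom.toRingHom)
  haveI : IsScalarTower Γ(X, U) (Localization (Submonoid.powers f)) Γ(M, X.basicOpen f) :=
    IsScalarTower.of_algebraMap_smul (fun a q => by
      show (e₁ (algebraMap Γ(X, U) (Localization (Submonoid.powers f)) a)) • q =
        (algebraMap Γ(X, U) Γ(X, X.basicOpen f) a) • q
      rw [e₁.commutes])
  let iso0 : LocalizedModule (Submonoid.powers f) Γ(M, U) ≃ₗ[Γ(X, U)] Γ(M, X.basicOpen f) :=
    IsLocalizedModule.iso (Submonoid.powers f) g
  let iso' : LocalizedModule (Submonoid.powers f) Γ(M, U) ≃ₗ[Localization (Submonoid.powers f)]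
      Γ(M, X.basicOpen f) :=
    iso0.extendScalarsOfIsLocalization (Submonoid.powers f) (Localization (Submonoid.powers f))
  haveI : Module.FinitePresentation (Localization (Submonoid.powers f)) Γ(M, X.basicOpen f) :=
    fp_transport e₁.toRingEquiv (fun r m => rfl)
  exact Module.FinitePresentation.of_equiv iso'.symm

set_option backward.isDefEq.respectTransparency false in
/-- **Sections of a finitely presented module over an affine open are finitely presented.** -/
theorem finitePresentation_sections (F : X.Modules)
    [hF : SheafOfModules.IsFinitePresentation.{u, u, u} (R := X.ringCatSheaf) F]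
    {U : X.Opens} (hU : IsAffineOpen U) : Module.FinitePresentation Γ(X, U) Γ(F, U) := by
  haveI : F.IsQuasicoherent := inferInstance
  let s : Set Γ(X, U) :=
    {g | Module.FinitePresentation Γ(X, X.basicOpen g) Γ(F, X.basicOpen g)}
  have hs : Ideal.span s = ⊤ := by
    rw [← hU.self_le_iSup_basicOpen_iff]
    intro x hx
    obtain ⟨g, hxg, hg⟩ := fp_basicOpen_local F hU x hx
    exact Opens.mem_iSup.mpr ⟨⟨g, hg⟩, hxg⟩
  apply Module.FinitePresentation.of_localizationSpan s hs
  intro g
  exact fp_localized_of_fp_basicOpen F hU g.1 g.2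

open Groth.Agent.Helper22.FitCore in
/-- Fitting ideals of a finitely presented module are finitely generated. -/
theorem fitt_fg {R : Type u} [CommRing R] {M : Type u} [AddCommGroup M] [Module R M]
    [Module.FinitePresentation R M] (k : ℕ) : (Fitt.ideal R M k).FG := by
  haveI : Module.Finite R M := inferInstance
  obtain ⟨n, x, hx⟩ := Module.Finite.exists_fin (R := R) (M := M)
  rw [Groth.Agent.Helper22.Fitting.ideal_eq_Imin x hx k]
  apply Imin_fg
  have hsurj : Function.Surjective (Fintype.linearCombination R x) := by
    rw [← LinearMap.range_eq_top, Fintype.range_linearCombination, hx]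
  exact Module.FinitePresentation.fg_ker (Fintype.linearCombination R x) hsurj

end Groth.Agent.Lead.FPSec
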