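import Groth.Agent.Lead.FinType3
import Groth.Agent.Lead.QCoh9
import Groth.Agent.Lead.UnitCoh

/-!
# Coherent modules on locally Noetherian schemes are finitely presented
-/

universe u

open CategoryTheory CategoryTheory.Limits AlgebraicGeometry Opposite TopologicalSpace
open Groth.Agent.Lead.QCoh Groth.Agent.Lead.EpiStalk Groth.Agent.Lead.FinType

namespace Groth.Agent.Lead.FinPres

variable {X : Scheme.{u}}

/-- stalkwise generation by finitely many sections gives local expressions as sums. -/
theorem local_sum_of_span_germ (M : X.Modules) (U : X.Opens) (I : Type u) [Fintype I]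
    (s : I → Γ(M, U))
    (hs : ∀ (y : X) (hy : y ∈ U), Submodule.span (X.presheaf.stalk y)
        (Set.range fun i => M.presheaf.germ U y hy (s i)) = ⊤) :
    ∀ (V : X.Opens) (hVU : V ≤ U) (t : Γ(M, V)) (y : X) (_ : y ∈ V),
        ∃ (W : X.Opens) (hWV : W ≤ V) (_ : y ∈ W) (a : I → Γ(X, W)),
          M.presheaf.map (homOfLE hWV).op t =
            ∑ i, a i • M.presheaf.map (homOfLE (hWV.trans hVU)).op (s i) := by
  classical
  intro V hVU t y hy
  have hmem : M.presheaf.germ V y hy t ∈ Submodule.span (X.presheaf.stalk y)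
      (Set.range fun i => M.presheaf.germ U y (hVU hy) (s i)) := by
    rw [hs y (hVU hy)]; trivial
  obtain ⟨c, hc⟩ := (Submodule.mem_span_range_iff_exists_fun _).mp hmem
  have hex : ∀ i, ∃ (W : X.Opens) (hyW : y ∈ W) (b : Γ(X, W)),
      X.presheaf.germ W y hyW b = c i :=
    fun i => TopCat.Presheaf.exists_germ_eq X.presheaf (c i)
  choose Wi hyWi b hb using hex
  let W0 : X.Opens := V ⊓ ⨅ i, Wi i
  have hyW0 : y ∈ W0 := by
    refine ⟨hy, ?_⟩
    rw [Opens.coe_iInf]
    exact Set.mem_iInter.mpr hyWi
  have hW0V : W0 ≤ V := inf_le_left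
  have hW0i : ∀ i, W0 ≤ Wi i := fun i => inf_le_right.trans (iInf_le _ i)
  let r : Γ(M, W0) := ∑ i, X.presheaf.map (homOfLE (hW0i i)).op (b i) •
    M.presheaf.map (homOfLE (hW0V.trans hVU)).op (s i)
  have hgerm : M.presheaf.germ W0 y hyW0 (M.presheaf.map (homOfLE hW0V).op t) =
      M.presheaf.germ W0 y hyW0 r := by
    rw [TopCat.Presheaf.germ_res_apply, ← hc, map_sum]
    refine Finset.sum_congr rfl (fun i _ => ?_)
    rw [germ_smul, TopCat.Presheaf.germ_res_apply, TopCat.Presheaf.germ_res_apply, hb]
  obtain ⟨W, hyW, i1, i2, heq⟩ := TopCat.Presheaf.germ_eq M.presheaf y hyW0 hyW0 _ _ hgerm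
  have hWW0 : W ≤ W0 := leOfHom i1
  refine ⟨W, hWW0.trans hW0V, hyW,
    fun i => X.presheaf.map (homOfLE (hWW0.trans (hW0i i))).op (b i), ?_⟩
  have e1 : M.presheaf.map (homOfLE (hWW0.trans hW0V)).op t =
      M.presheaf.map i1.op (M.presheaf.map (homOfLE hW0V).op t) :=
    (map_map_apply M i1 (homOfLE hW0V) _ t).symm
  rw [e1, heq, map_sum]
  refine Finset.sum_congr rfl (fun i _ => ?_)
  rw [Scheme.Modules.map_smul,
    map_map_apply M i2 (homOfLE (hW0V.trans hVU)) (homOfLE ((hWW0.trans hW0V).trans hVU)) (s i),
    map_map_apply' i2 (homOfLE (hW0i i)) (homOfLE (hWW0.trans (hW0i i))) (b i)]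

/-- A quasi-coherent module on an affine scheme with finitely generated global sections is
globally generated by finitely many sections. -/
theorem exists_generatingSections_of_finite (Z : Scheme.{u}) [IsAffine Z] (N : Z.Modules)
    [N.IsQuasicoherent]
    (hfin : Module.Finite Γ(Z, (⊤ : Z.Opens)) Γ(N, (⊤ : Z.Opens))) :
    ∃ G : N.GeneratingSections, G.IsFiniteType := by
  classical
  obtain ⟨S, hS⟩ := hfin.fg_top
  let I : Type u := {m : Γ(N, (⊤ : Z.Opens)) // m ∈ S}
  let s : I → Γ(N, (⊤ : Z.Opens)) := Subtype.val
  have hspan : Submodule.span Γ(Z, (⊤ : Z.Opens)) (Set.range s) = ⊤ := by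
    rw [Subtype.range_coe_subtype]; exact hS
  have hloc := local_sum_of_span_germ N ⊤ I s
    (fun y hy => span_germ_eq_top_of_span_eq_top N (isAffineOpen_top Z) s hspan y hy)
  let sN : I → N.sections := fun i => ofTop N (s i)
  let π : freeM Z I ⟶ N := N.freeHomEquiv.symm sN
  have hπ : ∀ i, SheafOfModules.freeHomEquiv N π i = sN i :=
    fun i => congrFun (N.freeHomEquiv.apply_symm_apply sN) i
  have hepi : Epi π := by
    apply epi_of_local_sum N π
    intro V t y hy
    obtain ⟨W, hWV, hyW, a, ha⟩ := hloc V le_top t y hy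
    refine ⟨W, hWV, hyW, a, ?_⟩
    rw [ha]
    refine Finset.sum_congr rfl (fun i _ => ?_)
    rw [hπ i]
    rfl
  exact ⟨{ I := I, s := sN, epi := hepi }, ⟨inferInstance⟩⟩

set_option backward.isDefEq.respectTransparency false in
/-- On a Noetherian affine scheme the kernel of a map from a finite free module has finitely
generated global sections. -/
theorem finite_kernel_sections (Z : Scheme.{u}) [IsAffine Z] [IsLocallyNoetherian Z]
    (I : Type u) [Finite I] (N : Z.Modules) (π : freeM Z I ⟶ N) :
    Module.Finite Γ(Z, (⊤ : Z.Opens)) Γ((kernel π : Z.Modules), (⊤ : Z.Opens)) := by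
  haveI : IsNoetherianRing Γ(Z, (⊤ : Z.Opens)) :=
    IsLocallyNoetherian.component_noetherian ⟨⊤, isAffineOpen_top Z⟩
  haveI := Groth.Agent.Lead.UnitCoh.isFiniteType_free Z I
  haveI : (freeM Z I).IsQuasicoherent := inferInstance
  haveI hff : Module.Finite Γ(Z, (⊤ : Z.Opens)) Γ(freeM Z I, (⊤ : Z.Opens)) :=
    finite_sections_of_isFiniteType (freeM Z I) (isAffineOpen_top Z)
  haveI : IsNoetherian Γ(Z, (⊤ : Z.Opens)) Γ(freeM Z I, (⊤ : Z.Opens)) :=
    isNoetherian_of_isNoetherianRing_of_finite _ _
  let f : Γ((kernel π : Z.Modules), (⊤ : Z.Opens)) →ₗ[Γ(Z, (⊤ : Z.Opens))]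
      Γ(freeM Z I, (⊤ : Z.Opens)) :=
    { toFun := fun x => (kernel.ι π).app ⊤ x
      map_add' := fun x y => map_add _ x y
      map_smul' := fun r x => Scheme.Modules.Hom.app_smul _ r x }
  exact Module.Finite.of_injective f (app_injective_of_mono (kernel.ι π) ⊤)

set_option backward.isDefEq.respectTransparency false in
/-- A coherent module on a locally Noetherian scheme has a finite presentation over every affine
open. -/
theorem exists_finite_presentation_restrict [IsLocallyNoetherian X] (M : X.Modules)
    [M.IsQuasicoherent] [SheafOfModules.IsFiniteType.{u, u, u} (R := X.ringCatSheaf) M]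
    (V : X.Opens) (hV : IsAffineOpen V) :
    ∃ P : (M.restrict V.ι).Presentation, P.IsFinite := by
  classical
  haveI : IsAffine (V : Scheme.{u}) := hV
  have hfin : Module.Finite Γ(X, V) Γ(M, V) := finite_sections_of_isFiniteType M hV
  obtain ⟨S, hS⟩ := hfin.fg_top
  let I : Type u := {m : Γ(M, V) // m ∈ S}
  let s : I → Γ(M, V) := Subtype.val
  have hspan : Submodule.span Γ(X, V) (Set.range s) = ⊤ := by
    rw [Subtype.range_coe_subtype]; exact hS
  have hloc := local_sum_of_span_germ M V I s
    (fun y hy => span_germ_eq_top_of_span_eq_top M hV s hspan y hy)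
  obtain ⟨G, hG⟩ := exists_generatingSections_restrict_of_local_sum M V I s hloc
  haveI : Finite G.I := hG.finite
  haveI hK : (kernel G.π).IsQuasicoherent := (isQuasicoherent_kernel_cokernel G.π).1
  have hKfin := finite_kernel_sections (V : Scheme.{u}) G.I (M.restrict V.ι) G.π
  obtain ⟨GK, hGK⟩ := exists_generatingSections_of_finite (V : Scheme.{u}) (kernel G.π) hKfin
  exact ⟨⟨G, GK⟩, ⟨hG, hGK⟩⟩

set_option backward.isDefEq.respectTransparency false in
/-- A presentation of the restriction to an open gives a presentation over the open. -/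
noncomputable def overPresentation (M : X.Modules) (U : X.Opens)
    (P : (M.restrict U.ι).Presentation) : (M.over U).Presentation :=
  haveI : PreservesColimitsOfSize.{u, u} (Scheme.Modules.overEquiv U).inverse := inferInstance
  SheafOfModules.Presentation.ofIsIso.{u, u, u}
    ((Scheme.Modules.overEquiv U).unitIso.app (M.over U)).inv
    ((SheafOfModules.Presentation.ofIsIso.{u, u, u}
      ((Scheme.Modules.overFunctorEquiv U).app M).inv P).map
      (Scheme.Modules.overEquiv U).inverse
      (U.sheafOfModulesEquivOverInverseUnit X.ringCatSheaf).symm)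

set_option backward.isDefEq.respectTransparency false in
theorem overPresentation_isFinite (M : X.Modules) (U : X.Opens)
    (P : (M.restrict U.ι).Presentation) [hP : P.IsFinite] :
    (overPresentation M U P).IsFinite := by
  have h1 : Finite P.generators.I := hP.isFiniteType_generators.finite
  have h2 : Finite P.relations.I := hP.isFiniteType_relations.finite
  exact ⟨⟨h1⟩, ⟨h2⟩⟩

set_option backward.isDefEq.respectTransparency false in
/-- A coherent module on a locally Noetherian scheme is of finite presentation. -/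
theorem isFinitePresentation_of_coh [IsLocallyNoetherian X] (M : X.Modules)
    [M.IsQuasicoherent] [SheafOfModules.IsFiniteType.{u, u, u} (R := X.ringCatSheaf) M] :
    SheafOfModules.IsFinitePresentation.{u, u, u} (R := X.ringCatSheaf) M := by
  have key := fun V : X.affineOpens => exists_finite_presentation_restrict M V.1 V.2
  choose P hP using key
  have hcov : (Opens.grothendieckTopology X).CoversTop (fun V : X.affineOpens => V.1) := by
    rw [Opens.coversTop_iff]
    exact iSup_affineOpens_eq_top X
  let q : SheafOfModules.QuasicoherentData.{u, u, u, u} (R := X.ringCatSheaf) M :=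
    { I := X.affineOpens, X := fun V : X.affineOpens => V.1, coversTop := hcov,
      presentation := fun V : X.affineOpens => overPresentation M V.1 (P V) }
  have hq : q.IsFinitePresentation := by
    constructor
    intro V
    exact @overPresentation_isFinite _ M V.1 (P V) (hP V)
  constructor
  exact Exists.intro q hq

end Groth.Agent.Lead.FinPres
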