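import Groth.Agent.Lead.QCoh3

/-!
# Extension of sections of quasi-coherent modules from `X_r` on quasi-compact quasi-separated opens
-/

universe u

open CategoryTheory CategoryTheory.Limits AlgebraicGeometry Opposite TopologicalSpace

namespace Groth.Agent.Lead.QCoh

variable {X : Scheme.{u}}

theorem map_map_apply (F : X.Modules) {A B C : X.Opens} (i : A ⟶ B) (j : B ⟶ C) (k : A ⟶ C)
    (s : Γ(F, C)) :
    F.presheaf.map i.op (F.presheaf.map j.op s) = F.presheaf.map k.op s := by
  rw [← ConcreteCategory.comp_apply, ← Functor.map_comp]; rfl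

theorem map_map_apply' {A B C : X.Opens} (i : A ⟶ B) (j : B ⟶ C) (k : A ⟶ C) (a : Γ(X, C)) :
    X.presheaf.map i.op (X.presheaf.map j.op a) = X.presheaf.map k.op a := by
  rw [← ConcreteCategory.comp_apply, ← Functor.map_comp]; rfl

theorem map_pow_smul (F : X.Modules) {A B : X.Opens} (i : A ⟶ B) (a : Γ(X, B)) (k : ℕ)
    (s : Γ(F, B)) :
    F.presheaf.map i.op (a ^ k • s) = (X.presheaf.map i.op a) ^ k • F.presheaf.map i.op s := by
  rw [Scheme.Modules.map_smul, map_pow]

/-- Sections of a quasi-coherent module over `X_r ∩ W`, `W` a quasi-compact open of a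
quasi-separated scheme, extend to `W` after multiplication by a power of `r`. -/
theorem exists_section_of_basicOpen_of_qcqs (F : X.Modules) [F.IsQuasicoherent]
    [QuasiSeparatedSpace X] (W : X.Opens) (hW : IsCompact (X := X) W) (r : Γ(X, W))
    (t : Γ(F, X.basicOpen r)) :
    ∃ (k : ℕ) (σ : Γ(F, W)), F.presheaf.map (homOfLE (X.basicOpen_le r)).op σ =
      (X.presheaf.map (homOfLE (X.basicOpen_le r)).op r) ^ k • t := by
  classical
  obtain ⟨J, hJ, e⟩ := isCompact_iff_finite_and_eq_biUnion_affineOpens.mp hW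
  have hle : ∀ i ∈ J, (i : X.Opens) ≤ W := fun i hi => by
    rw [e]; exact le_iSup₂ (f := fun (i : X.affineOpens) (_ : i ∈ J) => (i : X.Opens)) i hi
  haveI : Finite J := hJ.to_subtype
  haveI : Fintype J := Fintype.ofFinite J
  have hbo' : ∀ (A : X.Opens) (hA : A ≤ W),
      X.basicOpen (X.presheaf.map (homOfLE hA).op r) = A ⊓ X.basicOpen r :=
    fun A hA => Scheme.basicOpen_res X r (homOfLE hA).op
  have hbo : ∀ i : J, X.basicOpen (X.presheaf.map (homOfLE (hle i.1 i.2)).op r) ≤ X.basicOpen r :=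
    fun i => by rw [hbo']; exact inf_le_right
  -- local extensions
  have h2 : ∀ i : J, ∃ (n : ℕ) (σ : Γ(F, (i.1 : X.Opens))),
      F.presheaf.map (homOfLE (X.basicOpen_le
        (X.presheaf.map (homOfLE (hle i.1 i.2)).op r))).op σ =
        (X.presheaf.map (homOfLE (X.basicOpen_le (X.presheaf.map (homOfLE (hle i.1 i.2)).op r))).op
          (X.presheaf.map (homOfLE (hle i.1 i.2)).op r)) ^ n •
          F.presheaf.map (homOfLE (hbo i)).op t :=
    fun i => exists_section_of_basicOpen F i.1.2 _ _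
  choose nf σf hσf using h2
  obtain ⟨n, hn⟩ : ∃ n, ∀ i, nf i ≤ n :=
    ⟨Finset.univ.sup nf, fun i => Finset.le_sup (Finset.mem_univ i)⟩
  have hτ : ∀ i : J, F.presheaf.map (homOfLE (X.basicOpen_le
        (X.presheaf.map (homOfLE (hle i.1 i.2)).op r))).op
        ((X.presheaf.map (homOfLE (hle i.1 i.2)).op r) ^ (n - nf i) • σf i) =
      (X.presheaf.map (homOfLE (X.basicOpen_le (X.presheaf.map (homOfLE (hle i.1 i.2)).op r))).op
          (X.presheaf.map (homOfLE (hle i.1 i.2)).op r)) ^ n •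
          F.presheaf.map (homOfLE (hbo i)).op t := by
    intro i
    rw [map_pow_smul, hσf, ← mul_smul, ← pow_add, Nat.sub_add_cancel (hn i)]
  have key : ∀ (i : J) (A : X.Opens)
      (hAi : A ≤ X.basicOpen (X.presheaf.map (homOfLE (hle i.1 i.2)).op r))
      (hA : A ≤ X.basicOpen r) (hAU : A ≤ (i.1 : X.Opens)) (hAW : A ≤ W),
      F.presheaf.map (homOfLE hAU).op
        ((X.presheaf.map (homOfLE (hle i.1 i.2)).op r) ^ (n - nf i) • σf i) =
      (X.presheaf.map (homOfLE hAW).op r) ^ n • F.presheaf.map (homOfLE hA).op t := by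
    intro i A hAi hA hAU hAW
    rw [← map_map_apply F (homOfLE hAi) (homOfLE (X.basicOpen_le _)) (homOfLE hAU), hτ,
      map_pow_smul,
      map_map_apply' (homOfLE hAi) (homOfLE (X.basicOpen_le _)) (homOfLE hAU),
      map_map_apply F (homOfLE hAi) (homOfLE (hbo i)) (homOfLE hA) t,
      map_map_apply' (homOfLE hAU) (homOfLE (hle i.1 i.2)) (homOfLE hAW) r]
  -- pairs
  have h3 : ∀ i j : J, ∃ m : ℕ,
      (X.presheaf.map (homOfLE ((inf_le_left : (i.1 : X.Opens) ⊓ (j.1 : X.Opens) ≤ _).trans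
        (hle i.1 i.2))).op r) ^ m •
      (F.presheaf.map (homOfLE (inf_le_left : (i.1 : X.Opens) ⊓ (j.1 : X.Opens) ≤ _)).op
        ((X.presheaf.map (homOfLE (hle i.1 i.2)).op r) ^ (n - nf i) • σf i) -
       F.presheaf.map (homOfLE (inf_le_right : (i.1 : X.Opens) ⊓ (j.1 : X.Opens) ≤ _)).op
        ((X.presheaf.map (homOfLE (hle j.1 j.2)).op r) ^ (n - nf j) • σf j)) = 0 := by
    intro i j
    have hVW : (i.1 : X.Opens) ⊓ (j.1 : X.Opens) ≤ W := inf_le_left.trans (hle i.1 i.2)
    have hVc : IsCompact (X := X) ((i.1 : X.Opens) ⊓ (j.1 : X.Opens) : X.Opens) :=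
      QuasiSeparatedSpace.inter_isCompact _ _ (i.1 : X.Opens).isOpen i.1.2.isCompact
        (j.1 : X.Opens).isOpen j.1.2.isCompact
    apply exists_pow_smul_eq_zero_of_isCompact F _ hVc
    have hD : X.basicOpen (X.presheaf.map (homOfLE hVW).op r) =
        ((i.1 : X.Opens) ⊓ (j.1 : X.Opens)) ⊓ X.basicOpen r := hbo' _ hVW
    have hDi : X.basicOpen (X.presheaf.map (homOfLE hVW).op r) ≤
        X.basicOpen (X.presheaf.map (homOfLE (hle i.1 i.2)).op r) := by
      rw [hD, hbo']; exact inf_le_inf_right _ inf_le_left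
    have hDj : X.basicOpen (X.presheaf.map (homOfLE hVW).op r) ≤
        X.basicOpen (X.presheaf.map (homOfLE (hle j.1 j.2)).op r) := by
      rw [hD, hbo']; exact inf_le_inf_right _ inf_le_right
    have hDr : X.basicOpen (X.presheaf.map (homOfLE hVW).op r) ≤ X.basicOpen r := by
      rw [hD]; exact inf_le_right
    rw [map_sub,
      map_map_apply F (homOfLE (X.basicOpen_le _)) (homOfLE inf_le_left)
        (homOfLE ((X.basicOpen_le _).trans inf_le_left)),
      map_map_apply F (homOfLE (X.basicOpen_le _)) (homOfLE inf_le_right)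
        (homOfLE ((X.basicOpen_le _).trans inf_le_right)),
      key i _ hDi hDr _ ((X.basicOpen_le _).trans hVW),
      key j _ hDj hDr _ ((X.basicOpen_le _).trans hVW), sub_self]
  choose mf hmf using h3
  obtain ⟨m, hm⟩ : ∃ m, ∀ i j, mf i j ≤ m :=
    ⟨Finset.univ.sup (fun i => Finset.univ.sup (mf i)), fun i j =>
      (Finset.le_sup (f := mf i) (Finset.mem_univ j)).trans
        (Finset.le_sup (f := fun i => Finset.univ.sup (mf i)) (Finset.mem_univ i))⟩
  have hm0 : ∀ i j : J,
      (X.presheaf.map (homOfLE ((inf_le_left : (i.1 : X.Opens) ⊓ (j.1 : X.Opens) ≤ _).trans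
        (hle i.1 i.2))).op r) ^ m •
      (F.presheaf.map (homOfLE (inf_le_left : (i.1 : X.Opens) ⊓ (j.1 : X.Opens) ≤ _)).op
        ((X.presheaf.map (homOfLE (hle i.1 i.2)).op r) ^ (n - nf i) • σf i) -
       F.presheaf.map (homOfLE (inf_le_right : (i.1 : X.Opens) ⊓ (j.1 : X.Opens) ≤ _)).op
        ((X.presheaf.map (homOfLE (hle j.1 j.2)).op r) ^ (n - nf j) • σf j)) = 0 := by
    intro i j
    obtain ⟨d, hd⟩ := Nat.exists_eq_add_of_le (hm i j)
    rw [hd, pow_add, mul_comm, mul_smul, hmf, smul_zero]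
  -- the family to glue
  let U : J → X.Opens := fun i => (i.1 : X.Opens)
  let sf : ∀ i : J, Γ(F, U i) := fun i =>
    (X.presheaf.map (homOfLE (hle i.1 i.2)).op r) ^ m •
      ((X.presheaf.map (homOfLE (hle i.1 i.2)).op r) ^ (n - nf i) • σf i)
  have hcompat : TopCat.Presheaf.IsCompatible ((SheafOfModules.toSheaf _).obj F).1 U sf := by
    intro i j
    show F.presheaf.map (Opens.infLELeft (U i) (U j)).op (sf i) =
      F.presheaf.map (Opens.infLERight (U i) (U j)).op (sf j)
    rw [← sub_eq_zero]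
    show F.presheaf.map (Opens.infLELeft (U i) (U j)).op
        ((X.presheaf.map (homOfLE (hle i.1 i.2)).op r) ^ m •
          ((X.presheaf.map (homOfLE (hle i.1 i.2)).op r) ^ (n - nf i) • σf i)) -
      F.presheaf.map (Opens.infLERight (U i) (U j)).op
        ((X.presheaf.map (homOfLE (hle j.1 j.2)).op r) ^ m •
          ((X.presheaf.map (homOfLE (hle j.1 j.2)).op r) ^ (n - nf j) • σf j)) = 0
    rw [map_pow_smul F (Opens.infLELeft (U i) (U j)) (X.presheaf.map (homOfLE (hle i.1 i.2)).op r) m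
        ((X.presheaf.map (homOfLE (hle i.1 i.2)).op r) ^ (n - nf i) • σf i),
      map_pow_smul F (Opens.infLERight (U i) (U j)) (X.presheaf.map (homOfLE (hle j.1 j.2)).op r) m
        ((X.presheaf.map (homOfLE (hle j.1 j.2)).op r) ^ (n - nf j) • σf j),
      map_map_apply' (Opens.infLELeft (U i) (U j)) (homOfLE (hle i.1 i.2))
        (homOfLE ((inf_le_left : (i.1 : X.Opens) ⊓ (j.1 : X.Opens) ≤ _).trans (hle i.1 i.2))) r,
      map_map_apply' (Opens.infLERight (U i) (U j)) (homOfLE (hle j.1 j.2))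
        (homOfLE ((inf_le_left : (i.1 : X.Opens) ⊓ (j.1 : X.Opens) ≤ _).trans (hle i.1 i.2))) r,
      ← smul_sub]
    exact hm0 i j
  have hcover : W ≤ iSup U := by
    rw [e, ← iSup_subtype'' J (fun i : X.affineOpens => (i : X.Opens))]
  obtain ⟨σ, hσ, -⟩ := TopCat.Sheaf.existsUnique_gluing' ((SheafOfModules.toSheaf _).obj F) U W
    (fun i => homOfLE (hle i.1 i.2)) hcover sf hcompat
  refine ⟨m + n, σ, ?_⟩
  have hcover2 : X.basicOpen r ≤ ⨆ i : J, (U i ⊓ X.basicOpen r) := by
    rw [← iSup_inf_eq]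
    exact le_inf ((X.basicOpen_le r).trans hcover) le_rfl
  apply TopCat.Sheaf.eq_of_locally_eq' ((SheafOfModules.toSheaf _).obj F)
    (fun i : J => U i ⊓ X.basicOpen r) (X.basicOpen r) (fun i => homOfLE inf_le_right) hcover2
  intro i
  show F.presheaf.map (homOfLE (inf_le_right : U i ⊓ X.basicOpen r ≤ _)).op
      (F.presheaf.map (homOfLE (X.basicOpen_le r)).op σ) =
    F.presheaf.map (homOfLE (inf_le_right : U i ⊓ X.basicOpen r ≤ _)).op
      ((X.presheaf.map (homOfLE (X.basicOpen_le r)).op r) ^ (m + n) • t)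
  have hσi : F.presheaf.map (homOfLE (hle i.1 i.2)).op σ = sf i := hσ i
  have hAi : U i ⊓ X.basicOpen r ≤ X.basicOpen (X.presheaf.map (homOfLE (hle i.1 i.2)).op r) :=
    le_of_eq (hbo' _ (hle i.1 i.2)).symm
  rw [map_map_apply F (homOfLE inf_le_right) (homOfLE (X.basicOpen_le r))
      (homOfLE (inf_le_left.trans (hle i.1 i.2))) σ,
    ← map_map_apply F (homOfLE (inf_le_left : U i ⊓ X.basicOpen r ≤ U i))
      (homOfLE (hle i.1 i.2)) (homOfLE (inf_le_left.trans (hle i.1 i.2))) σ, hσi]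
  show F.presheaf.map (homOfLE (inf_le_left : U i ⊓ X.basicOpen r ≤ U i)).op
      ((X.presheaf.map (homOfLE (hle i.1 i.2)).op r) ^ m •
        ((X.presheaf.map (homOfLE (hle i.1 i.2)).op r) ^ (n - nf i) • σf i)) = _
  rw [map_pow_smul,
    map_map_apply' (homOfLE (inf_le_left : U i ⊓ X.basicOpen r ≤ U i)) (homOfLE (hle i.1 i.2))
      (homOfLE (inf_le_left.trans (hle i.1 i.2))) r,
    key i _ hAi inf_le_right inf_le_left (inf_le_left.trans (hle i.1 i.2)),
    map_pow_smul,
    map_map_apply' (homOfLE (inf_le_right : U i ⊓ X.basicOpen r ≤ _)) (homOfLE (X.basicOpen_le r))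
      (homOfLE (inf_le_left.trans (hle i.1 i.2))) r,
    ← mul_smul, ← pow_add]

end Groth.Agent.Lead.QCoh
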