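import Groth.Agent.Lead.EpiStalk
import Groth.Agent.Lead.QCoh4

/-!
# Finite type sheaves of modules: local generation by finitely many sections
-/

universe u

open CategoryTheory CategoryTheory.Limits AlgebraicGeometry Opposite TopologicalSpace

namespace Groth.Agent.Lead.FinType

open Groth.Agent.Lead.QCoh Groth.Agent.Lead.EpiStalk

variable {Z : Scheme.{u}}

/-- evaluation of morphisms at a section, as an additive map. -/
noncomputable def evalHom (A B : Z.Modules) (W : Z.Opens) (σ : Γ(A, W)) : (A ⟶ B) →+ Γ(B, W) where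
  toFun f := f.app W σ
  map_zero' := rfl
  map_add' _ _ := rfl

/-- the free module as an object of `Z.Modules`. -/
noncomputable abbrev freeM (Z : Scheme.{u}) (I : Type u) : Z.Modules :=
  SheafOfModules.free (R := Z.ringCatSheaf) I

/-- the unit module as an object of `Z.Modules`. -/
noncomputable abbrev unitM (Z : Scheme.{u}) : Z.Modules := SheafOfModules.unit Z.ringCatSheaf

/-- the inclusions -/
noncomputable abbrev ιF {I : Type u} (i : I) : unitM Z ⟶ freeM Z I :=
  SheafOfModules.ιFree (R := Z.ringCatSheaf) i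

/-- the value of a global section over an open. -/
noncomputable def secVal (N : Z.Modules) (s : N.sections) (W : Z.Opens) : Γ(N, W) := s.val (op W)

/-- an element of `Γ(Z, W)` as a section of the unit module. -/
noncomputable def toUnit (W : Z.Opens) (a : Γ(Z, W)) : Γ(unitM Z, W) := a

/-- a section of the unit module as an element of `Γ(Z, W)`. -/
noncomputable def ofUnit (W : Z.Opens) (a : Γ(unitM Z, W)) : Γ(Z, W) := a

section
variable {I : Type u} [Fintype I] [DecidableEq I]

/-- coordinate projections of a free module. -/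
noncomputable def proj (i : I) : freeM Z I ⟶ unitM Z :=
  Cofan.IsColimit.desc (SheafOfModules.isColimitFreeCofan (R := Z.ringCatSheaf) I)
    (fun j => if j = i then 𝟙 (unitM Z) else 0)

theorem ι_proj (i j : I) : ιF (Z := Z) j ≫ proj i = if j = i then 𝟙 (unitM Z) else 0 :=
  Cofan.IsColimit.fac (SheafOfModules.isColimitFreeCofan (R := Z.ringCatSheaf) I) _ j

theorem sum_proj_ι : (∑ i : I, proj (Z := Z) i ≫ ιF i) = 𝟙 (freeM Z I) := by
  refine Cofan.IsColimit.hom_ext (SheafOfModules.isColimitFreeCofan (R := Z.ringCatSheaf) I) _ _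
    (fun j => ?_)
  change ιF j ≫ (∑ i : I, proj (Z := Z) i ≫ ιF i) = ιF j ≫ 𝟙 _
  rw [Preadditive.comp_sum, Category.comp_id]
  have : ∀ i : I, ιF (Z := Z) j ≫ proj i ≫ ιF i = if j = i then ιF j else 0 := by
    intro i
    rw [← Category.assoc, ι_proj]
    split_ifs with h
    · subst h; rw [Category.id_comp]
    · rw [zero_comp]
  rw [Finset.sum_congr rfl (fun i _ => this i), Finset.sum_ite_eq]
  simp

theorem unit_app (N : Z.Modules) (φ : unitM Z ⟶ N) (W : Z.Opens) (a : Γ(Z, W)) :
    φ.app W (toUnit W a) = a • secVal N (N.unitHomEquiv φ) W := by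
  have h1 : toUnit W a = a • toUnit W (1 : Γ(Z, W)) := by
    change a = a * 1
    rw [mul_one]
  rw [h1, Scheme.Modules.Hom.app_smul]
  rfl

theorem app_free_eq_sum (N : Z.Modules) (π : freeM Z I ⟶ N) (W : Z.Opens)
    (σ : Γ(freeM Z I, W)) :
    ∃ a : I → Γ(Z, W), π.app W σ =
      ∑ i, a i • secVal N (SheafOfModules.freeHomEquiv N π i) W := by
  refine ⟨fun i => ofUnit W ((proj i).app W σ), ?_⟩
  have h1 : π = ∑ i : I, proj i ≫ (ιF i ≫ π) := by
    conv_lhs => rw [← Category.id_comp π, ← sum_proj_ι, Preadditive.sum_comp]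
    simp only [Category.assoc]
  have h2 := congrArg (evalHom (freeM Z I) N W σ) h1
  rw [map_sum] at h2
  refine h2.trans (Finset.sum_congr rfl (fun i _ => ?_))
  change (ιF i ≫ π).app W ((proj i).app W σ) = _
  exact unit_app N (ιF i ≫ π) W _

/-- If `π : free I ⟶ N` is an epimorphism with `I` finite, every section of `N` is locally a
linear combination of the generating sections. -/
theorem exists_local_sum_of_epi (N : Z.Modules) (π : freeM Z I ⟶ N) [Epi π] (V : Z.Opens)
    (t : Γ(N, V)) (y : Z) (hy : y ∈ V) :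
    ∃ (W : Z.Opens) (hWV : W ≤ V) (_ : y ∈ W) (a : I → Γ(Z, W)),
      N.presheaf.map (homOfLE hWV).op t =
        ∑ i, a i • secVal N (SheafOfModules.freeHomEquiv N π i) W := by
  obtain ⟨W, hWV, hyW, σ, hσ⟩ := exists_local_lift_of_epi π V t y hy
  obtain ⟨a, ha⟩ := app_free_eq_sum N π W σ
  exact ⟨W, hWV, hyW, a, hσ.symm.trans ha⟩

end

variable {X : Scheme.{u}}

set_option backward.isDefEq.respectTransparency false in
/-- A module of finite type has, locally, finitely many generating sections (in the sense of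
`SheafOfModules.GeneratingSections` on the open subscheme). -/
theorem exists_generatingSections_restrict (M : X.Modules)
    [hM : SheafOfModules.IsFiniteType (R := X.ringCatSheaf) M] (x : X) :
    ∃ (U : X.Opens) (_ : x ∈ U) (G : (M.restrict U.ι).GeneratingSections), Finite G.I := by
  obtain ⟨σ, hσ⟩ := hM.exists_localGeneratorsData
  have hcov : IsOpenCover σ.X := (Opens.coversTop_iff _ _).mp σ.coversTop
  obtain ⟨i, hi⟩ : ∃ i, x ∈ σ.X i := by
    have : x ∈ (⨆ i, σ.X i : X.Opens) := by rw [hcov.iSup_eq_top]; trivial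
    simpa [Opens.mem_iSup] using this
  refine ⟨σ.X i, hi, ?_⟩
  let G := σ.generators i
  have : G.IsFiniteType := hσ.isFiniteType i
  let e := Scheme.Modules.overEquiv (σ.X i)
  have : PreservesColimitsOfSize.{u, u} e.functor := inferInstance
  let G1 := G.map e.functor ((σ.X i).sheafOfModulesEquivOverUnit X.ringCatSheaf).symm
  let G2 := G1.ofEpi ((Scheme.Modules.overFunctorEquiv (σ.X i)).app M).hom
  exact ⟨G2, inferInstanceAs (Finite G.I)⟩

theorem secVal_map (N : Z.Modules) (s : N.sections) {A B : Z.Opens} (i : A ⟶ B) :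
    N.presheaf.map i.op (secVal N s B) = secVal N s A :=
  PresheafOfModules.sections_property s i.op

/-- A module of finite type is, locally, generated by finitely many sections: every section is
locally a linear combination of them. -/
theorem exists_local_generators (M : X.Modules)
    [hM : SheafOfModules.IsFiniteType (R := X.ringCatSheaf) M] (x : X) :
    ∃ (U : X.Opens) (_ : x ∈ U) (I : Type u) (_ : Fintype I) (s : I → Γ(M, U)),
      ∀ (V : X.Opens) (hVU : V ≤ U) (t : Γ(M, V)) (y : X) (_ : y ∈ V),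
        ∃ (W : X.Opens) (hWV : W ≤ V) (_ : y ∈ W) (a : I → Γ(X, W)),
          M.presheaf.map (homOfLE hWV).op t =
            ∑ i, a i • M.presheaf.map (homOfLE (hWV.trans hVU)).op (s i) := by
  classical
  obtain ⟨U, hxU, G, hG⟩ := exists_generatingSections_restrict M x
  letI : Fintype G.I := Fintype.ofFinite G.I
  let N : (U : Scheme.{u}).Modules := M.restrict U.ι
  let π : freeM (U : Scheme.{u}) G.I ⟶ N := N.freeHomEquiv.symm G.s
  have : Epi π := G.epi
  have hπ : ∀ i, SheafOfModules.freeHomEquiv N π i = G.s i :=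
    fun i => congrFun (N.freeHomEquiv.apply_symm_apply G.s) i
  have hU : U ≤ U.ι ''ᵁ ⊤ := U.ι_image_top.ge
  refine ⟨U, hxU, G.I, inferInstance,
    fun i => M.presheaf.map (homOfLE hU).op (secVal N (G.s i) ⊤), ?_⟩
  intro V hVU t y hy
  let V' : (U : Scheme.{u}).Opens := U.ι ⁻¹ᵁ V
  have hV' : U.ι ''ᵁ V' ≤ V := U.ι.image_preimage_le V
  let y' : (U : Scheme.{u}) := ⟨y, hVU hy⟩
  have hy' : y' ∈ V' := hy
  let t' : Γ(N, V') := M.presheaf.map (homOfLE hV').op t
  obtain ⟨W', hW'V', hyW', a', ha'⟩ := exists_local_sum_of_epi N π V' t' y' hy'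
  have hWV : U.ι ''ᵁ W' ≤ V := (U.ι.image_mono hW'V').trans hV'
  refine ⟨U.ι ''ᵁ W', hWV, ⟨y', hyW', rfl⟩, fun i => (U.ι.appIso W').inv (a' i), ?_⟩
  have e1 : M.presheaf.map (homOfLE hWV).op t = N.presheaf.map (homOfLE hW'V').op t' := by
    change _ = M.presheaf.map (homOfLE (U.ι.image_mono hW'V')).op
      (M.presheaf.map (homOfLE hV').op t)
    rw [map_map_apply]
  rw [e1, ha']
  refine Finset.sum_congr rfl (fun i _ => ?_)
  rw [hπ i]
  have e3 : M.presheaf.map (homOfLE (hWV.trans hVU)).op
      (M.presheaf.map (homOfLE hU).op (secVal N (G.s i) ⊤)) = secVal N (G.s i) W' :=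
    (map_map_apply M (homOfLE (hWV.trans hVU)) (homOfLE hU)
      (homOfLE ((hWV.trans hVU).trans hU))
      (show Γ(M, U.ι ''ᵁ ⊤) from secVal N (G.s i) ⊤)).trans
      (secVal_map N (G.s i) (homOfLE (le_top : W' ≤ ⊤)))
  rw [e3]
  rfl

/-- A module of finite type is locally generated by finitely many sections, stalkwise. -/
theorem exists_span_germ_eq_top (M : X.Modules)
    [hM : SheafOfModules.IsFiniteType (R := X.ringCatSheaf) M] (x : X) :
    ∃ (U : X.Opens) (_ : x ∈ U) (I : Type u) (_ : Fintype I) (s : I → Γ(M, U)),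
      ∀ (y : X) (hy : y ∈ U), Submodule.span (X.presheaf.stalk y)
        (Set.range fun i => M.presheaf.germ U y hy (s i)) = ⊤ := by
  obtain ⟨U, hxU, I, hI, s, hs⟩ := exists_local_generators M x
  refine ⟨U, hxU, I, hI, s, fun y hy => ?_⟩
  rw [eq_top_iff]
  rintro m -
  obtain ⟨V0, hyV0, t0, rfl⟩ := TopCat.Presheaf.exists_germ_eq M.presheaf m
  have hVU : V0 ⊓ U ≤ U := inf_le_right
  have hV0 : V0 ⊓ U ≤ V0 := inf_le_left
  obtain ⟨W, hWV, hyW, a, ha⟩ := hs (V0 ⊓ U) hVU (M.presheaf.map (homOfLE hV0).op t0) y ⟨hyV0, hy⟩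
  have e1 : M.presheaf.germ V0 y hyV0 t0 =
      M.presheaf.germ W y hyW (M.presheaf.map (homOfLE hWV).op
        (M.presheaf.map (homOfLE hV0).op t0)) := by
    rw [TopCat.Presheaf.germ_res_apply, TopCat.Presheaf.germ_res_apply]
  rw [e1, ha, map_sum]
  refine Submodule.sum_mem _ (fun i _ => ?_)
  rw [germ_smul, TopCat.Presheaf.germ_res_apply]
  exact Submodule.smul_mem _ _ (Submodule.subset_span ⟨i, rfl⟩)

end Groth.Agent.Lead.FinType
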