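import Groth.Agent.Lead.FinType

/-!
# Generation of sections over affine opens from generation of stalks
-/

universe u

open CategoryTheory CategoryTheory.Limits AlgebraicGeometry Opposite TopologicalSpace

namespace Groth.Agent.Lead.FinType

open Groth.Agent.Lead.QCoh

variable {X : Scheme.{u}}

/-- If finitely many sections of a quasi-coherent module over an affine open `U` generate all
stalks at points of `U`, they generate the module of sections over `U`. -/
theorem span_eq_top_of_span_germ_eq_top (F : X.Modules) [F.IsQuasicoherent] {U : X.Opens}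
    (hU : IsAffineOpen U) {J : Type*} [Fintype J] (m : J → Γ(F, U))
    (h : ∀ (y : X) (hy : y ∈ U), Submodule.span (X.presheaf.stalk y)
      (Set.range fun j => F.presheaf.germ U y hy (m j)) = ⊤) :
    Submodule.span Γ(X, U) (Set.range m) = ⊤ := by
  classical
  rw [eq_top_iff]
  rintro t -
  by_contra ht
  set T := Submodule.span Γ(X, U) (Set.range m) with hT
  have hJ : T.colon {t} ≠ ⊤ := by
    intro h1
    have : (1 : Γ(X, U)) ∈ T.colon {t} := by rw [h1]; trivial
    rw [Submodule.mem_colon_singleton, one_smul] at this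
    exact ht this
  obtain ⟨𝔪, h𝔪, hle⟩ := Ideal.exists_le_maximal _ hJ
  let z : PrimeSpectrum Γ(X, U) := ⟨𝔪, h𝔪.isPrime⟩
  have hy : hU.fromSpec z ∈ U := by
    have h1 : hU.fromSpec z ∈ hU.fromSpec.opensRange := ⟨z, rfl⟩
    exact (le_of_eq hU.opensRange_fromSpec) h1
  set y := hU.fromSpec z with hyz
  have hz : hU.primeIdealOf ⟨y, hy⟩ = z := primeIdealOf_fromSpec hU z hy
  have hmem : ∀ a : Γ(X, U), a ∈ 𝔪 ↔ y ∉ X.basicOpen a := by
    intro a
    rw [← mem_primeIdealOf_iff hU y hy a, hz]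
  have hspan := h y hy
  have htmem : F.presheaf.germ U y hy t ∈ Submodule.span (X.presheaf.stalk y)
      (Set.range fun j => F.presheaf.germ U y hy (m j)) := by rw [hspan]; trivial
  obtain ⟨c, hc⟩ := (Submodule.mem_span_range_iff_exists_fun _).mp htmem
  let _ : Algebra Γ(X, U) (X.presheaf.stalk y) :=
    TopCat.Presheaf.algebra_section_stalk X.presheaf ⟨y, hy⟩
  have hloc : IsLocalization.AtPrime (X.presheaf.stalk y)
      (hU.primeIdealOf ⟨y, hy⟩).asIdeal := hU.isLocalization_stalk ⟨y, hy⟩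
  have hsurj : ∀ j, ∃ (b g : Γ(X, U)), g ∉ 𝔪 ∧
      c j * X.presheaf.germ U y hy g = X.presheaf.germ U y hy b := by
    intro j
    obtain ⟨⟨b, g⟩, hs⟩ := IsLocalization.surj (hU.primeIdealOf ⟨y, hy⟩).asIdeal.primeCompl (c j)
    refine ⟨b, g.1, ?_, hs⟩
    have e : (hU.primeIdealOf ⟨y, hy⟩).asIdeal = 𝔪 := congrArg PrimeSpectrum.asIdeal hz
    intro hgm
    exact g.2 ((le_of_eq e.symm) hgm)
  choose b g hg hbg using hsurj
  let G : Γ(X, U) := ∏ j, g j
  have hG : G ∉ 𝔪 := by
    intro hGm
    obtain ⟨j, -, hj⟩ := (h𝔪.isPrime.prod_mem_iff).mp hGm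
    exact hg j hj
  let b' : J → Γ(X, U) := fun j => b j * ∏ k ∈ Finset.univ.erase j, g k
  have hb' : ∀ j, X.presheaf.germ U y hy G * c j = X.presheaf.germ U y hy (b' j) := by
    intro j
    have hGj : G = g j * ∏ k ∈ Finset.univ.erase j, g k :=
      (Finset.mul_prod_erase Finset.univ g (Finset.mem_univ j)).symm
    rw [hGj, map_mul, map_mul, ← hbg j]
    ring
  have hkey : F.presheaf.germ U y hy (G • t - ∑ j, b' j • m j) = 0 := by
    rw [map_sub, germ_smul, map_sum, ← hc, Finset.smul_sum, sub_eq_zero]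
    refine Finset.sum_congr rfl (fun j _ => ?_)
    rw [germ_smul, ← hb' j, mul_smul]
  obtain ⟨a, hya, ha⟩ := (germ_eq_zero_iff F hU y hy _).mp hkey
  have haG : a * G ∈ T.colon {t} := by
    rw [Submodule.mem_colon_singleton, mul_smul]
    rw [smul_sub, sub_eq_zero] at ha
    rw [ha]
    refine Submodule.smul_mem _ _ (Submodule.sum_mem _ (fun j _ => ?_))
    exact Submodule.smul_mem _ _ (Submodule.subset_span ⟨j, rfl⟩)
  rcases h𝔪.isPrime.mem_or_mem (hle haG) with h1 | h1
  · exact ((hmem a).mp h1) hya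
  · exact hG h1

/-- Local step: around each point of an affine open `V`, finitely many sections over `V`
generate the stalks on a basic open neighbourhood. -/
theorem exists_basicOpen_span_germ (F : X.Modules) [F.IsQuasicoherent]
    [SheafOfModules.IsFiniteType (R := X.ringCatSheaf) F] {V : X.Opens} (hV : IsAffineOpen V)
    (x : X) (hx : x ∈ V) :
    ∃ (r : Γ(X, V)) (_ : x ∈ X.basicOpen r) (I : Type u) (_ : Fintype I) (m : I → Γ(F, V)),
      ∀ (y : X) (_ : y ∈ X.basicOpen r) (hyV : y ∈ V), Submodule.span (X.presheaf.stalk y)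
        (Set.range fun i => F.presheaf.germ V y hyV (m i)) = ⊤ := by
  obtain ⟨U, hxU, I, hI, s, hs⟩ := exists_span_germ_eq_top F x
  obtain ⟨r, hrU, hxr⟩ := hV.exists_basicOpen_le (V := U) ⟨x, hxU⟩ hx
  have hex : ∀ i, ∃ (n : ℕ) (t : Γ(F, V)),
      F.presheaf.map (homOfLE (X.basicOpen_le r)).op t =
        (X.presheaf.map (homOfLE (X.basicOpen_le r)).op r) ^ n •
          F.presheaf.map (homOfLE hrU).op (s i) :=
    fun i => exists_section_of_basicOpen F hV r _
  choose n m hm using hex
  refine ⟨r, hxr, I, hI, m, ?_⟩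
  intro y hyr hyV
  have hyU : y ∈ U := hrU hyr
  have hu : IsUnit (X.presheaf.germ V y hyV r) := (Scheme.mem_basicOpen _ _ y hyV).mp hyr
  have hgerm : ∀ i, F.presheaf.germ V y hyV (m i) =
      (X.presheaf.germ V y hyV r) ^ (n i) • F.presheaf.germ U y hyU (s i) := by
    intro i
    rw [← TopCat.Presheaf.germ_res_apply F.presheaf (homOfLE (X.basicOpen_le r)) y hyr (m i),
      hm i, germ_smul, map_pow, TopCat.Presheaf.germ_res_apply,
      TopCat.Presheaf.germ_res_apply]
  rw [eq_top_iff, ← hs y hyU, Submodule.span_le]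
  rintro _ ⟨i, rfl⟩
  have hui : IsUnit ((X.presheaf.germ V y hyV r) ^ (n i)) := hu.pow _
  obtain ⟨w, hw⟩ := hui
  have : F.presheaf.germ U y hyU (s i) =
      (↑w⁻¹ : X.presheaf.stalk y) • F.presheaf.germ V y hyV (m i) := by
    rw [hgerm i, ← hw, ← mul_smul, Units.inv_mul, one_smul]
  change F.presheaf.germ U y hyU (s i) ∈ _
  rw [this]
  exact Submodule.smul_mem _ _ (Submodule.subset_span ⟨i, rfl⟩)

/-- Sections of a quasi-coherent module of finite type over an affine open form a finitely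
generated module. -/
theorem finite_sections_of_isFiniteType (F : X.Modules) [F.IsQuasicoherent]
    [SheafOfModules.IsFiniteType (R := X.ringCatSheaf) F] {V : X.Opens} (hV : IsAffineOpen V) :
    Module.Finite Γ(X, V) Γ(F, V) := by
  classical
  choose r hxr I hI m hm using fun (x : V) => exists_basicOpen_span_germ F hV x.1 x.2
  have hcov : (V : Set X) ⊆ ⋃ x : V, (X.basicOpen (r x) : Set X) := by
    intro y hy
    exact Set.mem_iUnion.mpr ⟨⟨y, hy⟩, hxr ⟨y, hy⟩⟩
  obtain ⟨t, ht⟩ := hV.isCompact.elim_finite_subcover (fun x : V => (X.basicOpen (r x) : Set X))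
    (fun x => (X.basicOpen (r x)).2) hcov
  letI : ∀ x : V, Fintype (I x) := hI
  let J := Σ x : t, I x.1
  let mm : J → Γ(F, V) := fun j => m j.1.1 j.2
  have hspan : Submodule.span Γ(X, V) (Set.range mm) = ⊤ := by
    refine span_eq_top_of_span_germ_eq_top F hV mm (fun y hy => ?_)
    obtain ⟨x, hxt, hyx⟩ : ∃ x ∈ t, y ∈ X.basicOpen (r x) := by
      have := ht hy
      simpa [Set.mem_iUnion] using this
    rw [eq_top_iff, ← hm x y hyx hy, Submodule.span_le]
    rintro _ ⟨i, rfl⟩
    exact Submodule.subset_span ⟨⟨⟨x, hxt⟩, i⟩, rfl⟩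
  rw [Module.finite_def, ← hspan]
  exact Submodule.fg_span (Set.finite_range mm)

end Groth.Agent.Lead.FinType
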