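import Groth.Agent.Lead.AffSurj
import Groth.Agent.Lead.Extend
import Groth.Agent.Lead.UnitCoh

/-!
# Epimorphisms from finite free modules and generators of sections (lead)
-/

set_option autoImplicit false
universe u
open CategoryTheory CategoryTheory.Limits AlgebraicGeometry Opposite TopologicalSpace
open Groth.Agent.Lead.QCoh Groth.Agent.Lead.FinType Groth.Agent.Lead.FinPres
open Groth.Agent.Lead.AffSurj

namespace Groth.Agent.Lead.FreeEpi

variable {X : Scheme.{u}}

set_option backward.isDefEq.respectTransparency false in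
/-- local generation by finitely many sections over `U` gives an epimorphism from a free module
onto the restriction to `U`. -/
theorem exists_epi_free_restrict_of_local_sum (M : X.Modules) (U : X.Opens)
    (I : Type u) [Fintype I] (s : I → Γ(M, U))
    (hs : ∀ (V : X.Opens) (hVU : V ≤ U) (t : Γ(M, V)) (y : X) (_ : y ∈ V),
        ∃ (W : X.Opens) (hWV : W ≤ V) (_ : y ∈ W) (a : I → Γ(X, W)),
          M.presheaf.map (homOfLE hWV).op t =
            ∑ i, a i • M.presheaf.map (homOfLE (hWV.trans hVU)).op (s i)) :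
    ∃ π : freeM (U : Scheme.{u}) I ⟶ M.restrict U.ι, Epi π := by
  classical
  let N : (U : Scheme.{u}).Modules := M.restrict U.ι
  have hU : U.ι ''ᵁ ⊤ ≤ U := U.ι_image_top.le
  let sN : I → N.sections := fun i => ofTop N (M.presheaf.map (homOfLE hU).op (s i))
  let π : freeM (U : Scheme.{u}) I ⟶ N := N.freeHomEquiv.symm sN
  have hπ : ∀ i, SheafOfModules.freeHomEquiv N π i = sN i :=
    fun i => congrFun (N.freeHomEquiv.apply_symm_apply sN) i
  have hepi : Epi π := by
    apply epi_of_local_sum N π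
    intro V' t y' hy'
    have hV'U : U.ι ''ᵁ V' ≤ U := U.ι_image_le V'
    obtain ⟨W, hWV, hyW, a, ha⟩ := hs (U.ι ''ᵁ V') hV'U t y'.1 ⟨y', hy', rfl⟩
    let W' : (U : Scheme.{u}).Opens := U.ι ⁻¹ᵁ W
    have hW'W : U.ι ''ᵁ W' ≤ W := U.ι.image_preimage_le W
    have hW'V' : W' ≤ V' := (U.ι.preimage_mono hWV).trans (U.ι.preimage_image_eq V').le
    refine ⟨W', hW'V', hyW,
      fun i => (U.ι.appIso W').hom (X.presheaf.map (homOfLE hW'W).op (a i)), ?_⟩
    have e1 : N.presheaf.map (homOfLE hW'V').op t =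
        M.presheaf.map (homOfLE hW'W).op (M.presheaf.map (homOfLE hWV).op t) := by
      rw [map_map_apply M (homOfLE hW'W) (homOfLE hWV) (homOfLE (U.ι.image_mono hW'V')) t]
      rfl
    rw [e1, ha, map_sum]
    refine Finset.sum_congr rfl (fun i _ => ?_)
    rw [hπ i, Scheme.Modules.map_smul,
      map_map_apply M (homOfLE hW'W) (homOfLE (hWV.trans hV'U)) (homOfLE (hW'W.trans
        (hWV.trans hV'U))) (s i)]
    refine (restrict_smul M U W' _ _ _ ?_).symm
    change N.presheaf.map (homOfLE (le_top : W' ≤ ⊤)).op (M.presheaf.map (homOfLE hU).op (s i)) = _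
    exact map_map_apply M (homOfLE (U.ι.image_mono (le_top : W' ≤ ⊤))) (homOfLE hU)
      (homOfLE (hW'W.trans (hWV.trans hV'U))) (s i)
  exact ⟨π, hepi⟩

/-- The prelude's `freeMod` (coproduct over `Fin n`) is the free module on `ULift (Fin n)`. -/
noncomputable def freeModIso (Z : Scheme.{u}) (n : ℕ) :
    FlatMod.freeMod Z n ≅ freeM Z (ULift.{u} (Fin n)) :=
  Sigma.whiskerEquiv (f := fun _ : Fin n => Coh.structureModule Z)
    (g := fun _ : ULift.{u} (Fin n) => SheafOfModules.unit Z.ringCatSheaf)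
    Equiv.ulift.symm (fun _ => Iso.refl _)

/-- generators of the sections over an affine open give an epimorphism from `freeMod`. -/
theorem exists_epi_freeMod_of_span (F : X.Modules) [F.IsQuasicoherent] {V : X.Opens}
    (hV : IsAffineOpen V) {r : ℕ} (g : Fin r → Γ(F, V))
    (hg : Submodule.span Γ(X, V) (Set.range g) = ⊤) :
    ∃ π : FlatMod.freeMod (V : Scheme.{u}) r ⟶ F.restrict V.ι, Epi π := by
  classical
  let g' : ULift.{u} (Fin r) → Γ(F, V) := fun i => g i.down
  have hg' : Submodule.span Γ(X, V) (Set.range g') = ⊤ := by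
    rw [eq_top_iff, ← hg]
    apply Submodule.span_mono
    rintro _ ⟨i, rfl⟩
    exact ⟨⟨i⟩, rfl⟩
  have hloc := local_sum_of_span_germ F V (ULift.{u} (Fin r)) g'
    (fun y hy => span_germ_eq_top_of_span_eq_top F hV g' hg' y hy)
  obtain ⟨π, hπ⟩ := exists_epi_free_restrict_of_local_sum F V (ULift.{u} (Fin r)) g' hloc
  exact ⟨(freeModIso (V : Scheme.{u}) r).hom ≫ π, epi_comp _ _⟩

set_option backward.isDefEq.respectTransparency false in
/-- transport of spanning sets from the restriction to the ambient scheme. -/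
theorem span_image_of_span_restrict (M : X.Modules) (U : X.Opens)
    (W' : (U : Scheme.{u}).Opens) {J : Type*} (t : J → Γ(M.restrict U.ι, W'))
    (ht : Submodule.span Γ(U, W') (Set.range t) = ⊤) :
    Submodule.span Γ(X, U.ι ''ᵁ W') (Set.range fun j => (show Γ(M, U.ι ''ᵁ W') from t j)) = ⊤ := by
  have key : ∀ y : Γ(M.restrict U.ι, W'), y ∈ Submodule.span Γ(U, W') (Set.range t) →
      (show Γ(M, U.ι ''ᵁ W') from y) ∈ Submodule.span Γ(X, U.ι ''ᵁ W')
        (Set.range fun j => (show Γ(M, U.ι ''ᵁ W') from t j)) := by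
    intro y hy
    induction hy using Submodule.span_induction with
    | mem y hy =>
      obtain ⟨j, rfl⟩ := hy
      exact Submodule.subset_span ⟨j, rfl⟩
    | zero => exact Submodule.zero_mem _
    | add y z _ _ hy hz => exact Submodule.add_mem _ hy hz
    | smul c y _ hy =>
      have h := restrict_smul M U W' ((U.ι.appIso W').inv c) y y rfl
      have h2 : (U.ι.appIso W').hom ((U.ι.appIso W').inv c) = c := by
        show ((U.ι.appIso W').inv ≫ (U.ι.appIso W').hom) c = c
        rw [Iso.inv_hom_id]; rfl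
      rw [h2] at h
      rw [h]
      exact Submodule.smul_mem _ _ hy
  rw [eq_top_iff]
  intro m _
  exact key m (by rw [ht]; trivial)

set_option backward.isDefEq.respectTransparency false in
/-- an epimorphism from `freeMod U r` onto `F|_U` gives `r` generators of the sections of `F` over
(the image of) every affine open of `U`. -/
theorem span_of_epi_freeMod (F : X.Modules) [F.IsQuasicoherent] (U : X.Opens) {r : ℕ}
    (π : FlatMod.freeMod (U : Scheme.{u}) r ⟶ F.restrict U.ι) [Epi π]
    (W' : (U : Scheme.{u}).Opens) (hW' : IsAffineOpen W') :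
    ∃ t : Fin r → Γ(F, U.ι ''ᵁ W'), Submodule.span Γ(X, U.ι ''ᵁ W') (Set.range t) = ⊤ := by
  classical
  let N : (U : Scheme.{u}).Modules := F.restrict U.ι
  haveI : N.IsQuasicoherent :=
    inferInstanceAs ((Scheme.Modules.restrictFunctor U.ι).obj F).IsQuasicoherent
  let π' : freeM (U : Scheme.{u}) (ULift.{u} (Fin r)) ⟶ N := (freeModIso (U : Scheme.{u}) r).inv ≫ π
  haveI : Epi π' := epi_comp _ _
  haveI : (freeM (U : Scheme.{u}) (ULift.{u} (Fin r))).IsQuasicoherent := inferInstance
  have hsurj := app_surjective_of_isAffineOpen π' hW'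
  let t : ULift.{u} (Fin r) → Γ(N, W') :=
    fun i => secVal N (SheafOfModules.freeHomEquiv N π' i) W'
  have ht : Submodule.span Γ(U, W') (Set.range t) = ⊤ := by
    rw [eq_top_iff]
    intro m _
    obtain ⟨σ, rfl⟩ := hsurj m
    obtain ⟨a, ha⟩ := app_free_eq_sum N π' W' σ
    rw [ha]
    exact Submodule.sum_mem _ (fun i _ => Submodule.smul_mem _ _ (Submodule.subset_span ⟨i, rfl⟩))
  have h2 := span_image_of_span_restrict F U W' t ht
  refine ⟨fun i => (show Γ(F, U.ι ''ᵁ W') from t ⟨i⟩), ?_⟩
  rw [eq_top_iff, ← h2]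
  apply Submodule.span_mono
  rintro _ ⟨i, rfl⟩
  exact ⟨i.down, rfl⟩

end Groth.Agent.Lead.FreeEpi
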