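import Groth.Agent.Lead.FreeEpi

/-!
# Bases of sections and isomorphisms with free modules (lead)
-/

set_option autoImplicit false
universe u
open CategoryTheory CategoryTheory.Limits AlgebraicGeometry Opposite TopologicalSpace
open Groth.Agent.Lead.QCoh Groth.Agent.Lead.FinType Groth.Agent.Lead.FinPres
open Groth.Agent.Lead.AffSurj Groth.Agent.Lead.FreeEpi Groth.Agent.Lead.Extend

namespace Groth.Agent.Lead.FreeIso

section Coord
variable {Z : Scheme.{u}} {I : Type u} [Fintype I] [DecidableEq I]

theorem app_free_eq_sum' (N : Z.Modules) (π : freeM Z I ⟶ N) (W : Z.Opens)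
    (σ : Γ(freeM Z I, W)) :
    π.app W σ = ∑ i, ofUnit W ((proj i).app W σ) •
      secVal N (SheafOfModules.freeHomEquiv N π i) W := by
  have h1 : π = ∑ i : I, proj i ≫ (ιF i ≫ π) := by
    conv_lhs => rw [← Category.id_comp π, ← sum_proj_ι, Preadditive.sum_comp]
    simp only [Category.assoc]
  have h2 := congrArg (evalHom (freeM Z I) N W σ) h1
  rw [map_sum] at h2
  refine h2.trans (Finset.sum_congr rfl (fun i _ => ?_))
  change (ιF i ≫ π).app W ((proj i).app W σ) = _
  exact unit_app N (ιF i ≫ π) W _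

theorem eq_zero_of_proj_eq_zero (W : Z.Opens) (σ : Γ(freeM Z I, W))
    (h : ∀ i, (proj (Z := Z) i).app W σ = 0) : σ = 0 := by
  have h1 := congrArg (evalHom (freeM Z I) (freeM Z I) W σ) (sum_proj_ι (Z := Z) (I := I))
  rw [map_sum] at h1
  have h2 : evalHom (freeM Z I) (freeM Z I) W σ (𝟙 _) = σ := rfl
  rw [h2] at h1
  rw [← h1]
  apply Finset.sum_eq_zero
  intro i _
  show (ιF i).app W ((proj i).app W σ) = 0
  rw [h i, map_zero]

theorem proj_app_ι_one (i j : I) (W : Z.Opens) :
    (proj (Z := Z) j).app W ((ιF i).app W (toUnit W 1)) = if i = j then toUnit W 1 else 0 := by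
  have h : (ιF (Z := Z) i ≫ proj j).app W (toUnit W 1) =
      (if i = j then 𝟙 (unitM Z) else 0 : unitM Z ⟶ unitM Z).app W (toUnit W 1) := by
    rw [ι_proj]
  split_ifs with hij
  · rw [if_pos hij] at h; exact h
  · rw [if_neg hij] at h; exact h

end Coord

set_option backward.isDefEq.respectTransparency false in
/-- On an affine scheme, a map from a finite free module to a quasi-coherent module whose defining
global sections are linearly independent is a monomorphism. -/
theorem mono_of_linearIndependent (Z : Scheme.{u}) [IsAffine Z] (N : Z.Modules)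
    [N.IsQuasicoherent] {I : Type u} [Fintype I] [DecidableEq I] (π : freeM Z I ⟶ N)
    (hli : LinearIndependent Γ(Z, (⊤ : Z.Opens))
      (fun i => secVal N (SheafOfModules.freeHomEquiv N π i) (⊤ : Z.Opens))) : Mono π := by
  haveI : (freeM Z I).IsQuasicoherent := inferInstance
  haveI hK : (kernel π : Z.Modules).IsQuasicoherent := (isQuasicoherent_kernel_cokernel π).1
  have hsec : ∀ k : Γ((kernel π : Z.Modules), (⊤ : Z.Opens)), k = 0 := by
    intro k
    apply app_injective_of_mono (kernel.ι π) ⊤
    rw [map_zero]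
    apply eq_zero_of_proj_eq_zero
    have h0 : π.app ⊤ ((kernel.ι π).app ⊤ k) = 0 := by
      have : (kernel.ι π ≫ π).app ⊤ k = 0 := by rw [kernel.condition]; rfl
      exact this
    rw [app_free_eq_sum'] at h0
    have := Fintype.linearIndependent_iff.mp hli _ h0
    intro i
    exact this i
  have hz : IsZero (kernel π : Z.Modules) := by
    apply isZero_of_subsingleton_stalk
    intro x
    have key : ∀ m : (kernel π : Z.Modules).presheaf.stalk x, m = 0 := by
      intro m
      obtain ⟨a, k, hxa, hak⟩ := exists_smul_eq_germ (kernel π : Z.Modules)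
        (isAffineOpen_top Z) x (show x ∈ (⊤ : Z.Opens) from trivial) m
      rw [hsec k, map_zero] at hak
      have hu : IsUnit (Z.presheaf.germ ⊤ x (show x ∈ (⊤ : Z.Opens) from trivial) a) :=
        (Scheme.mem_basicOpen Z a x (show x ∈ (⊤ : Z.Opens) from trivial)).mp hxa
      obtain ⟨v, hv⟩ := hu
      rw [← hv] at hak
      calc m = (↑v⁻¹ : Z.presheaf.stalk x) • ((v : Z.presheaf.stalk x) • m) := by
            rw [smul_smul, Units.inv_mul, one_smul]
        _ = 0 := by rw [hak, smul_zero]
    exact ⟨fun m m' => by rw [key m, key m']⟩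
  exact Preadditive.mono_of_kernel_zero (hz.eq_of_src _ _)

variable {X : Scheme.{u}}

theorem map_injective_of_le' {A B : X.Opens} (h : A ≤ B) (h' : B ≤ A) :
    Function.Injective (X.presheaf.map (homOfLE h).op) := by
  intro a b hab
  have e : ∀ c : Γ(X, B), X.presheaf.map (homOfLE h').op (X.presheaf.map (homOfLE h).op c) = c := by
    intro c
    rw [map_map_apply' (homOfLE h') (homOfLE h) (𝟙 _) c]
    show (X.presheaf.map (𝟙 (op B))) c = c
    rw [X.presheaf.map_id]; rfl
  rw [← e a, ← e b, hab]

set_option backward.isDefEq.respectTransparency false in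
/-- A basis of the sections over an affine open gives an isomorphism with a free module. -/
theorem exists_iso_free_restrict (M : X.Modules) [M.IsQuasicoherent] {U : X.Opens}
    (hU : IsAffineOpen U) (I : Type u) [Fintype I] [DecidableEq I] (s : I → Γ(M, U))
    (hspan : Submodule.span Γ(X, U) (Set.range s) = ⊤) (hli : LinearIndependent Γ(X, U) s) :
    Nonempty (freeM (U : Scheme.{u}) I ≅ M.restrict U.ι) := by
  classical
  haveI : IsAffine (U : Scheme.{u}) := hU
  let N : (U : Scheme.{u}).Modules := M.restrict U.ι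
  haveI : N.IsQuasicoherent :=
    inferInstanceAs ((Scheme.Modules.restrictFunctor U.ι).obj M).IsQuasicoherent
  have hUle : U.ι ''ᵁ ⊤ ≤ U := U.ι_image_top.le
  have hUge : U ≤ U.ι ''ᵁ ⊤ := U.ι_image_top.ge
  let t : I → Γ(N, (⊤ : (U : Scheme.{u}).Opens)) :=
    fun i => (show Γ(M, U.ι ''ᵁ ⊤) from M.presheaf.map (homOfLE hUle).op (s i))
  let sN : I → N.sections := fun i => ofTop N (t i)
  let π : freeM (U : Scheme.{u}) I ⟶ N := N.freeHomEquiv.symm sN
  have hπ : ∀ i, SheafOfModules.freeHomEquiv N π i = sN i :=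
    fun i => congrFun (N.freeHomEquiv.apply_symm_apply sN) i
  have hval : ∀ i, secVal N (SheafOfModules.freeHomEquiv N π i) (⊤ : (U : Scheme.{u}).Opens) =
      t i := by
    intro i
    rw [hπ i, secVal_ofTop]
    have : (homOfLE (le_top : (⊤ : (U : Scheme.{u}).Opens) ≤ ⊤)) = 𝟙 _ := rfl
    rw [this]
    show (N.presheaf.map (𝟙 (op (⊤ : (U : Scheme.{u}).Opens)))) (t i) = t i
    rw [N.presheaf.map_id]; rfl
  -- epi
  have hloc := local_sum_of_span_germ M U I s
    (fun y hy => span_germ_eq_top_of_span_eq_top M hU s hspan y hy)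
  have hepi : Epi π := by
    apply epi_of_local_sum N π
    intro V' t' y' hy'
    have hV'U : U.ι ''ᵁ V' ≤ U := U.ι_image_le V'
    obtain ⟨W, hWV, hyW, a, ha⟩ := hloc (U.ι ''ᵁ V') hV'U t' y'.1 ⟨y', hy', rfl⟩
    let W' : (U : Scheme.{u}).Opens := U.ι ⁻¹ᵁ W
    have hW'W : U.ι ''ᵁ W' ≤ W := U.ι.image_preimage_le W
    have hW'V' : W' ≤ V' := (U.ι.preimage_mono hWV).trans (U.ι.preimage_image_eq V').le
    refine ⟨W', hW'V', hyW,
      fun i => (U.ι.appIso W').hom (X.presheaf.map (homOfLE hW'W).op (a i)), ?_⟩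
    have e1 : N.presheaf.map (homOfLE hW'V').op t' =
        M.presheaf.map (homOfLE hW'W).op (M.presheaf.map (homOfLE hWV).op t') := by
      rw [map_map_apply M (homOfLE hW'W) (homOfLE hWV) (homOfLE (U.ι.image_mono hW'V')) t']
      rfl
    rw [e1, ha, map_sum]
    refine Finset.sum_congr rfl (fun i _ => ?_)
    rw [hπ i, Scheme.Modules.map_smul,
      map_map_apply M (homOfLE hW'W) (homOfLE (hWV.trans hV'U)) (homOfLE (hW'W.trans
        (hWV.trans hV'U))) (s i)]
    refine (restrict_smul M U W' _ _ _ ?_).symm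
    change N.presheaf.map (homOfLE (le_top : W' ≤ ⊤)).op (M.presheaf.map (homOfLE hUle).op (s i)) = _
    exact map_map_apply M (homOfLE (U.ι.image_mono (le_top : W' ≤ ⊤))) (homOfLE hUle)
      (homOfLE (hW'W.trans (hWV.trans hV'U))) (s i)
  -- mono
  have hli' : LinearIndependent Γ(U, (⊤ : (U : Scheme.{u}).Opens))
      (fun i => secVal N (SheafOfModules.freeHomEquiv N π i) (⊤ : (U : Scheme.{u}).Opens)) := by
    rw [Fintype.linearIndependent_iff]
    intro a ha i
    have ha' : ∑ j, a j • t j = 0 := by
      rw [← ha]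
      exact Finset.sum_congr rfl (fun j _ => by rw [hval j])
    -- pass to the X-structure
    let b : I → Γ(X, U.ι ''ᵁ ⊤) := fun j => (U.ι.appIso ⊤).inv (a j)
    have hb : ∀ j, (U.ι.appIso ⊤).hom (b j) = a j := by
      intro j
      show ((U.ι.appIso ⊤).inv ≫ (U.ι.appIso ⊤).hom) (a j) = a j
      rw [Iso.inv_hom_id]; rfl
    have h1 : ∑ j, b j • M.presheaf.map (homOfLE hUle).op (s j) = 0 := by
      have : ∀ j, a j • t j =
          (show Γ(N, (⊤ : (U : Scheme.{u}).Opens)) from
            b j • M.presheaf.map (homOfLE hUle).op (s j)) := by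
        intro j
        have h := restrict_smul M U ⊤ (b j) (M.presheaf.map (homOfLE hUle).op (s j)) (t j) rfl
        rw [hb j] at h
        exact h
      rw [← ha']
      exact (Finset.sum_congr rfl (fun j _ => this j)).symm
    have h2 := congrArg (M.presheaf.map (homOfLE hUge).op) h1
    rw [map_sum, map_zero] at h2
    have h3 : ∑ j, X.presheaf.map (homOfLE hUge).op (b j) • s j = 0 := by
      rw [← h2]
      refine Finset.sum_congr rfl (fun j _ => ?_)
      rw [Scheme.Modules.map_smul, map_map_apply M (homOfLE hUge) (homOfLE hUle) (𝟙 _) (s j)]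
      congr 1
      show s j = (M.presheaf.map (𝟙 (op U))) (s j)
      rw [M.presheaf.map_id]; rfl
    have h4 := Fintype.linearIndependent_iff.mp hli _ h3 i
    have h5 : b i = 0 := by
      apply map_injective_of_le' hUge hUle
      rw [h4, map_zero]
    rw [← hb i, h5, map_zero]
  haveI := mono_of_linearIndependent (U : Scheme.{u}) N π hli'
  haveI := hepi
  haveI : IsIso π := isIso_of_mono_of_epi π
  exact ⟨asIso π⟩


section Basis

theorem linearIndependent_of_mono {Z : Scheme.{u}} {I : Type u} [Fintype I] [DecidableEq I]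
    (N : Z.Modules) (π : freeM Z I ⟶ N) [Mono π] (W : Z.Opens) :
    LinearIndependent Γ(Z, W) (fun i => secVal N (SheafOfModules.freeHomEquiv N π i) W) := by
  rw [Fintype.linearIndependent_iff]
  intro a ha j
  let σ : Γ(freeM Z I, W) := ∑ i, a i • (ιF i).app W (toUnit W 1)
  have h1 : π.app W σ = 0 := by
    rw [← ha]
    show π.app W (∑ i, a i • (ιF i).app W (toUnit W 1)) = _
    rw [map_sum]
    refine Finset.sum_congr rfl (fun i _ => ?_)
    rw [Scheme.Modules.Hom.app_smul, app_ι_one N π i W]
  have h2 : σ = 0 := by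
    apply app_injective_of_mono π W
    rw [h1, map_zero]
  have h3 : (proj (Z := Z) j).app W σ = toUnit W (a j) := by
    show (proj (Z := Z) j).app W (∑ i, a i • (ιF i).app W (toUnit W 1)) = _
    rw [map_sum]
    have : ∀ i ∈ (Finset.univ : Finset I), (proj (Z := Z) j).app W (a i • (ιF i).app W (toUnit W 1)) =
        if i = j then toUnit W (a j) else 0 := by
      intro i _
      rw [Scheme.Modules.Hom.app_smul, proj_app_ι_one]
      split_ifs with hij
      · subst hij
        change a i * 1 = a i
        rw [mul_one]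
      · rw [smul_zero]
    rw [Finset.sum_congr rfl this, Finset.sum_ite_eq' Finset.univ j]
    simp
  rw [h2, map_zero] at h3
  exact h3.symm

variable {X : Scheme.{u}}

set_option backward.isDefEq.respectTransparency false in
/-- an isomorphism of `F|_U` with a free module gives a basis of the sections of `F` over (the
image of) every open of `U`. -/
theorem exists_basis_of_iso_freeMod (F : X.Modules) (U : X.Opens) {r : ℕ}
    (e : F.restrict U.ι ≅ FlatMod.freeMod (U : Scheme.{u}) r)
    (W' : (U : Scheme.{u}).Opens) :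
    Nonempty (Module.Basis (Fin r) Γ(X, U.ι ''ᵁ W') Γ(F, U.ι ''ᵁ W')) := by
  classical
  let N : (U : Scheme.{u}).Modules := F.restrict U.ι
  let π' : freeM (U : Scheme.{u}) (ULift.{u} (Fin r)) ⟶ N :=
    (freeModIso (U : Scheme.{u}) r).inv ≫ e.inv
  haveI : IsIso π' := by dsimp only [π']; infer_instance
  have hbij := app_bijective_of_isIso π' W'
  let t : ULift.{u} (Fin r) → Γ(N, W') :=
    fun i => secVal N (SheafOfModules.freeHomEquiv N π' i) W'
  have ht : Submodule.span Γ(U, W') (Set.range t) = ⊤ := by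
    rw [eq_top_iff]
    intro m _
    obtain ⟨σ, rfl⟩ := hbij.2 m
    obtain ⟨a, ha⟩ := app_free_eq_sum N π' W' σ
    rw [ha]
    exact Submodule.sum_mem _ (fun i _ => Submodule.smul_mem _ _ (Submodule.subset_span ⟨i, rfl⟩))
  have hli : LinearIndependent Γ(U, W') t := linearIndependent_of_mono N π' W'
  have h2 := span_image_of_span_restrict F U W' t ht
  let t' : ULift.{u} (Fin r) → Γ(F, U.ι ''ᵁ W') := fun j => (show Γ(F, U.ι ''ᵁ W') from t j)
  have hli' : LinearIndependent Γ(X, U.ι ''ᵁ W') t' := by
    rw [Fintype.linearIndependent_iff]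
    intro b hb i
    have hsm : ∀ j, ((U.ι.appIso W').hom (b j)) • t j =
        (show Γ(N, W') from b j • t' j) := fun j =>
      restrict_smul F U W' (b j) (t' j) (t j) rfl
    have h1 : ∑ j, ((U.ι.appIso W').hom (b j)) • t j = 0 := by
      have h0 : (0 : Γ(N, W')) = (show Γ(N, W') from (0 : Γ(F, U.ι ''ᵁ W'))) := rfl
      rw [h0, ← hb]
      exact Finset.sum_congr rfl (fun j _ => hsm j)
    have h3 := Fintype.linearIndependent_iff.mp hli _ h1 i
    have h4 : (U.ι.appIso W').inv ((U.ι.appIso W').hom (b i)) = b i := by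
      show ((U.ι.appIso W').hom ≫ (U.ι.appIso W').inv) (b i) = b i
      rw [Iso.hom_inv_id]; rfl
    rw [← h4, h3, map_zero]
  have hsp' : ⊤ ≤ Submodule.span Γ(X, U.ι ''ᵁ W') (Set.range t') := h2.ge
  exact ⟨(Module.Basis.mk hli' hsp').reindex Equiv.ulift⟩

end Basis

end Groth.Agent.Lead.FreeIso
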