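import Groth.Agent.Lead.FreeIso
import Groth.Agent.Lead.QCoh10
import Mathlib.RingTheory.Spectrum.Prime.FreeLocus
import Mathlib.RingTheory.Localization.Free

/-!
# Direct summands of finite free modules are finite locally free (lead)
-/

set_option autoImplicit false
universe u
open CategoryTheory CategoryTheory.Limits AlgebraicGeometry Opposite TopologicalSpace
open Groth.Agent.Lead.QCoh Groth.Agent.Lead.FinType Groth.Agent.Lead.FinPres
open Groth.Agent.Lead.AffSurj Groth.Agent.Lead.FreeEpi Groth.Agent.Lead.Extend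
open Groth.Agent.Lead.FreeIso

namespace Groth.Agent.Lead.LocFree

variable {X : Scheme.{u}}

/-- a retract of a quasi-coherent module is quasi-coherent. -/
theorem isQuasicoherent_of_retract (M T : X.Modules) [T.IsQuasicoherent] (φ : M ⟶ T) (ψ : T ⟶ M)
    (h : φ ≫ ψ = 𝟙 M) : M.IsQuasicoherent := by
  let θ : T ⟶ T := 𝟙 T - ψ ≫ φ
  have hk := (isQuasicoherent_kernel_cokernel θ).1
  have hφθ : φ ≫ θ = 0 := by
    simp only [θ, Preadditive.comp_sub, Category.comp_id]
    rw [← Category.assoc, h, Category.id_comp, sub_self]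
  let to_ : M ⟶ kernel θ := kernel.lift θ φ hφθ
  let from_ : kernel θ ⟶ M := kernel.ι θ ≫ ψ
  have h1 : to_ ≫ from_ = 𝟙 M := by
    simp only [to_, from_]
    rw [← Category.assoc, kernel.lift_ι, h]
  have h2 : from_ ≫ to_ = 𝟙 _ := by
    apply (cancel_mono (kernel.ι θ)).mp
    simp only [to_, from_, Category.assoc, kernel.lift_ι, Category.id_comp]
    have hc : kernel.ι θ ≫ θ = 0 := kernel.condition θ
    simp only [θ, Preadditive.comp_sub, Category.comp_id] at hc
    exact (sub_eq_zero.mp hc).symm
  exact (SheafOfModules.isQuasicoherent.{u} _).prop_of_iso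
    (⟨from_, to_, h2, h1⟩ : kernel θ ≅ M) hk

/-- the sections of a retract of a finite free module are finite projective. -/
theorem projective_sections_of_retract {I : Type u} [Fintype I] [DecidableEq I] (M : X.Modules)
    (φ : M ⟶ freeM X I) (ψ : freeM X I ⟶ M) (h : φ ≫ ψ = 𝟙 M) (U : X.Opens) :
    Module.Projective Γ(X, U) Γ(M, U) ∧ Module.Finite Γ(X, U) Γ(M, U) := by
  let i : Γ(M, U) →ₗ[Γ(X, U)] (I → Γ(X, U)) :=
    { toFun := fun m j => ofUnit U ((proj j).app U (φ.app U m))
      map_add' := fun a b => by
        funext j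
        show ofUnit U ((proj j).app U (φ.app U (a + b))) =
          ofUnit U ((proj j).app U (φ.app U a)) + ofUnit U ((proj j).app U (φ.app U b))
        rw [map_add, map_add]; rfl
      map_smul' := fun r m => by
        funext j
        show ofUnit U ((proj j).app U (φ.app U (r • m))) =
          r * ofUnit U ((proj j).app U (φ.app U m))
        rw [Scheme.Modules.Hom.app_smul, Scheme.Modules.Hom.app_smul]; rfl }
  let s : (I → Γ(X, U)) →ₗ[Γ(X, U)] Γ(M, U) :=
    { toFun := fun a => ∑ j, a j • secVal M (SheafOfModules.freeHomEquiv M ψ j) U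
      map_add' := fun a b => by
        simp only [Pi.add_apply, add_smul, Finset.sum_add_distrib]
      map_smul' := fun r a => by
        simp only [Pi.smul_apply, smul_eq_mul, mul_smul, Finset.smul_sum, RingHom.id_apply] }
  have H : s.comp i = LinearMap.id := by
    ext m
    show ∑ j, ofUnit U ((proj j).app U (φ.app U m)) •
      secVal M (SheafOfModules.freeHomEquiv M ψ j) U = m
    rw [← app_free_eq_sum' M ψ U (φ.app U m)]
    show (φ ≫ ψ).app U m = m
    rw [h]; rfl
  haveI : Module.Projective Γ(X, U) Γ(M, U) := Module.Projective.of_split i s H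
  exact ⟨this, Module.Finite.of_surjective s (fun m => ⟨i m, LinearMap.congr_fun H m⟩)⟩

set_option backward.isDefEq.respectTransparency false in
/-- if the sections of a quasi-coherent module over an affine open are finite projective, then
around each point there is a basic open over which the sections have a basis. -/
theorem exists_basis_basicOpen (M : X.Modules) [M.IsQuasicoherent] {U : X.Opens}
    (hU : IsAffineOpen U) [Module.Projective Γ(X, U) Γ(M, U)] [Module.Finite Γ(X, U) Γ(M, U)]
    (x : X) (hx : x ∈ U) :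
    ∃ f : Γ(X, U), x ∈ X.basicOpen f ∧ ∃ (r : ℕ) (g : Fin r → Γ(M, X.basicOpen f)),
      Submodule.span Γ(X, X.basicOpen f) (Set.range g) = ⊤ ∧
        LinearIndependent Γ(X, X.basicOpen f) g := by
  classical
  let p := hU.primeIdealOf ⟨x, hx⟩
  haveI := p.2
  haveI : Module.FinitePresentation Γ(X, U) Γ(M, U) := Module.finitePresentation_of_projective _ _
  haveI hfree : Module.Free (Localization.AtPrime p.asIdeal)
      (LocalizedModule p.asIdeal.primeCompl Γ(M, U)) := Module.free_of_flat_of_isLocalRing
  obtain ⟨f, hf, hfree', -⟩ := Module.FinitePresentation.exists_free_localizedModule_powers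
    p.asIdeal.primeCompl (LocalizedModule.mkLinearMap p.asIdeal.primeCompl Γ(M, U))
    (Localization.AtPrime p.asIdeal)
  have hxf : x ∈ X.basicOpen f := by
    by_contra hnot
    exact hf ((mem_primeIdealOf_iff hU x hx f).mpr hnot)
  refine ⟨f, hxf, ?_⟩
  letI : Module Γ(X, U) Γ(M, X.basicOpen f) :=
    Module.compHom _ (algebraMap Γ(X, U) Γ(X, X.basicOpen f))
  haveI : IsScalarTower Γ(X, U) Γ(X, X.basicOpen f) Γ(M, X.basicOpen f) :=
    IsScalarTower.of_algebraMap_smul (fun r m => rfl)
  let g : Γ(M, U) →ₗ[Γ(X, U)] Γ(M, X.basicOpen f) :=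
    { toFun := fun m => M.presheaf.map (homOfLE (X.basicOpen_le f)).op m
      map_add' := fun a b => map_add _ a b
      map_smul' := fun r m => by
        show M.presheaf.map (homOfLE (X.basicOpen_le f)).op (r • m) =
          (X.presheaf.map (homOfLE (X.basicOpen_le f)).op r) •
            M.presheaf.map (homOfLE (X.basicOpen_le f)).op m
        exact Scheme.Modules.map_smul _ _ _ _ }
  haveI : IsLocalization.Away f Γ(X, X.basicOpen f) := hU.isLocalization_basicOpen f
  have hu : IsUnit (algebraMap Γ(X, U) Γ(X, X.basicOpen f) f) :=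
    IsLocalization.Away.algebraMap_isUnit f
  have h₁ : IsUnit (algebraMap Γ(X, U) (Module.End Γ(X, U) Γ(M, X.basicOpen f)) f) := by
    rw [Module.End.isUnit_iff]
    obtain ⟨v, hv⟩ := hu
    constructor
    · intro a b hab
      have hab' : (v : Γ(X, X.basicOpen f)) • a = (v : Γ(X, X.basicOpen f)) • b := by
        rw [hv]; exact hab
      calc a = (↑v⁻¹ : Γ(X, X.basicOpen f)) • ((v : Γ(X, X.basicOpen f)) • a) := by
            rw [smul_smul, Units.inv_mul, one_smul]
        _ = (↑v⁻¹ : Γ(X, X.basicOpen f)) • ((v : Γ(X, X.basicOpen f)) • b) := by rw [hab']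
        _ = b := by rw [smul_smul, Units.inv_mul, one_smul]
    · intro b
      refine ⟨(↑v⁻¹ : Γ(X, X.basicOpen f)) • b, ?_⟩
      show (algebraMap Γ(X, U) Γ(X, X.basicOpen f) f) • ((↑v⁻¹ : Γ(X, X.basicOpen f)) • b) = b
      rw [← hv, smul_smul, Units.mul_inv, one_smul]
  have h₂ : ∀ y : Γ(M, X.basicOpen f), ∃ (n : ℕ) (m : Γ(M, U)), f ^ n • y = g m := by
    intro y
    obtain ⟨n, t, ht⟩ := exists_section_of_basicOpen M hU f y
    refine ⟨n, t, ?_⟩
    show (algebraMap Γ(X, U) Γ(X, X.basicOpen f) (f ^ n)) • y = _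
    rw [map_pow]
    exact ht.symm
  have h₃ : ∀ m : Γ(M, U), g m = 0 → ∃ n : ℕ, f ^ n • m = 0 := fun m hm =>
    exists_pow_smul_eq_zero M hU f m hm
  haveI : IsLocalizedModule.Away f g := IsLocalizedModule.Away.mk_of_addCommGroup h₁ h₂ h₃
  let e₁ : Localization (Submonoid.powers f) ≃ₐ[Γ(X, U)] Γ(X, X.basicOpen f) :=
    IsLocalization.algEquiv (Submonoid.powers f) (Localization (Submonoid.powers f))
      Γ(X, X.basicOpen f)
  letI : Module (Localization (Submonoid.powers f)) Γ(M, X.basicOpen f) :=
    Module.compHom _ (e₁.toAlgHom.toRingHom)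
  haveI : IsScalarTower Γ(X, U) (Localization (Submonoid.powers f)) Γ(M, X.basicOpen f) :=
    IsScalarTower.of_algebraMap_smul (fun a q => by
      show (e₁ (algebraMap Γ(X, U) (Localization (Submonoid.powers f)) a)) • q =
        (algebraMap Γ(X, U) Γ(X, X.basicOpen f) a) • q
      rw [e₁.commutes])
  let iso0 : LocalizedModule (Submonoid.powers f) Γ(M, U) ≃ₗ[Γ(X, U)] Γ(M, X.basicOpen f) :=
    IsLocalizedModule.iso (Submonoid.powers f) g
  let iso' : LocalizedModule (Submonoid.powers f) Γ(M, U) ≃ₗ[Localization (Submonoid.powers f)]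
      Γ(M, X.basicOpen f) :=
    iso0.extendScalarsOfIsLocalization (Submonoid.powers f) (Localization (Submonoid.powers f))
  haveI : Module.Free (Localization (Submonoid.powers f))
      (LocalizedModule (Submonoid.powers f) Γ(M, U)) := hfree'
  haveI : Module.Free (Localization (Submonoid.powers f)) Γ(M, X.basicOpen f) :=
    Module.Free.of_equiv iso'
  haveI : Module.Finite (Localization (Submonoid.powers f)) Γ(M, X.basicOpen f) :=
    Module.Finite.equiv iso'
  haveI : Nontrivial (Localization (Submonoid.powers f)) :=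
    (show Localization (Submonoid.powers f) →+* Localization.AtPrime p.asIdeal from
      IsLocalization.map (M := Submonoid.powers f) (T := p.asIdeal.primeCompl) _
        (RingHom.id _) (Submonoid.powers_le.mpr hf)).domain_nontrivial
  let b := Module.finBasis (Localization (Submonoid.powers f)) Γ(M, X.basicOpen f)
  refine ⟨_, fun i => b i, ?_, ?_⟩
  · rw [eq_top_iff]
    intro q _
    have hq : q ∈ Submodule.span (Localization (Submonoid.powers f)) (Set.range b) := b.mem_span q
    have key : ∀ y, y ∈ Submodule.span (Localization (Submonoid.powers f)) (Set.range b) →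
        y ∈ Submodule.span Γ(X, X.basicOpen f) (Set.range fun i => b i) := by
      intro y hy
      induction hy using Submodule.span_induction with
      | mem y hy => exact Submodule.subset_span hy
      | zero => exact Submodule.zero_mem _
      | add y z _ _ hy hz => exact Submodule.add_mem _ hy hz
      | smul c y _ hy => exact Submodule.smul_mem _ (e₁ c) hy
    exact key q hq
  · rw [Fintype.linearIndependent_iff]
    intro c hc i
    have h1 : ∑ j, (e₁.symm (c j)) • b j = 0 := by
      rw [← hc]
      refine Finset.sum_congr rfl (fun j _ => ?_)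
      show e₁ (e₁.symm (c j)) • b j = c j • b j
      rw [e₁.apply_symm_apply]
    have h2 := Fintype.linearIndependent_iff.mp b.linearIndependent _ h1 i
    rw [← e₁.apply_symm_apply (c i), h2, map_zero]

set_option backward.isDefEq.respectTransparency false in
/-- a retract of a finite free module is finite locally free. -/
theorem isFinLocFree_of_retract (M : X.Modules) {I : Type u} [Fintype I] [DecidableEq I]
    (φ : M ⟶ freeM X I) (ψ : freeM X I ⟶ M) (h : φ ≫ ψ = 𝟙 M) : FlatMod.IsFinLocFree M := by
  classical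
  haveI : (freeM X I).IsQuasicoherent := inferInstance
  haveI : M.IsQuasicoherent := isQuasicoherent_of_retract M (freeM X I) φ ψ h
  intro x
  have hx0 : x ∈ (⨆ U : X.affineOpens, (U : X.Opens)) := by
    rw [iSup_affineOpens_eq_top]; trivial
  obtain ⟨U0, hxU0⟩ := Opens.mem_iSup.mp hx0
  obtain ⟨hproj, hfin⟩ := projective_sections_of_retract M φ ψ h U0.1
  haveI := hproj
  haveI := hfin
  obtain ⟨f, hxf, r, g, hg, hli⟩ := exists_basis_basicOpen M U0.2 x hxU0
  have hV : IsAffineOpen (X.basicOpen f) := U0.2.basicOpen f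
  let g' : ULift.{u} (Fin r) → Γ(M, X.basicOpen f) := fun i => g i.down
  have hg' : Submodule.span Γ(X, X.basicOpen f) (Set.range g') = ⊤ := by
    rw [eq_top_iff, ← hg]
    apply Submodule.span_mono
    rintro _ ⟨i, rfl⟩
    exact ⟨⟨i⟩, rfl⟩
  have hli' : LinearIndependent Γ(X, X.basicOpen f) g' :=
    hli.comp (fun i : ULift.{u} (Fin r) => i.down) Equiv.ulift.injective
  obtain ⟨e'⟩ := exists_iso_free_restrict M hV (ULift.{u} (Fin r)) g' hg' hli'
  exact ⟨X.basicOpen f, r, hxf,
    ⟨e'.symm ≪≫ (freeModIso ((X.basicOpen f : X.Opens) : Scheme.{u}) r).symm⟩⟩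

end Groth.Agent.Lead.LocFree
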