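import Mathlib
import Groth.Prelude.Def_FlatMod2

/-!
# Basic structure theory of quasi-coherent modules on schemes (lead's library)

Main results (`F : X.Modules` quasi-coherent, `U` an affine open, `r : Γ(X, U)`):
* `exists_section_of_basicOpen`: every section of `F` over `D(r)` becomes, after multiplying by a
  power of `r`, the restriction of a section over `U`.
* `exists_pow_smul_eq_zero`: a section over `U` which vanishes on `D(r)` is killed by a power of `r`.
-/

set_option autoImplicit false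
universe u
open CategoryTheory CategoryTheory.Limits AlgebraicGeometry Opposite TopologicalSpace

namespace Groth.Agent.Lead.QCoh

variable {X : Scheme.{u}}

theorem image_le {U : X.Opens} (hU : IsAffineOpen U) (V : (Spec Γ(X, U)).Opens) :
    hU.fromSpec ''ᵁ V ≤ U := by
  have := hU.fromSpec.image_le_opensRange V
  rwa [hU.opensRange_fromSpec] at this

theorem fromSpec_appLE {U : X.Opens} (hU : IsAffineOpen U) (V : (Spec Γ(X, U)).Opens)
    (e : V ≤ hU.fromSpec ⁻¹ᵁ U) :
    hU.fromSpec.appLE U V e =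
      (Scheme.ΓSpecIso Γ(X, U)).inv ≫ (Spec Γ(X, U)).presheaf.map V.leTop.op := by
  rw [Scheme.Hom.appLE, hU.fromSpec_app_self, Category.assoc, ← Functor.map_comp]
  rfl

theorem appIso_inv_res {U : X.Opens} (hU : IsAffineOpen U) (V : (Spec Γ(X, U)).Opens)
    (a : Γ(X, U)) :
    (hU.fromSpec.appIso V).inv ((Spec Γ(X, U)).presheaf.map V.leTop.op
      ((Scheme.ΓSpecIso Γ(X, U)).inv a)) =
      X.presheaf.map (homOfLE (image_le hU V)).op a := by
  have e : V ≤ hU.fromSpec ⁻¹ᵁ U := by rw [hU.fromSpec_preimage_self]; exact le_top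
  have h := hU.fromSpec.appLE_appIso_inv e
  rw [fromSpec_appLE hU V e] at h
  exact congr($h a)

theorem smul_restrict_fromSpec (F : X.Modules) {U : X.Opens} (hU : IsAffineOpen U)
    (V : (Spec Γ(X, U)).Opens) (a : Γ(X, U)) (s : Γ(F.restrict hU.fromSpec, V)) :
    (a • s : Γ(F.restrict hU.fromSpec, V)) =
      (show Γ(F, hU.fromSpec ''ᵁ V) from
        (X.presheaf.map (homOfLE (image_le hU V)).op a) •
          (show Γ(F, hU.fromSpec ''ᵁ V) from s)) := by
  rw [Scheme.Modules.smul_Spec_def, ← appIso_inv_res hU V a]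
  rfl

section Spec

variable (R : CommRingCat.{u}) (G : (Spec R).Modules) [G.IsQuasicoherent]

theorem spec_isLocalizing : IsLocalizing (modulesSpecToSheaf.obj G) :=
  (isIso_fromTildeΓ_iff_isLocalizing G).mp
    (Scheme.Modules.isIso_fromTildeΓ_of_isQuasicoherent G)

/-- The basic open `D(r)` as an open of the scheme `Spec R`. -/
abbrev bo (r : R) : (Spec R).Opens := PrimeSpectrum.basicOpen r

theorem spec_exists (r : R) (s : Γ(G, bo R r)) :
    ∃ (n : ℕ) (t : Γ(G, ⊤)),
      G.presheaf.map (bo R r).leTop.op t = r ^ n • s := by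
  have := spec_isLocalizing R G r
  obtain ⟨⟨t, ⟨_, n, rfl⟩⟩, h⟩ := IsLocalizedModule.surj (Submonoid.powers r)
    ((modulesSpecToSheaf.obj G).obj.map (bo R r).leTop.op).hom s
  exact ⟨n, t, h.symm⟩

theorem spec_eq_zero (r : R) (t : Γ(G, ⊤))
    (h : G.presheaf.map (bo R r).leTop.op t = 0) :
    ∃ n : ℕ, r ^ n • t = 0 := by
  have := spec_isLocalizing R G r
  obtain ⟨⟨_, n, rfl⟩, hn⟩ := (IsLocalizedModule.eq_zero_iff (Submonoid.powers r)
    ((modulesSpecToSheaf.obj G).obj.map (bo R r).leTop.op).hom).mp h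
  exact ⟨n, hn⟩

end Spec

section General

variable (F : X.Modules) [F.IsQuasicoherent] {U : X.Opens} (hU : IsAffineOpen U) (r : Γ(X, U))

theorem aux_exists (W₁ W₂ : X.Opens) (h₁ : W₁ = hU.fromSpec ''ᵁ ⊤)
    (h₂ : W₂ = hU.fromSpec ''ᵁ (bo Γ(X, U) r))
    (hle : W₂ ≤ W₁) (hU₂ : W₂ ≤ U) (s : Γ(F, W₂)) :
    ∃ (n : ℕ) (t : Γ(F, W₁)), F.presheaf.map (homOfLE hle).op t =
      (X.presheaf.map (homOfLE hU₂).op r) ^ n • s := by
  subst h₁ h₂
  obtain ⟨n, t, h⟩ := spec_exists Γ(X, U) (F.restrict hU.fromSpec) r s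
  refine ⟨n, t, ?_⟩
  rw [← map_pow]
  exact h.trans (smul_restrict_fromSpec F hU _ (r ^ n) s)

theorem aux_eq_zero (W₁ W₂ : X.Opens) (h₁ : W₁ = hU.fromSpec ''ᵁ ⊤)
    (h₂ : W₂ = hU.fromSpec ''ᵁ (bo Γ(X, U) r))
    (hle : W₂ ≤ W₁) (hU₁ : W₁ ≤ U) (t : Γ(F, W₁))
    (h : F.presheaf.map (homOfLE hle).op t = 0) :
    ∃ n : ℕ, (X.presheaf.map (homOfLE hU₁).op r) ^ n • t = 0 := by
  subst h₁ h₂
  obtain ⟨n, hn⟩ := spec_eq_zero Γ(X, U) (F.restrict hU.fromSpec) r t h
  refine ⟨n, ?_⟩
  rw [← map_pow]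
  exact (smul_restrict_fromSpec F hU ⊤ (r ^ n) t).symm.trans hn

end General

section Main

variable (F : X.Modules) [F.IsQuasicoherent] {U : X.Opens} (hU : IsAffineOpen U) (r : Γ(X, U))

include hU in
/-- Sections of a quasi-coherent module over `D(r)` extend to `U` after multiplication by a power
of `r`. -/
theorem exists_section_of_basicOpen (s : Γ(F, X.basicOpen r)) :
    ∃ (n : ℕ) (t : Γ(F, U)), F.presheaf.map (homOfLE (X.basicOpen_le r)).op t =
      (X.presheaf.map (homOfLE (X.basicOpen_le r)).op r) ^ n • s :=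
  aux_exists F hU r U (X.basicOpen r)
    ((hU.fromSpec.image_top_eq_opensRange.trans hU.opensRange_fromSpec).symm)
    (hU.fromSpec_image_basicOpen r).symm (X.basicOpen_le r) (X.basicOpen_le r) s

include hU in
/-- A section of a quasi-coherent module over `U` vanishing on `D(r)` is killed by a power of `r`. -/
theorem exists_pow_smul_eq_zero (t : Γ(F, U))
    (h : F.presheaf.map (homOfLE (X.basicOpen_le r)).op t = 0) : ∃ n : ℕ, r ^ n • t = 0 := by
  obtain ⟨n, hn⟩ := aux_eq_zero F hU r U (X.basicOpen r)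
    ((hU.fromSpec.image_top_eq_opensRange.trans hU.opensRange_fromSpec).symm)
    (hU.fromSpec_image_basicOpen r).symm (X.basicOpen_le r) le_rfl t h
  refine ⟨n, ?_⟩
  have : X.presheaf.map (homOfLE (le_refl U)).op r = r := by
    rw [show homOfLE (le_refl U) = 𝟙 U from rfl, op_id, X.presheaf.map_id]; rfl
  rwa [this] at hn

end Main

section Stalk

/-- Germs are compatible with scalar multiplication. -/
theorem germ_smul (F : X.Modules) (W : X.Opens) (x : X) (hx : x ∈ W) (a : Γ(X, W)) (m : Γ(F, W)) :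
    F.presheaf.germ W x hx (a • m) = X.presheaf.germ W x hx a • F.presheaf.germ W x hx m :=
  PresheafOfModules.germ_smul (R := X.presheaf)
    (show PresheafOfModules (X.presheaf ⋙ forget₂ CommRingCat RingCat) from F.val) x W hx a m

variable (F : X.Modules) [F.IsQuasicoherent] {U : X.Opens} (hU : IsAffineOpen U)

include hU in
/-- Every element of the stalk of a quasi-coherent module at a point of an affine open `U` is a
"fraction" `m / a` with `m` a section over `U` and `a` a function on `U` invertible at `x`. -/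
theorem exists_smul_eq_germ (x : X) (hx : x ∈ U) (t : F.presheaf.stalk x) :
    ∃ (a : Γ(X, U)) (m : Γ(F, U)), x ∈ X.basicOpen a ∧
      X.presheaf.germ U x hx a • t = F.presheaf.germ U x hx m := by
  obtain ⟨V, hxV, s₀, rfl⟩ := TopCat.Presheaf.exists_germ_eq F.presheaf t
  obtain ⟨r, hrV, hxr⟩ := hU.exists_basicOpen_le (V := V) ⟨x, hxV⟩ hx
  obtain ⟨n, m, hm⟩ := exists_section_of_basicOpen F hU r (F.presheaf.map (homOfLE hrV).op s₀)
  refine ⟨r ^ (n + 1), r • m, ?_, ?_⟩
  · rw [Scheme.basicOpen_pow X r (Nat.succ_pos n)]; exact hxr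
  · have h1 := congrArg (F.presheaf.germ (X.basicOpen r) x hxr) hm
    rw [TopCat.Presheaf.germ_res_apply, germ_smul, map_pow, TopCat.Presheaf.germ_res_apply,
      TopCat.Presheaf.germ_res_apply] at h1
    rw [germ_smul, h1, map_pow, pow_succ', mul_smul]


include hU in
/-- The germ at `x ∈ U` of a section `m` over the affine open `U` of a quasi-coherent module vanishes
iff `m` is killed by a function on `U` which is invertible at `x`. -/
theorem germ_eq_zero_iff (x : X) (hx : x ∈ U) (m : Γ(F, U)) :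
    F.presheaf.germ U x hx m = 0 ↔ ∃ a : Γ(X, U), x ∈ X.basicOpen a ∧ a • m = 0 := by
  constructor
  · intro h
    have h0 : F.presheaf.germ U x hx m = F.presheaf.germ U x hx 0 := by rw [h, map_zero]
    obtain ⟨W, hxW, iU, iV, e⟩ := TopCat.Presheaf.germ_eq F.presheaf x hx hx m 0 h0
    rw [map_zero] at e
    obtain ⟨r, hrW, hxr⟩ := hU.exists_basicOpen_le (V := W) ⟨x, hxW⟩ hx
    have hres : F.presheaf.map (homOfLE (X.basicOpen_le r)).op m = 0 := by
      have : (homOfLE (X.basicOpen_le r)).op = iU.op ≫ (homOfLE hrW).op := rfl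
      rw [this, F.presheaf.map_comp, ConcreteCategory.comp_apply, e, map_zero]
    obtain ⟨n, hn⟩ := exists_pow_smul_eq_zero F hU r m hres
    refine ⟨r ^ (n + 1), ?_, ?_⟩
    · rw [Scheme.basicOpen_pow X r (Nat.succ_pos n)]; exact hxr
    · rw [pow_succ', mul_smul, hn, smul_zero]
  · rintro ⟨a, hxa, ha⟩
    have hu : IsUnit (X.presheaf.germ U x hx a) := (Scheme.mem_basicOpen _ _ x hx).mp hxa
    have := congrArg (F.presheaf.germ U x hx) ha
    rw [germ_smul, map_zero] at this
    exact hu.smul_eq_zero.mp this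

include hU in
/-- The stalk of a quasi-coherent module at a point `x` of an affine open `U` vanishes iff every
section over `U` is killed by a function on `U` invertible at `x`. -/
theorem subsingleton_stalk_iff (x : X) (hx : x ∈ U) :
    Subsingleton (F.presheaf.stalk x) ↔
      ∀ m : Γ(F, U), ∃ a : Γ(X, U), x ∈ X.basicOpen a ∧ a • m = 0 := by
  constructor
  · intro h m
    exact (germ_eq_zero_iff F hU x hx m).mp (Subsingleton.elim _ _)
  · intro h
    have hz : ∀ t : F.presheaf.stalk x, t = 0 := by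
      intro t
      obtain ⟨a, m, hxa, hat⟩ := exists_smul_eq_germ F hU x hx t
      have hu : IsUnit (X.presheaf.germ U x hx a) := (Scheme.mem_basicOpen _ _ x hx).mp hxa
      rw [(germ_eq_zero_iff F hU x hx m).mpr (h m)] at hat
      exact hu.smul_eq_zero.mp hat
    exact ⟨fun s t => by rw [hz s, hz t]⟩

omit [F.IsQuasicoherent] in
theorem mem_primeIdealOf_iff (x : X) (hx : x ∈ U) (a : Γ(X, U)) :
    a ∈ (hU.primeIdealOf ⟨x, hx⟩).asIdeal ↔ x ∉ X.basicOpen a := by
  rw [hU.primeIdealOf_eq_map_closedPoint, Scheme.mem_basicOpen _ _ x hx]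
  change X.presheaf.germ U x hx a ∈ IsLocalRing.maximalIdeal _ ↔ _
  rw [IsLocalRing.mem_maximalIdeal, mem_nonunits_iff]

end Stalk

section Generization

variable (F : X.Modules) [F.IsQuasicoherent]

/-- If the stalk of the quasi-coherent module `F` vanishes at the generization `y` of `x`
corresponding to the prime `p` of `𝒪_{X,x}`, then every element of `F_x` is killed by an element of
`𝒪_{X,x}` outside `p` (i.e. `(F_x)_p = 0`). -/
theorem exists_smul_eq_zero_of_subsingleton_stalk (x : X)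
    (p : PrimeSpectrum (X.presheaf.stalk x))
    (hy : Subsingleton (F.presheaf.stalk ((X.fromSpecStalk x) p))) (m : F.presheaf.stalk x) :
    ∃ s : X.presheaf.stalk x, s ∉ p.asIdeal ∧ s • m = 0 := by
  obtain ⟨_, ⟨U, hU, rfl⟩, hxU, -⟩ :=
    X.isBasis_affineOpens.exists_subset_of_mem_open (Set.mem_univ x) isOpen_univ
  have hU' : IsAffineOpen U := hU
  rw [← hU'.fromSpecStalk_eq_fromSpecStalk hxU] at hy
  set q : PrimeSpectrum Γ(X, U) := Spec.map (X.presheaf.germ U x hxU) p with hq
  have hyq : (hU'.fromSpecStalk hxU) p = hU'.fromSpec q := rfl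
  rw [hyq] at hy
  have hyU : hU'.fromSpec q ∈ U := by
    have : hU'.fromSpec q ∈ Set.range hU'.fromSpec := ⟨q, rfl⟩
    rwa [hU'.range_fromSpec] at this
  obtain ⟨b, m', hxb, hbm⟩ := exists_smul_eq_germ F hU' x hxU m
  obtain ⟨a, hya, ham⟩ := (subsingleton_stalk_iff F hU' _ hyU).mp hy m'
  refine ⟨X.presheaf.germ U x hxU a, ?_, ?_⟩
  · intro hmem
    have h1 : q ∈ hU'.fromSpec ⁻¹ᵁ (X.basicOpen a) := hya
    rw [hU'.fromSpec_preimage_basicOpen] at h1
    exact h1 hmem
  · have hu : IsUnit (X.presheaf.germ U x hxU b) := (Scheme.mem_basicOpen _ _ x hxU).mp hxb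
    have : X.presheaf.germ U x hxU b • (X.presheaf.germ U x hxU a • m) = 0 := by
      rw [smul_comm, hbm, ← germ_smul, ham, map_zero]
    exact hu.smul_eq_zero.mp this

/-- If `x` is a point such that no proper generization of `x` lies in the support of the
quasi-coherent module `F`, then every prime of `𝒪_{X,x}` containing the annihilator of an element
`m` of `F_x` is the maximal ideal. -/
theorem eq_maximalIdeal_of_annihilator_le (x : X)
    (hmax : ∀ y : X, ¬ Subsingleton (F.presheaf.stalk y) → y ⤳ x → y = x)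
    (m : F.presheaf.stalk x) (J : Ideal (X.presheaf.stalk x)) [J.IsPrime]
    (hJ : ∀ s : X.presheaf.stalk x, s • m = 0 → s ∈ J) :
    J = IsLocalRing.maximalIdeal (X.presheaf.stalk x) := by
  by_contra hne
  let p : PrimeSpectrum (X.presheaf.stalk x) := ⟨J, inferInstance⟩
  have hy : Subsingleton (F.presheaf.stalk ((X.fromSpecStalk x) p)) := by
    by_contra hns
    have hspec : (X.fromSpecStalk x) p ⤳ x := by
      have : (X.fromSpecStalk x) p ∈ Set.range (X.fromSpecStalk x) := ⟨p, rfl⟩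
      rwa [Scheme.range_fromSpecStalk] at this
    have heq := hmax _ hns hspec
    have : p = IsLocalRing.closedPoint _ := by
      apply (X.fromSpecStalk x).isEmbedding.injective
      rw [heq, Scheme.fromSpecStalk_closedPoint]
    exact hne (congrArg PrimeSpectrum.asIdeal this)
  obtain ⟨s, hs, hsm⟩ := exists_smul_eq_zero_of_subsingleton_stalk F x p hy m
  exact hs (hJ s hsm)

/-- Under the same hypothesis, the radical of the annihilator of a nonzero element of `F_x` is the
maximal ideal of `𝒪_{X,x}`. -/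
theorem radical_annihilator_eq_maximalIdeal (x : X)
    (hmax : ∀ y : X, ¬ Subsingleton (F.presheaf.stalk y) → y ⤳ x → y = x)
    (m : F.presheaf.stalk x) (hm : m ≠ 0) (I : Ideal (X.presheaf.stalk x))
    (hI : ∀ s : X.presheaf.stalk x, s ∈ I ↔ s • m = 0) :
    I.radical = IsLocalRing.maximalIdeal (X.presheaf.stalk x) := by
  have hItop : I ≠ ⊤ := by
    intro h
    have : (1 : X.presheaf.stalk x) ∈ I := by rw [h]; trivial
    rw [hI, one_smul] at this
    exact hm this
  apply le_antisymm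
  · have := IsLocalRing.le_maximalIdeal hItop
    exact (Ideal.IsPrime.isRadical inferInstance).radical_le_iff.mpr this
  · rw [Ideal.radical_eq_sInf]
    refine le_sInf ?_
    rintro J ⟨hIJ, hJp⟩
    have := hJp
    rw [eq_maximalIdeal_of_annihilator_le F x hmax m J (fun s hs => hIJ ((hI s).mpr hs))]

end Generization

section WeakAss

theorem exists_mul_pow_mem_of_mem_minimalPrimes {R : Type*} [CommRing R] {I q : Ideal R}
    (hq : q ∈ I.minimalPrimes) {a : R} (ha : a ∈ q) : ∃ (b : R) (k : ℕ), b ∉ q ∧ b * a ^ k ∈ I := by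
  classical
  by_contra hcon
  push_neg at hcon
  have hqp : q.IsPrime := hq.1.1
  let S : Submonoid R := q.primeCompl ⊔ Submonoid.powers a
  have hdisj : Disjoint (I : Set R) (S : Set R) := by
    rw [Set.disjoint_left]
    intro z hzI hzS
    obtain ⟨b, hb, c, ⟨k, rfl⟩, rfl⟩ := Submonoid.mem_sup.mp hzS
    exact hcon b k hb hzI
  obtain ⟨P, hP, hIP, hPS⟩ := Ideal.exists_le_prime_disjoint I S hdisj
  have hPq : P ≤ q := by
    intro z hz
    by_contra hzq
    exact Set.disjoint_left.mp hPS hz (Submonoid.mem_sup_left (show z ∈ q.primeCompl from hzq))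
  have hqP : q ≤ P := hq.2 ⟨hP, hIP⟩ hPq
  exact Set.disjoint_left.mp hPS (hqP ha) (Submonoid.mem_sup_right (Submonoid.mem_powers a))

variable (F : X.Modules) [F.IsQuasicoherent] {U : X.Opens} (hU : IsAffineOpen U)

omit [F.IsQuasicoherent] in
theorem primeIdealOf_fromSpec (z : PrimeSpectrum Γ(X, U)) (h : hU.fromSpec z ∈ U) :
    hU.primeIdealOf ⟨hU.fromSpec z, h⟩ = z := by
  apply hU.fromSpec.isOpenEmbedding.injective
  exact hU.fromSpec_primeIdealOf ⟨hU.fromSpec z, h⟩

include hU in
/-- If the prime `q` of `Γ(X, U)` corresponding to `y ∈ U` is minimal over the annihilator `I` of a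
section `m` of the quasi-coherent module `F` over the affine open `U`, then the radical of the
annihilator of the germ of `m` at `y` is the maximal ideal of `𝒪_{X,y}`. -/
theorem radical_annihilator_germ_eq_maximalIdeal (m : Γ(F, U)) (I : Ideal Γ(X, U))
    (hI : ∀ a, a ∈ I ↔ a • m = 0) (y : X) (hy : y ∈ U)
    (hq : (hU.primeIdealOf ⟨y, hy⟩).asIdeal ∈ I.minimalPrimes)
    (N : Ideal (X.presheaf.stalk y))
    (hN : ∀ α, α ∈ N ↔ α • F.presheaf.germ U y hy m = 0) :
    N.radical = IsLocalRing.maximalIdeal (X.presheaf.stalk y) := by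
  have hmemq : ∀ a : Γ(X, U), a ∈ (hU.primeIdealOf ⟨y, hy⟩).asIdeal ↔ y ∉ X.basicOpen a :=
    fun a => mem_primeIdealOf_iff hU y hy a
  have hunit : ∀ a : Γ(X, U), y ∈ X.basicOpen a ↔ IsUnit (X.presheaf.germ U y hy a) :=
    fun a => Scheme.mem_basicOpen _ _ y hy
  have hIq : I ≤ (hU.primeIdealOf ⟨y, hy⟩).asIdeal := hq.1.2
  have hNtop : N ≠ ⊤ := by
    intro h
    have h1 : (1 : X.presheaf.stalk y) ∈ N := by rw [h]; trivial
    rw [hN, one_smul, germ_eq_zero_iff F hU y hy m] at h1
    obtain ⟨b, hyb, hbm⟩ := h1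
    exact (hmemq b).mp (hIq ((hI b).mpr hbm)) hyb
  apply le_antisymm
  · exact (Ideal.IsPrime.isRadical inferInstance).radical_le_iff.mpr
      (IsLocalRing.le_maximalIdeal hNtop)
  · intro α hα
    letI : Algebra Γ(X, U) (X.presheaf.stalk y) :=
      TopCat.Presheaf.algebra_section_stalk X.presheaf ⟨y, hy⟩
    have hloc : IsLocalization.AtPrime (X.presheaf.stalk y)
        (hU.primeIdealOf ⟨y, hy⟩).asIdeal := hU.isLocalization_stalk ⟨y, hy⟩
    obtain ⟨⟨a, s⟩, hs⟩ := IsLocalization.surj (hU.primeIdealOf ⟨y, hy⟩).asIdeal.primeCompl α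
    change α * X.presheaf.germ U y hy s.1 = X.presheaf.germ U y hy a at hs
    have hsu : IsUnit (X.presheaf.germ U y hy s.1) := by
      rw [← hunit]
      by_contra hns
      exact s.2 ((hmemq s.1).mpr hns)
    have haq : a ∈ (hU.primeIdealOf ⟨y, hy⟩).asIdeal := by
      rw [hmemq, hunit, ← hs]
      intro hu
      exact ((IsLocalRing.mem_maximalIdeal _).mp hα) (isUnit_of_mul_isUnit_left hu)
    obtain ⟨b, k, hbq, hbk⟩ := exists_mul_pow_mem_of_mem_minimalPrimes hq haq
    have hyb : y ∈ X.basicOpen b := by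
      by_contra hnb
      exact hbq ((hmemq b).mpr hnb)
    have h0 : (X.presheaf.germ U y hy a) ^ k • F.presheaf.germ U y hy m = 0 := by
      rw [← map_pow, ← germ_smul, germ_eq_zero_iff F hU y hy]
      refine ⟨b, hyb, ?_⟩
      rw [← mul_smul]
      exact (hI _).mp hbk
    refine ⟨k, ?_⟩
    rw [hN]
    have h1 : (X.presheaf.germ U y hy s.1) ^ k • (α ^ k • F.presheaf.germ U y hy m) = 0 := by
      rw [← mul_smul, ← mul_pow, mul_comm, hs, h0]
    exact (hsu.pow k).smul_eq_zero.mp h1

end WeakAss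

section Zero

/-- A sheaf of modules all of whose stalks vanish is zero. -/
theorem isZero_of_subsingleton_stalk (F : X.Modules)
    (h : ∀ x : X, Subsingleton (F.presheaf.stalk x)) : IsZero F := by
  rw [IsZero.iff_id_eq_zero]
  ext U s
  have hs : ∀ t : Γ(F, U), t = 0 := by
    intro t
    apply TopCat.Presheaf.section_ext ((SheafOfModules.toSheaf _).obj F) U
    intro x hx
    exact @Subsingleton.elim _ (h x) _ _
  change _ = _
  rw [hs ((ConcreteCategory.hom ((𝟙 F : F ⟶ F).app U)) s)]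
  exact (hs _).symm

/-- The stalks of a zero sheaf of modules vanish. -/
theorem subsingleton_stalk_of_isZero (F : X.Modules) (h : IsZero F) (x : X) :
    Subsingleton (F.presheaf.stalk x) := by
  have hid : (𝟙 F : F ⟶ F) = 0 := (IsZero.iff_id_eq_zero F).mp h
  have hs : ∀ (U : X.Opens) (t : Γ(F, U)), t = 0 := by
    intro U t
    have := congrArg (fun φ : F ⟶ F => (ConcreteCategory.hom (φ.app U)) t) hid
    simpa using this
  have hz : ∀ t : F.presheaf.stalk x, t = 0 := by
    intro t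
    obtain ⟨V, hxV, s₀, rfl⟩ := TopCat.Presheaf.exists_germ_eq F.presheaf t
    rw [hs V s₀, map_zero]
  exact ⟨fun a b => by rw [hz a, hz b]⟩

end Zero

section ExistsWeakAss

variable (F : X.Modules) [F.IsQuasicoherent]

/-- A quasi-coherent module with a nonzero stalk has a "weakly associated point": a point `y` and an
element `t` of the stalk at `y` whose annihilator has radical the maximal ideal. -/
theorem exists_radical_annihilator_eq_maximalIdeal (x : X)
    (hx : ¬ Subsingleton (F.presheaf.stalk x)) :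
    ∃ (y : X) (t : F.presheaf.stalk y), ∀ N : Ideal (X.presheaf.stalk y),
      (∀ α, α ∈ N ↔ α • t = 0) → N.radical = IsLocalRing.maximalIdeal (X.presheaf.stalk y) := by
  obtain ⟨_, ⟨U, hU, rfl⟩, hxU, -⟩ :=
    X.isBasis_affineOpens.exists_subset_of_mem_open (Set.mem_univ x) isOpen_univ
  have hU' : IsAffineOpen U := hU
  rw [subsingleton_stalk_iff F hU' x hxU] at hx
  push_neg at hx
  obtain ⟨m, hm⟩ := hx
  let I : Ideal Γ(X, U) := LinearMap.ker (LinearMap.toSpanSingleton Γ(X, U) Γ(F, U) m)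
  have hI : ∀ a, a ∈ I ↔ a • m = 0 := fun a => by
    rw [LinearMap.mem_ker, LinearMap.toSpanSingleton_apply]
  have hIp : I ≤ (hU'.primeIdealOf ⟨x, hxU⟩).asIdeal := by
    intro a ha
    rw [mem_primeIdealOf_iff hU' x hxU a]
    intro hxa
    exact hm a hxa ((hI a).mp ha)
  obtain ⟨q, hq, -⟩ := Ideal.exists_minimalPrimes_le hIp
  have hqp : q.IsPrime := hq.1.1
  let z : PrimeSpectrum Γ(X, U) := ⟨q, hqp⟩
  have hy : hU'.fromSpec z ∈ U := by
    have : hU'.fromSpec z ∈ Set.range hU'.fromSpec := ⟨z, rfl⟩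
    rwa [hU'.range_fromSpec] at this
  have hz : hU'.primeIdealOf ⟨hU'.fromSpec z, hy⟩ = z := primeIdealOf_fromSpec hU' z hy
  have hq' : (hU'.primeIdealOf ⟨hU'.fromSpec z, hy⟩).asIdeal ∈ I.minimalPrimes := by
    rw [hz]; exact hq
  exact ⟨hU'.fromSpec z, F.presheaf.germ U _ hy m, fun N hN =>
    radical_annihilator_germ_eq_maximalIdeal F hU' m I hI _ hy hq' N hN⟩

end ExistsWeakAss

section ExistsWeakAssGerm

variable (F : X.Modules) [F.IsQuasicoherent] {U : X.Opens} (hU : IsAffineOpen U)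

include hU in
/-- Refined form: if the germ at `x ∈ U` of a section `m` over the affine open `U` is nonzero, there
is a point `y ∈ U` outside `D(a)` for every `a` killing `m`, at which the annihilator of the germ of
`m` has radical the maximal ideal. -/
theorem exists_weakAss_germ (m : Γ(F, U)) (x : X) (hxU : x ∈ U)
    (hx : F.presheaf.germ U x hxU m ≠ 0) :
    ∃ (y : X) (hy : y ∈ U), (∀ a : Γ(X, U), a • m = 0 → y ∉ X.basicOpen a) ∧
      ∀ N : Ideal (X.presheaf.stalk y), (∀ α, α ∈ N ↔ α • F.presheaf.germ U y hy m = 0) →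
        N.radical = IsLocalRing.maximalIdeal (X.presheaf.stalk y) := by
  have hm : ∀ a : Γ(X, U), x ∈ X.basicOpen a → a • m ≠ 0 := by
    intro a hxa ha
    exact hx ((germ_eq_zero_iff F hU x hxU m).mpr ⟨a, hxa, ha⟩)
  let I : Ideal Γ(X, U) := LinearMap.ker (LinearMap.toSpanSingleton Γ(X, U) Γ(F, U) m)
  have hI : ∀ a, a ∈ I ↔ a • m = 0 := fun a => by
    rw [LinearMap.mem_ker, LinearMap.toSpanSingleton_apply]
  have hIp : I ≤ (hU.primeIdealOf ⟨x, hxU⟩).asIdeal := by
    intro a ha
    rw [mem_primeIdealOf_iff hU x hxU a]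
    intro hxa
    exact hm a hxa ((hI a).mp ha)
  obtain ⟨q, hq, -⟩ := Ideal.exists_minimalPrimes_le hIp
  have hqp : q.IsPrime := hq.1.1
  let z : PrimeSpectrum Γ(X, U) := ⟨q, hqp⟩
  have hy : hU.fromSpec z ∈ U := by
    have : hU.fromSpec z ∈ Set.range hU.fromSpec := ⟨z, rfl⟩
    rwa [hU.range_fromSpec] at this
  have hz : hU.primeIdealOf ⟨hU.fromSpec z, hy⟩ = z := primeIdealOf_fromSpec hU z hy
  have hq' : (hU.primeIdealOf ⟨hU.fromSpec z, hy⟩).asIdeal ∈ I.minimalPrimes := by
    rw [hz]; exact hq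
  refine ⟨hU.fromSpec z, hy, ?_, fun N hN =>
    radical_annihilator_germ_eq_maximalIdeal F hU m I hI _ hy hq' N hN⟩
  intro a ha
  rw [← mem_primeIdealOf_iff hU _ hy a]
  exact hq'.1.2 ((hI a).mpr ha)

end ExistsWeakAssGerm

section Mono

/-- A morphism of `𝒪_X`-modules which is injective on all stalks is a monomorphism. -/
theorem mono_of_stalk_injective {F G : X.Modules} (φ : F ⟶ G)
    (h : ∀ x : X, Function.Injective
      ((TopCat.Presheaf.stalkFunctor AddCommGrpCat.{u} x).map (Scheme.Modules.Hom.mapPresheaf φ))) :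
    Mono φ := by
  apply (Scheme.Modules.toPresheaf X).mono_of_mono_map
  change Mono (Scheme.Modules.Hom.mapPresheaf φ)
  haveI : ∀ U, Mono ((Scheme.Modules.Hom.mapPresheaf φ).app U) := by
    intro U
    rw [AddCommGrpCat.mono_iff_injective]
    exact TopCat.Presheaf.app_injective_of_stalkFunctor_map_injective
      (F := (SheafOfModules.toSheaf _).obj F) (Scheme.Modules.Hom.mapPresheaf φ) U.unop
      (fun x _ => h x)
  exact NatTrans.mono_of_mono_app _

end Mono

section StalkLinear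

/-- The map induced on stalks by a morphism of `𝒪_X`-modules, as an additive map. -/
noncomputable def stalkMap {F G : X.Modules} (φ : F ⟶ G) (x : X) :
    F.presheaf.stalk x →+ G.presheaf.stalk x :=
  ((TopCat.Presheaf.stalkFunctor AddCommGrpCat.{u} x).map (Scheme.Modules.Hom.mapPresheaf φ)).hom

theorem stalkMap_germ {F G : X.Modules} (φ : F ⟶ G) (x : X) (U : X.Opens) (hx : x ∈ U)
    (s : Γ(F, U)) :
    stalkMap φ x (F.presheaf.germ U x hx s) = G.presheaf.germ U x hx (φ.app U s) :=
  TopCat.Presheaf.stalkFunctor_map_germ_apply U x hx (Scheme.Modules.Hom.mapPresheaf φ) s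

/-- The map induced on stalks by a morphism of `𝒪_X`-modules is `𝒪_{X,x}`-linear. -/
theorem stalkMap_smul {F G : X.Modules} (φ : F ⟶ G) (x : X) (a : X.presheaf.stalk x)
    (t : F.presheaf.stalk x) :
    stalkMap φ x (a • t) = a • stalkMap φ x t := by
  obtain ⟨V₁, hx₁, a₁, rfl⟩ := TopCat.Presheaf.exists_germ_eq X.presheaf a
  obtain ⟨V₂, hx₂, t₂, rfl⟩ := TopCat.Presheaf.exists_germ_eq F.presheaf t
  have hxW : x ∈ V₁ ⊓ V₂ := ⟨hx₁, hx₂⟩
  let a' : Γ(X, V₁ ⊓ V₂) := X.presheaf.map (homOfLE (inf_le_left : V₁ ⊓ V₂ ≤ V₁)).op a₁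
  let t' : Γ(F, V₁ ⊓ V₂) := F.presheaf.map (homOfLE (inf_le_right : V₁ ⊓ V₂ ≤ V₂)).op t₂
  have ha : X.presheaf.germ V₁ x hx₁ a₁ = X.presheaf.germ (V₁ ⊓ V₂) x hxW a' :=
    (TopCat.Presheaf.germ_res_apply X.presheaf (homOfLE inf_le_left) x hxW a₁).symm
  have ht : F.presheaf.germ V₂ x hx₂ t₂ = F.presheaf.germ (V₁ ⊓ V₂) x hxW t' :=
    (TopCat.Presheaf.germ_res_apply F.presheaf (homOfLE inf_le_right) x hxW t₂).symm
  rw [ha, ht, ← germ_smul, stalkMap_germ, stalkMap_germ, ← germ_smul]
  congr 1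
  exact Scheme.Modules.Hom.app_smul φ a' t'

end StalkLinear

end Groth.Agent.Lead.QCoh

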