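import Groth.Agent.Lead.QCoh9
import Groth.Agent.S0048

/-!
# Colimits of quasi-coherent modules are quasi-coherent
-/

universe u

open CategoryTheory CategoryTheory.Limits AlgebraicGeometry Opposite TopologicalSpace

namespace Groth.Agent.Lead.QCoh

variable {X : Scheme.{u}}

/-- Colimits of quasi-coherent modules on an affine scheme `Spec R` are quasi-coherent. -/
theorem isQuasicoherent_colimit_spec (R : CommRingCat.{u}) {J : Type u} [SmallCategory J]
    (D : J ⥤ (Spec R).Modules) (h : ∀ j, (D.obj j).IsQuasicoherent) :
    (colimit D).IsQuasicoherent := by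
  have hiso : ∀ j, IsIso ((Scheme.Modules.fromTildeΓNatTrans (R := R)).app (D.obj j)) := by
    intro j
    haveI := h j
    exact (inferInstance : IsIso (Scheme.Modules.fromTildeΓ (R := R) (D.obj j)))
  haveI : ∀ j, IsIso ((Functor.whiskerLeft D
      (Scheme.Modules.fromTildeΓNatTrans (R := R))).app j) := fun j => hiso j
  haveI : IsIso (Functor.whiskerLeft D (Scheme.Modules.fromTildeΓNatTrans (R := R))) :=
    NatIso.isIso_of_isIso_app _
  let α := asIso (Functor.whiskerLeft D (Scheme.Modules.fromTildeΓNatTrans (R := R)))
  let D' : J ⥤ ModuleCat.{u} R := D ⋙ moduleSpecΓFunctor (R := R)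
  have e : (tilde.functor R).obj (colimit D') ≅ colimit D :=
    preservesColimitIso (tilde.functor R) D' ≪≫ HasColimit.isoOfNatIso
      ((Functor.associator D (moduleSpecΓFunctor (R := R)) (tilde.functor R)) ≪≫ α ≪≫
        D.rightUnitor)
  exact (SheafOfModules.isQuasicoherent.{u} (Spec R).ringCatSheaf).prop_of_iso e
    (inferInstanceAs ((tilde.functor R).obj (colimit D')).IsQuasicoherent)

set_option backward.isDefEq.respectTransparency false in
/-- Colimits of quasi-coherent modules are quasi-coherent. -/
theorem isQuasicoherent_colimit {J : Type u} [SmallCategory J] (D : J ⥤ X.Modules)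
    (h : ∀ j, (D.obj j).IsQuasicoherent) : (colimit D).IsQuasicoherent := by
  apply Groth.Agent.S0048.isQuasicoherent_of_isOpenCover (colimit D)
    (fun V : X.affineOpens => (V : X.Opens)) (iSup_affineOpens_eq_top X)
  intro V
  haveI : IsAffine ((V : X.Opens) : Scheme.{u}) := V.2
  let e := ((V : X.Opens) : Scheme.{u}).isoSpec
  let Φ := Scheme.Modules.restrictFunctor (V : X.Opens).ι ⋙ Scheme.Modules.restrictFunctor e.inv
  haveI : PreservesColimitsOfSize.{u, u} (Scheme.Modules.restrictFunctor (V : X.Opens).ι) :=
    inferInstance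
  haveI : PreservesColimitsOfSize.{u, u} (Scheme.Modules.restrictFunctor e.inv) := inferInstance
  haveI : PreservesColimitsOfSize.{u, u} Φ := inferInstance
  have h1 : (colimit (D ⋙ Φ)).IsQuasicoherent :=
    isQuasicoherent_colimit_spec _ (D ⋙ Φ) (fun j => by
      haveI := h j
      show ((Scheme.Modules.restrictFunctor e.inv).obj
        ((Scheme.Modules.restrictFunctor (V : X.Opens).ι).obj (D.obj j))).IsQuasicoherent
      infer_instance)
  have h2 : (Φ.obj (colimit D)).IsQuasicoherent :=
    (SheafOfModules.isQuasicoherent.{u} _).prop_of_iso (preservesColimitIso Φ D).symm h1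
  have h3 : ((Scheme.Modules.restrictFunctor e.hom).obj
      ((Scheme.Modules.restrictFunctor e.inv).obj
        ((Scheme.Modules.restrictFunctor (V : X.Opens).ι).obj (colimit D)))).IsQuasicoherent := by
    haveI : ((Scheme.Modules.restrictFunctor e.inv).obj
        ((Scheme.Modules.restrictFunctor (V : X.Opens).ι).obj (colimit D))).IsQuasicoherent := h2
    infer_instance
  exact (SheafOfModules.isQuasicoherent.{u} _).prop_of_iso
    ((restrictIsoInvHom e).app ((Scheme.Modules.restrictFunctor (V : X.Opens).ι).obj (colimit D))) h3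

end Groth.Agent.Lead.QCoh
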