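import Groth.Agent.Lead.QCoh2

/-!
# Weakly associated points of the pushforward of a quasi-coherent module along a quasi-compact
morphism lift to weakly associated points of the module.
-/

universe u

open CategoryTheory CategoryTheory.Limits AlgebraicGeometry Opposite TopologicalSpace

namespace Groth.Agent.Lead.QCoh

variable {X : Scheme.{u}}

section Compact

/-- A section of a quasi-coherent module over a quasi-compact open `W` vanishing on `D(r)` is
killed by a power of `r`. -/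
theorem exists_pow_smul_eq_zero_of_isCompact (F : X.Modules) [F.IsQuasicoherent] (W : X.Opens)
    (hW : IsCompact (X := X) W) (r : Γ(X, W)) (n : Γ(F, W))
    (h : F.presheaf.map (homOfLE (X.basicOpen_le r)).op n = 0) : ∃ k : ℕ, r ^ k • n = 0 := by
  obtain ⟨I, hI, e⟩ := isCompact_iff_finite_and_eq_biUnion_affineOpens.mp hW
  have hle : ∀ i ∈ I, (i : X.Opens) ≤ W := fun i hi => by
    rw [e]; exact le_iSup₂ (f := fun (i : X.affineOpens) (_ : i ∈ I) => (i : X.Opens)) i hi
  have key : ∀ i : X.affineOpens, ∀ hi : i ∈ I, ∃ k : ℕ, ∀ k', k ≤ k' →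
      F.presheaf.map (homOfLE (hle i hi)).op (r ^ k' • n) = 0 := by
    intro i hi
    have hb : X.basicOpen (X.presheaf.map (homOfLE (hle i hi)).op r) ≤ X.basicOpen r := by
      rw [Scheme.basicOpen_res]; exact inf_le_right
    have h0 : F.presheaf.map (homOfLE (X.basicOpen_le
        (X.presheaf.map (homOfLE (hle i hi)).op r))).op
        (F.presheaf.map (homOfLE (hle i hi)).op n) = 0 := by
      have : F.presheaf.map (homOfLE (X.basicOpen_le
          (X.presheaf.map (homOfLE (hle i hi)).op r))).op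
          (F.presheaf.map (homOfLE (hle i hi)).op n) =
          F.presheaf.map (homOfLE hb).op
            (F.presheaf.map (homOfLE (X.basicOpen_le r)).op n) := by
        rw [← ConcreteCategory.comp_apply, ← ConcreteCategory.comp_apply, ← Functor.map_comp,
          ← Functor.map_comp]
        rfl
      rw [this, h, map_zero]
    obtain ⟨k, hk⟩ := exists_pow_smul_eq_zero F i.2 _ _ h0
    refine ⟨k, fun k' hk' => ?_⟩
    rw [Scheme.Modules.map_smul, map_pow]
    obtain ⟨d, rfl⟩ := Nat.exists_eq_add_of_le hk'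
    rw [pow_add, mul_comm, mul_smul, hk, smul_zero]
  choose! kf hkf using key
  refine ⟨hI.toFinset.sup kf, ?_⟩
  apply TopCat.Presheaf.section_ext ((SheafOfModules.toSheaf _).obj F) W
  intro x hx
  have hx' : x ∈ (⨆ i ∈ I, (i : X.Opens) : X.Opens) := e ▸ hx
  simp only [Opens.mem_iSup] at hx'
  obtain ⟨i, hi, hxi⟩ := hx'
  have h1 := hkf i hi _ (Finset.le_sup (hI.mem_toFinset.mpr hi))
  have h2 := congrArg (F.presheaf.germ i x hxi) h1
  rw [TopCat.Presheaf.germ_res_apply, map_zero] at h2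
  exact h2.trans (map_zero _).symm

end Compact

section Converse

/-- Converse of `radical_annihilator_germ_eq_maximalIdeal`, for an arbitrary module satisfying the
"germ vanishes iff killed by a function invertible at the point" property at `s`. -/
theorem mem_minimalPrimes_of_radical_eq (G : X.Modules) {V : X.Opens} (hV : IsAffineOpen V)
    (s : X) (hs : s ∈ V) (n : Γ(G, V))
    (H : ∀ n' : Γ(G, V), G.presheaf.germ V s hs n' = 0 →
      ∃ g : Γ(X, V), s ∈ X.basicOpen g ∧ g • n' = 0)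
    (I : Ideal Γ(X, V)) (hI : ∀ a, a ∈ I ↔ a • n = 0)
    (N : Ideal (X.presheaf.stalk s)) (hN : ∀ α, α ∈ N ↔ α • G.presheaf.germ V s hs n = 0)
    (hrad : N.radical = IsLocalRing.maximalIdeal (X.presheaf.stalk s)) :
    (hV.primeIdealOf ⟨s, hs⟩).asIdeal ∈ I.minimalPrimes := by
  have hmem : ∀ a : Γ(X, V), a ∈ (hV.primeIdealOf ⟨s, hs⟩).asIdeal ↔ s ∉ X.basicOpen a :=
    fun a => mem_primeIdealOf_iff hV s hs a
  have hunit : ∀ a : Γ(X, V), s ∈ X.basicOpen a ↔ IsUnit (X.presheaf.germ V s hs a) :=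
    fun a => Scheme.mem_basicOpen _ _ s hs
  have hne : G.presheaf.germ V s hs n ≠ 0 := by
    intro h0
    have : (1 : X.presheaf.stalk s) ∈ N.radical :=
      Ideal.le_radical ((hN 1).mpr (by rw [h0, smul_zero]))
    rw [hrad] at this
    exact (IsLocalRing.maximalIdeal.isMaximal _).ne_top ((Ideal.eq_top_iff_one _).mpr this)
  refine ⟨⟨(hV.primeIdealOf ⟨s, hs⟩).isPrime, ?_⟩, ?_⟩
  · intro a ha
    rw [hmem]
    intro hsa
    apply hne
    have := congrArg (G.presheaf.germ V s hs) ((hI a).mp ha)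
    rw [germ_smul, map_zero] at this
    exact ((hunit a).mp hsa).smul_eq_zero.mp this
  · rintro p' ⟨hp', hIp'⟩ hle a ha
    have ha' : X.presheaf.germ V s hs a ∈ IsLocalRing.maximalIdeal (X.presheaf.stalk s) := by
      rw [IsLocalRing.mem_maximalIdeal, mem_nonunits_iff, ← hunit, ← hmem]; exact ha
    rw [← hrad] at ha'
    obtain ⟨k, hk⟩ := ha'
    rw [hN, ← map_pow, ← germ_smul] at hk
    obtain ⟨g, hsg, hg⟩ := H _ hk
    have hgI : g * a ^ k ∈ I := (hI _).mpr (by rw [mul_smul]; exact hg)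
    have hgp : g ∉ p' := fun hgp' => (hmem g).mp (hle hgp') hsg
    rcases hp'.mem_or_mem (hIp' hgI) with h1 | h1
    · exact absurd h1 hgp
    · exact hp'.mem_of_pow_mem k h1

end Converse

section Pushforward

variable {S : Scheme.{u}} (f : X ⟶ S) [QuasiCompact f] (F : X.Modules) [F.IsQuasicoherent]

theorem push_germ_eq_zero {V : S.Opens} (hV : IsAffineOpen V) (s : S) (hs : s ∈ V)
    (n : Γ(F, f ⁻¹ᵁ V))
    (h : ((Scheme.Modules.pushforward f).obj F).presheaf.germ V s hs n = 0) :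
    ∃ g : Γ(S, V), s ∈ S.basicOpen g ∧ (f.app V g) • n = 0 := by
  have h0 : ((Scheme.Modules.pushforward f).obj F).presheaf.germ V s hs n =
      ((Scheme.Modules.pushforward f).obj F).presheaf.germ V s hs 0 := by rw [h, map_zero]
  obtain ⟨W, hsW, iU, iV, e⟩ := TopCat.Presheaf.germ_eq
    ((Scheme.Modules.pushforward f).obj F).presheaf s hs hs n 0 h0
  rw [map_zero] at e
  obtain ⟨g, hgW, hsg⟩ := hV.exists_basicOpen_le (V := W) ⟨s, hsW⟩ hs
  have hres : F.presheaf.map (homOfLE (X.basicOpen_le (f.app V g))).op n = 0 := by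
    have hle : X.basicOpen (f.app V g) ≤ f ⁻¹ᵁ W := by
      rw [← Scheme.preimage_basicOpen]
      exact ((Opens.map f.base).map (homOfLE hgW)).le
    have e' : F.presheaf.map ((Opens.map f.base).map iU).op n = 0 := e
    have : F.presheaf.map (homOfLE (X.basicOpen_le (f.app V g))).op n =
        F.presheaf.map (homOfLE hle).op (F.presheaf.map ((Opens.map f.base).map iU).op n) := by
      rw [← ConcreteCategory.comp_apply, ← Functor.map_comp]
      rfl
    rw [this, e', map_zero]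
  obtain ⟨k, hk⟩ := exists_pow_smul_eq_zero_of_isCompact F (f ⁻¹ᵁ V)
    (f.isCompact_preimage hV.isCompact) (f.app V g) n hres
  refine ⟨g ^ (k + 1), ?_, ?_⟩
  · rw [Scheme.basicOpen_pow S g (Nat.succ_pos k)]; exact hsg
  · rw [map_pow, pow_succ', mul_smul, hk, smul_zero]

/-- **Weakly associated points of a pushforward lift.** -/
theorem exists_weakAssPoint_of_pushforward (s : S)
    (hs : Curv2.IsWeakAssPoint ((Scheme.Modules.pushforward f).obj F) s) :
    ∃ x : X, f x = s ∧ Curv2.IsWeakAssPoint F x := by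
  obtain ⟨t, ht⟩ := hs
  obtain ⟨V₀, hsV₀, n₀, rfl⟩ :=
    TopCat.Presheaf.exists_germ_eq ((Scheme.Modules.pushforward f).obj F).presheaf t
  obtain ⟨_, ⟨V, hV, rfl⟩, hsV, hVV₀⟩ :=
    S.isBasis_affineOpens.exists_subset_of_mem_open hsV₀ V₀.isOpen
  have hV' : IsAffineOpen V := hV
  let n : Γ((Scheme.Modules.pushforward f).obj F, V) :=
    ((Scheme.Modules.pushforward f).obj F).presheaf.map (homOfLE hVV₀).op n₀
  have hgerm : ((Scheme.Modules.pushforward f).obj F).presheaf.germ V s hsV n =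
      ((Scheme.Modules.pushforward f).obj F).presheaf.germ V₀ s hsV₀ n₀ :=
    TopCat.Presheaf.germ_res_apply _ (homOfLE hVV₀) s hsV n₀
  rw [← hgerm] at ht
  let I : Ideal Γ(S, V) := LinearMap.ker (LinearMap.toSpanSingleton Γ(S, V)
    Γ((Scheme.Modules.pushforward f).obj F, V) n)
  have hI : ∀ a, a ∈ I ↔ a • n = 0 := fun a => by
    rw [LinearMap.mem_ker, LinearMap.toSpanSingleton_apply]
  have hsmul : ∀ (a : Γ(S, V)) (n' : Γ((Scheme.Modules.pushforward f).obj F, V)),
      a • n' = ((f.app V a) • (show Γ(F, f ⁻¹ᵁ V) from n') : Γ(F, f ⁻¹ᵁ V)) := fun a n' => rfl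
  have hmin : (hV'.primeIdealOf ⟨s, hsV⟩).asIdeal ∈ I.minimalPrimes := by
    refine mem_minimalPrimes_of_radical_eq _ hV' s hsV n ?_ I hI _ (fun α => ?_) ht
    · intro n' hn'
      obtain ⟨g, hsg, hg⟩ := push_germ_eq_zero f F hV' s hsV n' hn'
      exact ⟨g, hsg, (hsmul g n').trans hg⟩
    · rw [LinearMap.mem_ker, LinearMap.toSpanSingleton_apply]
  obtain ⟨J, hJ, e⟩ := isCompact_iff_finite_and_eq_biUnion_affineOpens.mp
    (f.isCompact_preimage hV'.isCompact)
  have hle : ∀ i ∈ J, (i : X.Opens) ≤ f ⁻¹ᵁ V := fun i hi => by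
    rw [e]; exact le_iSup₂ (f := fun (i : X.affineOpens) (_ : i ∈ J) => (i : X.Opens)) i hi
  -- restriction of `a • n` to the members of the cover
  have hres : ∀ (i : X.affineOpens) (hi : i ∈ J) (a : Γ(S, V)),
      F.presheaf.map (homOfLE (hle i hi)).op (a • n) =
        (f.appLE V i (hle i hi)).hom a • F.presheaf.map (homOfLE (hle i hi)).op n := by
    intro i hi a
    rw [hsmul, Scheme.Modules.map_smul]
    rfl
  have hex : ∃ i, ∃ hi : i ∈ J, Ideal.comap (f.appLE V i (hle i hi)).hom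
      (LinearMap.ker (LinearMap.toSpanSingleton Γ(X, i) Γ(F, i)
        (F.presheaf.map (homOfLE (hle i hi)).op n))) ≤ (hV'.primeIdealOf ⟨s, hsV⟩).asIdeal := by
    by_contra hcon
    push Not at hcon
    have hch : ∀ i : X.affineOpens, ∀ hi : i ∈ J, ∃ a : Γ(S, V),
        (f.appLE V i (hle i hi)).hom a • F.presheaf.map (homOfLE (hle i hi)).op n = 0 ∧
        a ∉ (hV'.primeIdealOf ⟨s, hsV⟩).asIdeal := by
      intro i hi
      obtain ⟨a, ha, ha'⟩ := Set.not_subset.mp (hcon i hi)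
      refine ⟨a, ?_, ha'⟩
      have := ha
      rw [SetLike.mem_coe, Ideal.mem_comap, LinearMap.mem_ker,
        LinearMap.toSpanSingleton_apply] at this
      exact this
    choose! af haf using hch
    have hprime := (hV'.primeIdealOf ⟨s, hsV⟩).isPrime
    have hprod : ∏ i ∈ hJ.toFinset, af i ∉ (hV'.primeIdealOf ⟨s, hsV⟩).asIdeal := by
      rw [Ideal.IsPrime.prod_mem_iff]
      rintro ⟨i, hi, hai⟩
      exact (haf i (hJ.mem_toFinset.mp hi)).2 hai
    apply hprod
    apply hmin.1.2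
    rw [hI]
    apply TopCat.Presheaf.section_ext ((SheafOfModules.toSheaf _).obj F) (f ⁻¹ᵁ V)
    intro x hx
    have hx' : x ∈ (⨆ i ∈ J, (i : X.Opens) : X.Opens) := e ▸ hx
    simp only [Opens.mem_iSup] at hx'
    obtain ⟨i, hi, hxi⟩ := hx'
    have h1 : F.presheaf.map (homOfLE (hle i hi)).op ((∏ i ∈ hJ.toFinset, af i) • n) = 0 := by
      rw [hres i hi]
      obtain ⟨c, hc⟩ := Finset.dvd_prod_of_mem af (hJ.mem_toFinset.mpr hi)
      rw [hc, map_mul, mul_comm, mul_smul, (haf i hi).1, smul_zero]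
    have h2 := congrArg (F.presheaf.germ i x hxi) h1
    rw [TopCat.Presheaf.germ_res_apply, map_zero] at h2
    exact h2.trans (map_zero _).symm
  obtain ⟨i, hi, hcomap⟩ := hex
  have hIle : I ≤ Ideal.comap (f.appLE V i (hle i hi)).hom
      (LinearMap.ker (LinearMap.toSpanSingleton Γ(X, i) Γ(F, i)
        (F.presheaf.map (homOfLE (hle i hi)).op n))) := by
    intro a ha
    rw [Ideal.mem_comap, LinearMap.mem_ker, LinearMap.toSpanSingleton_apply, ← hres i hi]
    have h0 : a • n = 0 := (hI a).mp ha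
    exact (congrArg (fun t : Γ(F, f ⁻¹ᵁ V) => F.presheaf.map (homOfLE (hle i hi)).op t) h0).trans
      (map_zero _)
  have hmin' : (hV'.primeIdealOf ⟨s, hsV⟩).asIdeal ∈
      (Ideal.comap (f.appLE V i (hle i hi)).hom
      (LinearMap.ker (LinearMap.toSpanSingleton Γ(X, i) Γ(F, i)
        (F.presheaf.map (homOfLE (hle i hi)).op n)))).minimalPrimes :=
    ⟨⟨hmin.1.1, hcomap⟩, fun p' hp' hp'le => hmin.2 ⟨hp'.1, hIle.trans hp'.2⟩ hp'le⟩
  obtain ⟨q, hq, hqc⟩ := Ideal.exists_minimalPrimes_comap_eq _ _ hmin'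
  have hqp : q.IsPrime := hq.1.1
  let z : PrimeSpectrum Γ(X, i) := ⟨q, hqp⟩
  have hy : i.2.fromSpec z ∈ (i : X.Opens) := by
    have : i.2.fromSpec z ∈ Set.range i.2.fromSpec := ⟨z, rfl⟩
    rwa [i.2.range_fromSpec] at this
  have hz : i.2.primeIdealOf ⟨i.2.fromSpec z, hy⟩ = z := primeIdealOf_fromSpec i.2 z hy
  have hq' : (i.2.primeIdealOf ⟨i.2.fromSpec z, hy⟩).asIdeal ∈
      Ideal.minimalPrimes (LinearMap.ker (LinearMap.toSpanSingleton Γ(X, i) Γ(F, i)
        (F.presheaf.map (homOfLE (hle i hi)).op n))) := by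
    rw [hz]; exact hq
  refine ⟨i.2.fromSpec z, ?_, F.presheaf.germ i _ hy (F.presheaf.map (homOfLE (hle i hi)).op n),
    radical_annihilator_germ_eq_maximalIdeal F i.2 _ _
      (fun a => by rw [LinearMap.mem_ker, LinearMap.toSpanSingleton_apply]) _ hy hq' _
      (fun α => by rw [LinearMap.mem_ker, LinearMap.toSpanSingleton_apply])⟩
  have h1 := congrArg (fun ψ : Spec Γ(X, i) ⟶ S => ψ z)
    (IsAffineOpen.SpecMap_appLE_fromSpec f hV' i.2 (hle i hi))
  simp only [Scheme.Hom.comp_apply] at h1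
  rw [← h1]
  have h2 : Spec.map (f.appLE V i (hle i hi)) z = hV'.primeIdealOf ⟨s, hsV⟩ :=
    PrimeSpectrum.ext hqc
  rw [h2]
  exact hV'.fromSpec_primeIdealOf ⟨s, hsV⟩

end Pushforward

section PushforwardConverse

/-- Variant of `radical_annihilator_germ_eq_maximalIdeal` for a not necessarily quasi-coherent
module, assuming only the relevant "germ vanishes implies killed by a unit" property. -/
theorem radical_annihilator_germ_eq_maximalIdeal' (G : X.Modules) {V : X.Opens}
    (hV : IsAffineOpen V) (m : Γ(G, V)) (I : Ideal Γ(X, V))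
    (hI : ∀ a, a ∈ I ↔ a • m = 0) (y : X) (hy : y ∈ V)
    (H : G.presheaf.germ V y hy m = 0 → ∃ g : Γ(X, V), y ∈ X.basicOpen g ∧ g • m = 0)
    (hq : (hV.primeIdealOf ⟨y, hy⟩).asIdeal ∈ I.minimalPrimes)
    (N : Ideal (X.presheaf.stalk y))
    (hN : ∀ α, α ∈ N ↔ α • G.presheaf.germ V y hy m = 0) :
    N.radical = IsLocalRing.maximalIdeal (X.presheaf.stalk y) := by
  have hmemq : ∀ a : Γ(X, V), a ∈ (hV.primeIdealOf ⟨y, hy⟩).asIdeal ↔ y ∉ X.basicOpen a :=
    fun a => mem_primeIdealOf_iff hV y hy a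
  have hunit : ∀ a : Γ(X, V), y ∈ X.basicOpen a ↔ IsUnit (X.presheaf.germ V y hy a) :=
    fun a => Scheme.mem_basicOpen _ _ y hy
  have hIq : I ≤ (hV.primeIdealOf ⟨y, hy⟩).asIdeal := hq.1.2
  have hNtop : N ≠ ⊤ := by
    intro h
    have h1 : (1 : X.presheaf.stalk y) ∈ N := by rw [h]; trivial
    rw [hN, one_smul] at h1
    obtain ⟨b, hyb, hbm⟩ := H h1
    exact (hmemq b).mp (hIq ((hI b).mpr hbm)) hyb
  apply le_antisymm
  · exact (Ideal.IsPrime.isRadical inferInstance).radical_le_iff.mpr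
      (IsLocalRing.le_maximalIdeal hNtop)
  · intro α hα
    letI : Algebra Γ(X, V) (X.presheaf.stalk y) :=
      TopCat.Presheaf.algebra_section_stalk X.presheaf ⟨y, hy⟩
    have hloc : IsLocalization.AtPrime (X.presheaf.stalk y)
        (hV.primeIdealOf ⟨y, hy⟩).asIdeal := hV.isLocalization_stalk ⟨y, hy⟩
    obtain ⟨⟨a, s⟩, hs⟩ := IsLocalization.surj (hV.primeIdealOf ⟨y, hy⟩).asIdeal.primeCompl α
    change α * X.presheaf.germ V y hy s.1 = X.presheaf.germ V y hy a at hs
    have hsu : IsUnit (X.presheaf.germ V y hy s.1) := by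
      rw [← hunit]
      by_contra hns
      exact s.2 ((hmemq s.1).mpr hns)
    have haq : a ∈ (hV.primeIdealOf ⟨y, hy⟩).asIdeal := by
      rw [hmemq, hunit, ← hs]
      intro hu
      exact ((IsLocalRing.mem_maximalIdeal _).mp hα) (isUnit_of_mul_isUnit_left hu)
    obtain ⟨b, k, hbq, hbk⟩ := exists_mul_pow_mem_of_mem_minimalPrimes hq haq
    have hyb : y ∈ X.basicOpen b := by
      by_contra hnb
      exact hbq ((hmemq b).mpr hnb)
    have h0 : (X.presheaf.germ V y hy a) ^ k • G.presheaf.germ V y hy m = 0 := by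
      have hb0 : (b * a ^ k) • m = 0 := (hI _).mp hbk
      have := congrArg (G.presheaf.germ V y hy) hb0
      rw [mul_smul, germ_smul, germ_smul, map_zero, map_pow] at this
      exact ((hunit b).mp hyb).smul_eq_zero.mp this
    refine ⟨k, ?_⟩
    rw [hN]
    have h1 : (X.presheaf.germ V y hy s.1) ^ k • (α ^ k • G.presheaf.germ V y hy m) = 0 := by
      rw [← mul_smul, ← mul_pow, mul_comm, hs, h0]
    exact (hsu.pow k).smul_eq_zero.mp h1

variable {S : Scheme.{u}} (f : X ⟶ S) [QuasiCompact f] (F : X.Modules) [F.IsQuasicoherent]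

/-- If `V` is an affine open of `S` with affine preimage `f⁻¹V` whose ring of functions is
noetherian, then the image of a weakly associated point of `F` in `f⁻¹V` is weakly associated to
`f_* F`. -/
theorem isWeakAssPoint_pushforward {V : S.Opens} (hV : IsAffineOpen V)
    (hU : IsAffineOpen (f ⁻¹ᵁ V)) [IsNoetherianRing Γ(X, f ⁻¹ᵁ V)]
    (x : X) (hx : x ∈ f ⁻¹ᵁ V) (hw : Curv2.IsWeakAssPoint F x) :
    Curv2.IsWeakAssPoint ((Scheme.Modules.pushforward f).obj F) (f x) := by
  obtain ⟨t, ht⟩ := hw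
  obtain ⟨b, m, hxb, hbt⟩ := exists_smul_eq_germ F hU x hx t
  have hbu : IsUnit (X.presheaf.germ (f ⁻¹ᵁ V) x hx b) :=
    (Scheme.mem_basicOpen _ _ x hx).mp hxb
  have hN : ∀ α : X.presheaf.stalk x, α ∈ LinearMap.ker (LinearMap.toSpanSingleton
      (X.presheaf.stalk x) (F.presheaf.stalk x) t) ↔
      α • F.presheaf.germ (f ⁻¹ᵁ V) x hx m = 0 := by
    intro α
    rw [LinearMap.mem_ker, LinearMap.toSpanSingleton_apply, ← hbt, smul_comm]
    exact (hbu.smul_eq_zero).symm
  have hmin : (hU.primeIdealOf ⟨x, hx⟩).asIdeal ∈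
      ((⊥ : Submodule Γ(X, f ⁻¹ᵁ V) Γ(F, f ⁻¹ᵁ V)).colon {m}).minimalPrimes :=
    mem_minimalPrimes_of_radical_eq F hU x hx m
      (fun n' hn' => (germ_eq_zero_iff F hU x hx n').mp hn') _
      (fun a => by rw [Submodule.mem_colon_singleton, Submodule.mem_bot]) _ hN ht
  obtain ⟨m', hm'⟩ := Submodule.exists_eq_colon_of_mem_minimalPrimes hmin
  have hsV : f x ∈ V := hx
  let I : Ideal Γ(S, V) := LinearMap.ker (LinearMap.toSpanSingleton Γ(S, V)
    Γ((Scheme.Modules.pushforward f).obj F, V) m')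
  have hI : ∀ a, a ∈ I ↔
      a • (show Γ((Scheme.Modules.pushforward f).obj F, V) from m') = 0 := fun a => by
    rw [LinearMap.mem_ker, LinearMap.toSpanSingleton_apply]
  have hsm : ∀ a : Γ(S, V),
      a • (show Γ((Scheme.Modules.pushforward f).obj F, V) from m') = 0 ↔
        (f.app V a) • m' = 0 := fun a => Iff.rfl
  have hIeq : (hV.primeIdealOf ⟨f x, hsV⟩).asIdeal = I := by
    ext a
    have h2 : x ∈ f ⁻¹ᵁ S.basicOpen a ↔ x ∈ X.basicOpen (f.app V a) := by
      rw [Scheme.preimage_basicOpen]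
    have h1 : (f x ∈ S.basicOpen a) ↔ x ∈ X.basicOpen (f.app V a) := h2
    rw [hI, hsm, mem_primeIdealOf_iff hV (f x) hsV a, h1, ← mem_primeIdealOf_iff hU x hx, hm',
      Submodule.mem_colon_singleton, Submodule.mem_bot]
  refine ⟨((Scheme.Modules.pushforward f).obj F).presheaf.germ V (f x) hsV m', ?_⟩
  refine radical_annihilator_germ_eq_maximalIdeal' _ hV m' I hI (f x) hsV ?_ ?_ _
    (fun α => by rw [LinearMap.mem_ker, LinearMap.toSpanSingleton_apply])
  · intro h0
    obtain ⟨g, hsg, hg⟩ := push_germ_eq_zero f F hV (f x) hsV m' h0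
    exact ⟨g, hsg, hg⟩
  · rw [← hIeq]
    have := (hV.primeIdealOf ⟨f x, hsV⟩).isPrime
    rw [Ideal.minimalPrimes_eq_subsingleton_self]
    exact Set.mem_singleton _

omit [QuasiCompact f] in
theorem isWeakAssPoint_pushforward_of_isAffineHom [IsAffineHom f] [IsLocallyNoetherian X]
    (x : X) (hw : Curv2.IsWeakAssPoint F x) :
    Curv2.IsWeakAssPoint ((Scheme.Modules.pushforward f).obj F) (f x) := by
  obtain ⟨_, ⟨V, hV, rfl⟩, hsV, -⟩ :=
    S.isBasis_affineOpens.exists_subset_of_mem_open (Set.mem_univ (f x)) isOpen_univ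
  have hV' : IsAffineOpen V := hV
  have hU : IsAffineOpen (f ⁻¹ᵁ V) := hV'.preimage f
  haveI : IsNoetherianRing Γ(X, f ⁻¹ᵁ V) := IsLocallyNoetherian.component_noetherian ⟨_, hU⟩
  exact isWeakAssPoint_pushforward f F hV' hU x hsV hw

end PushforwardConverse

section Integral

/-- Incomparability for integral morphisms: two points in the same fibre of an integral morphism,
one specializing to the other, are equal. -/
theorem eq_of_specializes_of_isIntegralHom {S : Scheme.{u}} (f : X ⟶ S) [IsIntegralHom f]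
    (x y : X) (h : y ⤳ x) (hf : f x = f y) : x = y := by
  obtain ⟨_, ⟨V, hV, rfl⟩, hsV, -⟩ :=
    S.isBasis_affineOpens.exists_subset_of_mem_open (Set.mem_univ (f x)) isOpen_univ
  have hV' : IsAffineOpen V := hV
  have hU : IsAffineOpen (f ⁻¹ᵁ V) := hV'.preimage f
  have hx : x ∈ f ⁻¹ᵁ V := hsV
  have hy : y ∈ f ⁻¹ᵁ V := h.mem_open (f ⁻¹ᵁ V).isOpen hx
  have hint : (f.app V).hom.IsIntegral := IsIntegralHom.isIntegral_app f V hV'
  have hle : (hU.primeIdealOf ⟨y, hy⟩).asIdeal ≤ (hU.primeIdealOf ⟨x, hx⟩).asIdeal := by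
    intro a ha
    rw [mem_primeIdealOf_iff hU] at ha ⊢
    intro hxa
    exact ha (h.mem_open (X.basicOpen a).isOpen hxa)
  have hcomap : Ideal.comap (f.app V).hom (hU.primeIdealOf ⟨x, hx⟩).asIdeal =
      Ideal.comap (f.app V).hom (hU.primeIdealOf ⟨y, hy⟩).asIdeal := by
    ext a
    rw [Ideal.mem_comap, Ideal.mem_comap, mem_primeIdealOf_iff hU, mem_primeIdealOf_iff hU,
      ← Scheme.preimage_basicOpen]
    show f x ∉ S.basicOpen a ↔ f y ∉ S.basicOpen a
    rw [hf]
  have heq : (hU.primeIdealOf ⟨y, hy⟩).asIdeal = (hU.primeIdealOf ⟨x, hx⟩).asIdeal := by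
    by_contra hne
    have hlt : (hU.primeIdealOf ⟨y, hy⟩).asIdeal < (hU.primeIdealOf ⟨x, hx⟩).asIdeal :=
      lt_of_le_of_ne hle hne
    obtain ⟨-, b, hbx, hby⟩ := SetLike.lt_iff_le_and_exists.mp hlt
    letI := (f.app V).hom.toAlgebra
    have hlt' := Ideal.comap_lt_comap_of_integral_mem_sdiff (R := Γ(S, V)) hle ⟨hbx, hby⟩ (hint b)
    exact (ne_of_lt hlt') hcomap.symm
  have hp : hU.primeIdealOf ⟨y, hy⟩ = hU.primeIdealOf ⟨x, hx⟩ := PrimeSpectrum.ext heq
  have h1 := hU.fromSpec_primeIdealOf ⟨x, hx⟩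
  have h2 := hU.fromSpec_primeIdealOf ⟨y, hy⟩
  rw [hp] at h2
  exact h1.symm.trans h2

end Integral

end Groth.Agent.Lead.QCoh
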