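import Groth.Agent.Lead.QCoh3
import Mathlib.RingTheory.QuasiFinite.Basic
import Mathlib.AlgebraicGeometry.Morphisms.Finite

/-!
# Weakly associated points and finite pushforward

For a finite ring map `A → B`, a `B`-module `M` and a prime `q` of `B` minimal over the annihilator
of some element of `M`, the contraction `q ∩ A` is minimal over the `A`-annihilator of some
(other) element of `M`.  Consequence: finite morphisms map weakly associated points to weakly
associated points of the pushforward.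
-/

universe u

open CategoryTheory CategoryTheory.Limits AlgebraicGeometry Opposite TopologicalSpace

namespace Groth.Agent.Lead.QCoh

section Algebra

theorem exists_minimalPrimes_comap_ann_of_finite {A B : Type*} [CommRing A] [CommRing B]
    [Algebra A B] [Module.Finite A B] {M : Type*} [AddCommGroup M] [Module B M] (m : M)
    (q : Ideal B)
    (hq : q ∈ Ideal.minimalPrimes (LinearMap.ker (LinearMap.toSpanSingleton B M m))) :
    ∃ m' : M, q.comap (algebraMap A B) ∈ Ideal.minimalPrimes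
      (Ideal.comap (algebraMap A B) (LinearMap.ker (LinearMap.toSpanSingleton B M m'))) := by
  classical
  have hqp : q.IsPrime := hq.1.1
  have hI'q : LinearMap.ker (LinearMap.toSpanSingleton B M m) ≤ q := hq.1.2
  have hfin : ((q.comap (algebraMap A B)).primesOver B).Finite :=
    Algebra.QuasiFinite.finite_primesOver _
  -- choose `u ∈ q` avoiding all other primes over `p`
  have hu : ∃ u ∈ q, ∀ Q : Ideal B, Q.IsPrime →
      Q.comap (algebraMap A B) = q.comap (algebraMap A B) → Q ≠ q → u ∉ Q := by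
    by_contra hcon
    push Not at hcon
    have hsub : (q : Set B) ⊆ ⋃ Q ∈ ((hfin.toFinset.erase q : Finset (Ideal B)) : Set (Ideal B)),
        ((id Q : Ideal B) : Set B) := by
      intro u hu
      obtain ⟨Q, hQp, hQc, hQne, huQ⟩ := hcon u hu
      refine Set.mem_biUnion (x := Q) ?_ huQ
      rw [Finset.mem_coe, Finset.mem_erase, Set.Finite.mem_toFinset]
      exact ⟨hQne, hQp, ⟨hQc.symm⟩⟩
    obtain ⟨Q, hQ, hqQ⟩ := (Ideal.subset_union_prime (s := hfin.toFinset.erase q) (f := id) q q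
      (fun Q hQ _ _ => by
        rw [Finset.mem_erase, Set.Finite.mem_toFinset] at hQ
        exact hQ.2.1)).mp hsub
    rw [Finset.mem_erase, Set.Finite.mem_toFinset] at hQ
    obtain ⟨hQne, hQp, ⟨hQc⟩⟩ := hQ
    have hlt : q < Q := lt_of_le_of_ne hqQ (Ne.symm hQne)
    obtain ⟨-, b, hbQ, hbq⟩ := SetLike.lt_iff_le_and_exists.mp hlt
    have hlt' := Ideal.comap_lt_comap_of_integral_mem_sdiff (R := A) hqQ ⟨hbQ, hbq⟩
      (Algebra.IsIntegral.isIntegral b)
    exact (ne_of_lt hlt') hQc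
  obtain ⟨u, huq, hu'⟩ := hu
  obtain ⟨h, k, hhq, hhk⟩ := exists_mul_pow_mem_of_mem_minimalPrimes hq huq
  refine ⟨h • m, ?_⟩
  have hann : ∀ b : B, b ∈ LinearMap.ker (LinearMap.toSpanSingleton B M (h • m)) ↔
      b * h ∈ LinearMap.ker (LinearMap.toSpanSingleton B M m) := by
    intro b
    rw [LinearMap.mem_ker, LinearMap.mem_ker, LinearMap.toSpanSingleton_apply,
      LinearMap.toSpanSingleton_apply, mul_smul]
  have hpp : (q.comap (algebraMap A B)).IsPrime := Ideal.comap_isPrime _ _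
  have key : ∀ a ∈ q.comap (algebraMap A B), ∃ (w : A) (N : ℕ),
      w ∉ q.comap (algebraMap A B) ∧
      algebraMap A B (w * a ^ N) ∈ LinearMap.ker (LinearMap.toSpanSingleton B M (h • m)) := by
    intro a ha
    by_contra hcon
    push Not at hcon
    let K : Ideal B := Ideal.span {u ^ k} ⊔ LinearMap.ker (LinearMap.toSpanSingleton B M m)
    let W : Submonoid B :=
      (Algebra.algebraMapSubmonoid B (q.comap (algebraMap A B)).primeCompl) ⊔
        Submonoid.powers (algebraMap A B a)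
    have hdisj : Disjoint (K : Set B) (W : Set B) := by
      rw [Set.disjoint_left]
      intro z hzK hzW
      obtain ⟨w', ⟨w, hw, rfl⟩, c, ⟨N, rfl⟩, rfl⟩ := Submonoid.mem_sup.mp hzW
      apply hcon w N hw
      rw [hann, map_mul, map_pow]
      obtain ⟨y, hy, i, hi, hyi⟩ := Submodule.mem_sup.mp hzK
      obtain ⟨β, rfl⟩ := Ideal.mem_span_singleton'.mp hy
      rw [← hyi, add_mul]
      refine Ideal.add_mem _ ?_ (Ideal.mul_mem_right _ _ hi)
      have : β * u ^ k * h = β * (h * u ^ k) := by ring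
      rw [this]
      exact Ideal.mul_mem_left _ _ hhk
    obtain ⟨P, hP, hKP, hPW⟩ := Ideal.exists_le_prime_disjoint K W hdisj
    have hPc : P.comap (algebraMap A B) ≤ q.comap (algebraMap A B) := by
      intro w hw
      by_contra hwp
      exact Set.disjoint_left.mp hPW hw (Submonoid.mem_sup_left ⟨w, hwp, rfl⟩)
    obtain ⟨Q, hPQ, hQp, hQc⟩ := Ideal.exists_ideal_over_prime_of_isIntegral_of_isPrime
      (q.comap (algebraMap A B)) P hPc
    have huP : u ∈ P :=
      hP.mem_of_pow_mem k (hKP (Ideal.mem_sup_left (Ideal.subset_span rfl)))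
    have hQq : Q = q := by
      by_contra hne
      exact hu' Q hQp hQc hne (hPQ huP)
    have hPq : P ≤ q := hQq ▸ hPQ
    have hPeq : q ≤ P := hq.2 ⟨hP, le_sup_right.trans hKP⟩ hPq
    exact Set.disjoint_left.mp hPW (hPeq ha) (Submonoid.mem_sup_right ⟨1, pow_one _⟩)
  refine ⟨⟨hpp, ?_⟩, ?_⟩
  · intro a ha
    rw [Ideal.mem_comap, hann] at ha
    rw [Ideal.mem_comap]
    rcases hqp.mem_or_mem (hI'q ha) with h1 | h1
    · exact h1
    · exact absurd h1 hhq
  · rintro p' ⟨hp', hle'⟩ hp'p a ha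
    obtain ⟨w, N, hw, hwN⟩ := key a ha
    have h1 : w * a ^ N ∈ p' := hle' (Ideal.mem_comap.mpr hwN)
    rcases hp'.mem_or_mem h1 with h2 | h2
    · exact absurd (hp'p h2) hw
    · exact hp'.mem_of_pow_mem N h2

end Algebra

section Pushforward

variable {X S : Scheme.{u}} (f : X ⟶ S) [QuasiCompact f] (F : X.Modules) [F.IsQuasicoherent]

/-- If `V` is an affine open of `S` with affine preimage `f⁻¹V` finite over `V`, then the image of
a weakly associated point of `F` in `f⁻¹V` is weakly associated to `f_* F`. -/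
theorem isWeakAssPoint_pushforward_of_finite {V : S.Opens} (hV : IsAffineOpen V)
    (hU : IsAffineOpen (f ⁻¹ᵁ V)) (hfin : (f.app V).hom.Finite)
    (x : X) (hx : x ∈ f ⁻¹ᵁ V) (hw : Curv2.IsWeakAssPoint F x) :
    Curv2.IsWeakAssPoint ((Scheme.Modules.pushforward f).obj F) (f x) := by
  obtain ⟨t, ht⟩ := hw
  obtain ⟨b, m, hxb, hbt⟩ := exists_smul_eq_germ F hU x hx t
  have hbu : IsUnit (X.presheaf.germ (f ⁻¹ᵁ V) x hx b) :=
    (Scheme.mem_basicOpen _ _ x hx).mp hxb
  have hN : ∀ α : X.presheaf.stalk x, α ∈ LinearMap.ker (LinearMap.toSpanSingleton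
      (X.presheaf.stalk x) (F.presheaf.stalk x) t) ↔
      α • F.presheaf.germ (f ⁻¹ᵁ V) x hx m = 0 := by
    intro α
    rw [LinearMap.mem_ker, LinearMap.toSpanSingleton_apply, ← hbt, smul_comm]
    exact (hbu.smul_eq_zero).symm
  have hmin : (hU.primeIdealOf ⟨x, hx⟩).asIdeal ∈ Ideal.minimalPrimes
      (LinearMap.ker (LinearMap.toSpanSingleton Γ(X, f ⁻¹ᵁ V) Γ(F, f ⁻¹ᵁ V) m)) :=
    mem_minimalPrimes_of_radical_eq F hU x hx m
      (fun n' hn' => (germ_eq_zero_iff F hU x hx n').mp hn') _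
      (fun a => by rw [LinearMap.mem_ker, LinearMap.toSpanSingleton_apply]) _ hN ht
  letI : Algebra Γ(S, V) Γ(X, f ⁻¹ᵁ V) := (f.app V).hom.toAlgebra
  haveI : Module.Finite Γ(S, V) Γ(X, f ⁻¹ᵁ V) := hfin
  obtain ⟨m', hm'⟩ := exists_minimalPrimes_comap_ann_of_finite (A := Γ(S, V)) m _ hmin
  have hsV : f x ∈ V := hx
  obtain ⟨m'', hm''⟩ : ∃ m'' : Γ((Scheme.Modules.pushforward f).obj F, V), m'' = m' := ⟨m', rfl⟩
  let I : Ideal Γ(S, V) := Ideal.comap (f.app V).hom
    (LinearMap.ker (LinearMap.toSpanSingleton Γ(X, f ⁻¹ᵁ V) Γ(F, f ⁻¹ᵁ V) m'))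
  have hI : ∀ a, a ∈ I ↔ a • m'' = 0 := fun a => by
    rw [Ideal.mem_comap, LinearMap.mem_ker, LinearMap.toSpanSingleton_apply, hm'']
    rfl
  have hpeq : (hV.primeIdealOf ⟨f x, hsV⟩).asIdeal =
      Ideal.comap (f.app V).hom (hU.primeIdealOf ⟨x, hx⟩).asIdeal := by
    ext a
    rw [Ideal.mem_comap, mem_primeIdealOf_iff hV, mem_primeIdealOf_iff hU,
      ← Scheme.preimage_basicOpen]
    rfl
  refine ⟨((Scheme.Modules.pushforward f).obj F).presheaf.germ V (f x) hsV m'', ?_⟩
  refine radical_annihilator_germ_eq_maximalIdeal' ((Scheme.Modules.pushforward f).obj F) hV m''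
    I hI (f x) hsV ?_ ?_ _
    (fun α => by rw [LinearMap.mem_ker, LinearMap.toSpanSingleton_apply])
  · intro h0
    obtain ⟨g, hsg, hg⟩ := push_germ_eq_zero f F hV (f x) hsV m'' h0
    exact ⟨g, hsg, hg⟩
  · rw [hpeq]
    exact hm'

omit [QuasiCompact f] in
theorem isWeakAssPoint_pushforward_of_isFinite [IsFinite f]
    (x : X) (hw : Curv2.IsWeakAssPoint F x) :
    Curv2.IsWeakAssPoint ((Scheme.Modules.pushforward f).obj F) (f x) := by
  obtain ⟨_, ⟨V, hV, rfl⟩, hsV, -⟩ :=
    S.isBasis_affineOpens.exists_subset_of_mem_open (Set.mem_univ (f x)) isOpen_univ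
  have hV' : IsAffineOpen V := hV
  have hU : IsAffineOpen (f ⁻¹ᵁ V) := hV'.preimage f
  exact isWeakAssPoint_pushforward_of_finite f F hV' hU (IsFinite.finite_app f V hV') x hsV hw

end Pushforward

end Groth.Agent.Lead.QCoh
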