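import Groth.Agent.Lead.QCoh4

/-!
# Pushforward of a quasi-coherent module along a qcqs morphism to an affine scheme is `tilde`
-/

universe u

open CategoryTheory CategoryTheory.Limits AlgebraicGeometry Opposite TopologicalSpace

namespace Groth.Agent.Lead.QCoh

variable {X : Scheme.{u}}

theorem exists_section_of_eq_basicOpen (F : X.Modules) [F.IsQuasicoherent]
    [QuasiSeparatedSpace X] (W : X.Opens) (hW : IsCompact (X := X) W) (ρ : Γ(X, W))
    (U' : X.Opens) (h : U' = X.basicOpen ρ) (hle : U' ≤ W) (y : Γ(F, U')) :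
    ∃ (k : ℕ) (σ : Γ(F, W)), F.presheaf.map (homOfLE hle).op σ =
      (X.presheaf.map (homOfLE hle).op ρ) ^ k • y := by
  subst h
  exact exists_section_of_basicOpen_of_qcqs F W hW ρ y

theorem exists_pow_smul_eq_zero_of_eq_basicOpen (F : X.Modules) [F.IsQuasicoherent]
    (W : X.Opens) (hW : IsCompact (X := X) W) (ρ : Γ(X, W))
    (U' : X.Opens) (h : U' = X.basicOpen ρ) (hle : U' ≤ W) (n : Γ(F, W))
    (h0 : F.presheaf.map (homOfLE hle).op n = 0) : ∃ k : ℕ, ρ ^ k • n = 0 := by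
  subst h
  exact exists_pow_smul_eq_zero_of_isCompact F W hW ρ n h0

/-- the action of `Γ(X, U)` on `Γ(F, U)` as a plain function (to control elaboration). -/
noncomputable def act (F : X.Modules) (U : X.Opens) (a : Γ(X, U)) (n : Γ(F, U)) : Γ(F, U) := a • n

section
variable {R : CommRingCat.{u}} (f : X ⟶ Spec R) (F : X.Modules) (r : R)
  (D : (Spec R).Opens) (hD : D = PrimeSpectrum.basicOpen r)

theorem push_hle : f ⁻¹ᵁ D ≤ f ⁻¹ᵁ (⊤ : (Spec R).Opens) := fun x _ => trivial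

include hD in
theorem push_hU' : f ⁻¹ᵁ D = X.basicOpen (f.app ⊤ ((Scheme.ΓSpecIso R).inv r)) := by
  subst hD
  rw [← Scheme.preimage_basicOpen, basicOpen_eq_of_affine]

theorem push_hnat : f.app D ((Spec R).presheaf.map D.leTop.op ((Scheme.ΓSpecIso R).inv r)) =
    X.presheaf.map (homOfLE (push_hle f D)).op (f.app ⊤ ((Scheme.ΓSpecIso R).inv r)) :=
  ConcreteCategory.congr_hom (f.naturality D.leTop.op) ((Scheme.ΓSpecIso R).inv r)

theorem push_hsmulD (k : ℕ) (y : Γ((Scheme.Modules.pushforward f).obj F, D)) : (r ^ k) • y =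
    act F (f ⁻¹ᵁ D) ((X.presheaf.map (homOfLE (push_hle f D)).op
      (f.app ⊤ ((Scheme.ΓSpecIso R).inv r))) ^ k) y := by
  rw [Scheme.Modules.smul_Spec_def, ← push_hnat, map_pow, map_pow]
  change act F (f ⁻¹ᵁ D) (f.app D (((Spec R).presheaf.map D.leTop.op
    ((Scheme.ΓSpecIso R).inv r)) ^ k)) y = _
  rw [map_pow]

theorem push_hsmulT (k : ℕ) (y : Γ((Scheme.Modules.pushforward f).obj F, ⊤)) :
    (r ^ k) • y = act F (f ⁻¹ᵁ (⊤ : (Spec R).Opens)) ((f.app ⊤ ((Scheme.ΓSpecIso R).inv r)) ^ k) y := by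
  rw [Scheme.Modules.smul_Spec_def]
  have : (Spec R).presheaf.map (⊤ : (Spec R).Opens).leTop.op
      ((Scheme.ΓSpecIso R).inv (r ^ k)) = (Scheme.ΓSpecIso R).inv (r ^ k) := by
    have : (⊤ : (Spec R).Opens).leTop.op = 𝟙 _ := rfl
    rw [this, CategoryTheory.Functor.map_id]; rfl
  rw [this, map_pow]
  change act F (f ⁻¹ᵁ (⊤ : (Spec R).Opens)) (f.app ⊤ (((Scheme.ΓSpecIso R).inv r) ^ k)) y = _
  rw [map_pow]

theorem push_hmap (s : Γ((Scheme.Modules.pushforward f).obj F, ⊤)) :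
    ((modulesSpecToSheaf.obj ((Scheme.Modules.pushforward f).obj F)).obj.map D.leTop.op).hom s =
    F.presheaf.map (homOfLE (push_hle f D)).op s := rfl

theorem act_eq_of_smul_sub {U : X.Opens} (a : Γ(X, U)) (x y : Γ(F, U)) (h : a • (x - y) = 0) :
    act F U a x = act F U a y := by
  unfold act
  rw [smul_sub, sub_eq_zero] at h
  exact h

theorem map_sub_eq_zero {U V : X.Opens} (i : U ⟶ V) (x y : Γ(F, V))
    (h : F.presheaf.map i.op x = F.presheaf.map i.op y) : F.presheaf.map i.op (x - y) = 0 := by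
  rw [(F.presheaf.map i.op).hom.map_sub, sub_eq_zero]
  exact h

end

theorem isLocalizing_pushforward {R : CommRingCat.{u}} (f : X ⟶ Spec R) [CompactSpace X]
    [QuasiSeparatedSpace X] (F : X.Modules) [F.IsQuasicoherent] :
    IsLocalizing (modulesSpecToSheaf.obj ((Scheme.Modules.pushforward f).obj F)) := by
  intro r
  have hW : IsCompact (X := X) (f ⁻¹ᵁ (⊤ : (Spec R).Opens)) := by
    have : ((f ⁻¹ᵁ (⊤ : (Spec R).Opens) : X.Opens) : Set X) = Set.univ := rfl
    rw [this]; exact isCompact_univ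
  refine ⟨?_, ?_, ?_⟩
  · rintro ⟨_, k, rfl⟩
    have h1 := Scheme.Modules.isUnit_algebraMap_end_of_le_basicOpen
      (M := (Scheme.Modules.pushforward f).obj F) (U := PrimeSpectrum.basicOpen r) r le_rfl
    change IsUnit (algebraMap R (Module.End R _) (r ^ k))
    rw [map_pow]
    exact h1.pow k
  · intro y
    obtain ⟨y', rfl⟩ : ∃ y' : Γ(F, f ⁻¹ᵁ (PrimeSpectrum.basicOpen r : (Spec R).Opens)), y' = y :=
      ⟨y, rfl⟩
    obtain ⟨k, σ, hσ⟩ := exists_section_of_eq_basicOpen F _ hW _ _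
      (push_hU' f r _ rfl) (push_hle f _) y'
    refine ⟨(σ, ⟨r ^ k, k, rfl⟩), ?_⟩
    refine (push_hsmulD f F r _ k y').trans ?_
    refine Eq.trans ?_ (push_hmap f F _ σ).symm
    exact hσ.symm
  · intro x₁ x₂ h
    obtain ⟨y₁, rfl⟩ : ∃ y₁ : Γ(F, f ⁻¹ᵁ (⊤ : (Spec R).Opens)), y₁ = x₁ := ⟨x₁, rfl⟩
    obtain ⟨y₂, rfl⟩ : ∃ y₂ : Γ(F, f ⁻¹ᵁ (⊤ : (Spec R).Opens)), y₂ = x₂ := ⟨x₂, rfl⟩
    have h' : F.presheaf.map (homOfLE (push_hle f (PrimeSpectrum.basicOpen r))).op y₁ =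
        F.presheaf.map (homOfLE (push_hle f (PrimeSpectrum.basicOpen r))).op y₂ :=
      ((push_hmap f F _ y₁).symm.trans h).trans (push_hmap f F _ y₂)
    have h0 := map_sub_eq_zero F _ y₁ y₂ h'
    obtain ⟨k, hk⟩ := exists_pow_smul_eq_zero_of_eq_basicOpen F _ hW _ _ (push_hU' f r _ rfl)
      (push_hle f _) (y₁ - y₂) h0
    refine ⟨⟨r ^ k, k, rfl⟩, ?_⟩
    refine (push_hsmulT f F r k y₁).trans (Eq.trans ?_ (push_hsmulT f F r k y₂).symm)
    exact act_eq_of_smul_sub F _ y₁ y₂ hk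

theorem isIso_fromTildeΓ_pushforward_of_qcqs {R : CommRingCat.{u}} (f : X ⟶ Spec R) [CompactSpace X]
    [QuasiSeparatedSpace X] (F : X.Modules) [F.IsQuasicoherent] :
    IsIso ((Scheme.Modules.pushforward f).obj F).fromTildeΓ :=
  (isIso_fromTildeΓ_iff_isLocalizing _).mpr (isLocalizing_pushforward f F)

/-- Pushforward of a quasi-coherent module along a morphism from a qcqs scheme to an affine
scheme `Spec R` is quasi-coherent. -/
theorem isQuasicoherent_pushforward_to_affine {R : CommRingCat.{u}} (f : X ⟶ Spec R)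
    [CompactSpace X] [QuasiSeparatedSpace X] (F : X.Modules) [F.IsQuasicoherent] :
    ((Scheme.Modules.pushforward f).obj F).IsQuasicoherent :=
  (isQuasicoherent_iff_isIso_fromTildeΓ _).mpr (isIso_fromTildeΓ_pushforward_of_qcqs f F)

end Groth.Agent.Lead.QCoh
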