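import Groth.Agent.Lead.QCoh7

/-!
# Pushforward of quasi-coherent modules along qcqs morphisms is quasi-coherent
-/

universe u

open CategoryTheory CategoryTheory.Limits AlgebraicGeometry Opposite TopologicalSpace

namespace Groth.Agent.Lead.QCoh

variable {X Y : Scheme.{u}}

set_option backward.isDefEq.respectTransparency false in
/-- Restriction to an open commutes with pushforward. -/
noncomputable def restrictPushforwardIso (f : X ⟶ Y) (V : Y.Opens) :
    Scheme.Modules.pushforward f ⋙ Scheme.Modules.restrictFunctor V.ι ≅
      Scheme.Modules.restrictFunctor (f ⁻¹ᵁ V).ι ⋙ Scheme.Modules.pushforward (f ∣_ V) := by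
  letI := CategoryTheory.Functor.isContinuous_comp.{u} V.ι.opensFunctor (Opens.map f.base)
    (Opens.grothendieckTopology V) (Opens.grothendieckTopology Y) (Opens.grothendieckTopology X)
  letI := CategoryTheory.Functor.isContinuous_comp.{u} (Opens.map (f ∣_ V).base)
    (f ⁻¹ᵁ V).ι.opensFunctor
    (Opens.grothendieckTopology V) (Opens.grothendieckTopology (f ⁻¹ᵁ V : X.Opens))
    (Opens.grothendieckTopology X)
  refine (SheafOfModules.pushforwardComp _ _) ≪≫ ?_ ≪≫ (SheafOfModules.pushforwardComp _ _).symm
  refine SheafOfModules.pushforwardCongr₂ _ ?_ ?_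
  · refine NatIso.ofComponents (fun W => eqToIso ?_) ?_
    · exact image_morphismRestrict_preimage f V W
    · intros; rfl
  · ext W x
    have h : (V.ι.appIso W.unop).inv ≫ f.app _ ≫
        X.presheaf.map (eqToHom (image_morphismRestrict_preimage f V W.unop)).op =
        (f ∣_ V).app W.unop ≫ ((f ⁻¹ᵁ V).ι.appIso _).inv := by
      rw [morphismRestrict_app]
      simp only [Scheme.Opens.ι_appIso, Iso.refl_inv]
      erw [Category.id_comp]
    exact congr($h x)

set_option backward.isDefEq.respectTransparency false in
/-- Quasi-coherence can be checked on an open cover with presentations. -/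
theorem isQuasicoherent_of_isOpenCover_presentation (M : Y.Modules) {ι : Type u}
    (U : ι → Y.Opens) (hU : IsOpenCover U) (pres : ∀ i, (M.restrict (U i).ι).Presentation) :
    M.IsQuasicoherent := by
  have hcov : (Opens.grothendieckTopology Y).CoversTop U := by
    rw [Opens.coversTop_iff]; exact hU
  suffices q : SheafOfModules.QuasicoherentData.{u, u, u, u} (R := Y.ringCatSheaf) M from
    q.isQuasicoherent
  refine { I := ι, X := U, coversTop := hcov, presentation := fun i => ?_ }
  · let e := Scheme.Modules.overEquiv (U i)
    have : PreservesColimitsOfSize.{u, u} e.inverse := inferInstance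
    let P0 := SheafOfModules.Presentation.ofIsIso.{u, u, u}
      ((Scheme.Modules.overFunctorEquiv (U i)).app M).inv (pres i)
    let P1 := P0.map e.inverse ((U i).sheafOfModulesEquivOverInverseUnit Y.ringCatSheaf).symm
    exact SheafOfModules.Presentation.ofIsIso.{u, u, u} (e.unitIso.app (M.over (U i))).inv P1

/-- restriction along an isomorphism and back. -/
noncomputable def restrictIsoInvHom {Z W : Scheme.{u}} (e : Z ≅ W) :
    Scheme.Modules.restrictFunctor e.inv ⋙ Scheme.Modules.restrictFunctor e.hom ≅ 𝟭 _ :=
  (Scheme.Modules.restrictFunctorComp e.hom e.inv).symm ≪≫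
    Scheme.Modules.restrictFunctorCongr e.hom_inv_id ≪≫ Scheme.Modules.restrictFunctorId

set_option backward.isDefEq.respectTransparency false in
/-- A quasi-coherent module on an affine scheme has a global presentation. -/
theorem nonempty_presentation_of_isAffine (Z : Scheme.{u}) [IsAffine Z] (N : Z.Modules)
    [N.IsQuasicoherent] : Nonempty N.Presentation := by
  let e := Z.isoSpec
  let N' : (Spec Γ(Z, ⊤)).Modules := (Scheme.Modules.restrictFunctor e.inv).obj N
  have : N'.IsQuasicoherent := inferInstance
  have : IsIso (Scheme.Modules.fromTildeΓ (R := Γ(Z, ⊤)) N') := inferInstance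
  let P0 : (tilde ((modulesSpecToSheaf.obj N').presheaf.obj (op ⊤))).Presentation :=
    presentationTilde.{u} _ .univ (by simp) _ (Submodule.span_eq _)
  let eN : tilde ((modulesSpecToSheaf.obj N').presheaf.obj (op ⊤)) ≅ N' :=
    asIso (Scheme.Modules.fromTildeΓ (R := Γ(Z, ⊤)) N')
  let P1 : N'.Presentation := SheafOfModules.Presentation.ofIsIso.{u, u, u} eN.hom P0
  let P2 : ((Scheme.Modules.restrictFunctor e.hom).obj N').Presentation :=
    Scheme.Modules.presentationRestrict e.hom P1
  let i3 : (Scheme.Modules.restrictFunctor e.hom).obj N' ≅ N := (restrictIsoInvHom e).app N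
  exact ⟨SheafOfModules.Presentation.ofIsIso.{u, u, u} i3.hom P2⟩

/-- Pushforward of a quasi-coherent module from a qcqs scheme to an affine scheme is
quasi-coherent. -/
theorem isQuasicoherent_pushforward_of_isAffine {Z : Scheme.{u}} [IsAffine Z] (f : X ⟶ Z)
    [CompactSpace X] [QuasiSeparatedSpace X] (F : X.Modules) [F.IsQuasicoherent] :
    ((Scheme.Modules.pushforward f).obj F).IsQuasicoherent := by
  let e := Z.isoSpec
  have h1 : ((Scheme.Modules.pushforward (f ≫ e.hom)).obj F).IsQuasicoherent :=
    isQuasicoherent_pushforward_to_affine (f ≫ e.hom) F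
  have i1 : (Scheme.Modules.pushforward (f ≫ e.hom)).obj F ≅
      (Scheme.Modules.pushforward e.hom).obj ((Scheme.Modules.pushforward f).obj F) :=
    ((Scheme.Modules.pushforwardComp f e.hom).app F).symm
  have h2 : ((Scheme.Modules.pushforward e.hom).obj
      ((Scheme.Modules.pushforward f).obj F)).IsQuasicoherent :=
    (SheafOfModules.isQuasicoherent.{u} _).prop_of_iso i1 h1
  have i2 := (Scheme.Modules.restrictFunctorAdjCounitIso e.hom).app
    ((Scheme.Modules.pushforward f).obj F)
  have h3 : ((Scheme.Modules.restrictFunctor e.hom).obj ((Scheme.Modules.pushforward e.hom).obj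
      ((Scheme.Modules.pushforward f).obj F))).IsQuasicoherent := inferInstance
  exact (SheafOfModules.isQuasicoherent.{u} _).prop_of_iso i2 h3

/-- Pushforward of a quasi-coherent module along a quasi-compact quasi-separated morphism is
quasi-coherent. -/
theorem isQuasicoherent_pushforward (f : X ⟶ Y) [QuasiCompact f] [QuasiSeparated f]
    (F : X.Modules) [F.IsQuasicoherent] :
    ((Scheme.Modules.pushforward f).obj F).IsQuasicoherent := by
  have key : ∀ V : Y.affineOpens, Nonempty
      (((Scheme.Modules.pushforward f).obj F).restrict (V : Y.Opens).ι).Presentation := by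
    intro V
    have : IsAffine ((V : Y.Opens) : Scheme.{u}) := V.2
    have : CompactSpace ((f ⁻¹ᵁ (V : Y.Opens) : X.Opens) : Scheme.{u}) :=
      isCompact_iff_compactSpace.mp (QuasiCompact.isCompact_preimage (f := f) _
        (V : Y.Opens).2 V.2.isCompact)
    have : QuasiSeparatedSpace ((f ⁻¹ᵁ (V : Y.Opens) : X.Opens) : Scheme.{u}) :=
      quasiSeparatedSpace_of_quasiSeparated (f ∣_ (V : Y.Opens))
    have h1 : ((Scheme.Modules.pushforward (f ∣_ (V : Y.Opens))).obj
        ((Scheme.Modules.restrictFunctor (f ⁻¹ᵁ (V : Y.Opens)).ι).obj F)).IsQuasicoherent :=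
      isQuasicoherent_pushforward_of_isAffine _ _
    have i1 := (restrictPushforwardIso f (V : Y.Opens)).app F
    have h2 : (((Scheme.Modules.pushforward f).obj F).restrict
        (V : Y.Opens).ι).IsQuasicoherent :=
      (SheafOfModules.isQuasicoherent.{u} _).prop_of_iso i1.symm h1
    exact nonempty_presentation_of_isAffine _ _
  exact isQuasicoherent_of_isOpenCover_presentation _ (fun V : Y.affineOpens => (V : Y.Opens))
    (iSup_affineOpens_eq_top Y) (fun V => (key V).some)

end Groth.Agent.Lead.QCoh
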