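import Groth.Agent.Lead.FinType3
import Groth.Agent.S9514

/-!
# Exactness on stalks, and coherence of the structure sheaf
-/

universe u

open CategoryTheory CategoryTheory.Limits AlgebraicGeometry Opposite TopologicalSpace
open Groth.Agent.Lead.QCoh Groth.Agent.Lead.EpiStalk Groth.Agent.Lead.FinType

namespace Groth.Agent.Lead.StalkExact

variable {X : Scheme.{u}}

theorem stalkMap_comp {F G H : X.Modules} (f : F ⟶ G) (g : G ⟶ H) (x : X)
    (t : F.presheaf.stalk x) :
    stalkMap (f ≫ g) x t = stalkMap g x (stalkMap f x t) := by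
  obtain ⟨V, hxV, t', rfl⟩ := TopCat.Presheaf.exists_germ_eq F.presheaf t
  rw [stalkMap_germ, stalkMap_germ, stalkMap_germ]
  rfl

theorem stalkMap_zero {F G : X.Modules} (x : X) (t : F.presheaf.stalk x) :
    stalkMap (0 : F ⟶ G) x t = 0 := by
  obtain ⟨V, hxV, t', rfl⟩ := TopCat.Presheaf.exists_germ_eq F.presheaf t
  rw [stalkMap_germ]
  exact map_zero _

theorem app_exact' (S : ShortComplex X.Modules) (hS : S.Exact) [Mono S.f] (U : X.Opens)
    (t : Γ(S.X₂, U)) (ht : S.g.app U t = 0) : ∃ s : Γ(S.X₁, U), S.f.app U s = t := by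
  have h := hS.map_of_mono_of_preservesKernel (sectionsFunctor X U) ‹Mono S.f› inferInstance
  rw [ShortComplex.ab_exact_iff] at h
  exact h t ht

theorem stalk_exact' (S : ShortComplex X.Modules) (hS : S.Exact) [Mono S.f] (x : X)
    (t : S.X₂.presheaf.stalk x) (ht : stalkMap S.g x t = 0) :
    ∃ s, stalkMap S.f x s = t := by
  obtain ⟨V, hxV, t', rfl⟩ := TopCat.Presheaf.exists_germ_eq S.X₂.presheaf t
  rw [stalkMap_germ] at ht
  have h0 : S.X₃.presheaf.germ V x hxV (S.g.app V t') = S.X₃.presheaf.germ V x hxV 0 := by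
    rw [ht, map_zero]
  obtain ⟨W, hxW, i1, i2, e⟩ := TopCat.Presheaf.germ_eq S.X₃.presheaf x hxV hxV _ _ h0
  have e' : S.g.app W (S.X₂.presheaf.map i1.op t') = 0 := by
    rw [app_naturality, e, map_zero]
  obtain ⟨s, hs⟩ := app_exact' S hS W _ e'
  refine ⟨S.X₁.presheaf.germ W x hxW s, ?_⟩
  rw [stalkMap_germ, hs]
  exact TopCat.Presheaf.germ_res_apply S.X₂.presheaf i1 x hxW t'

/-- An exact sequence of `𝒪_X`-modules is exact on stalks. -/
theorem stalk_exact_of_exact (S : ShortComplex X.Modules) (hS : S.Exact) (x : X)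
    (t : S.X₂.presheaf.stalk x) (ht : stalkMap S.g x t = 0) :
    ∃ s, stalkMap S.f x s = t := by
  let S' : ShortComplex X.Modules := ShortComplex.mk (kernel.ι S.g) S.g (kernel.condition S.g)
  have hS' : S'.Exact := ShortComplex.exact_of_f_is_kernel S' (kernelIsKernel S.g)
  haveI : Mono S'.f := inferInstanceAs (Mono (kernel.ι S.g))
  obtain ⟨k, hk⟩ := stalk_exact' S' hS' x t ht
  haveI : Epi (kernel.lift S.g S.f S.zero) := S.exact_iff_epi_kernel_lift.mp hS
  obtain ⟨s, hs⟩ := stalkMap_surjective_of_epi (kernel.lift S.g S.f S.zero) x k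
  refine ⟨s, ?_⟩
  have e : stalkMap S.f x s = stalkMap (kernel.lift S.g S.f S.zero ≫ kernel.ι S.g) x s := by
    rw [kernel.lift_ι]
  rw [e, stalkMap_comp, hs]
  exact hk

/-- A morphism is bijective on the stalk at `x` iff its kernel and cokernel have zero stalk at
`x`. -/
theorem bijective_stalkMap_iff {A B : X.Modules} (φ : A ⟶ B) (x : X) :
    Function.Bijective (stalkMap φ x) ↔
      Subsingleton ((kernel φ).presheaf.stalk x) ∧ Subsingleton ((cokernel φ).presheaf.stalk x) := by
  constructor
  · rintro ⟨hinj, hsurj⟩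
    constructor
    · refine ⟨fun k k' => ?_⟩
      apply stalkMap_injective_of_mono (kernel.ι φ) x
      apply hinj
      rw [← stalkMap_comp, ← stalkMap_comp, kernel.condition, stalkMap_zero, stalkMap_zero]
    · have hz : ∀ c : (cokernel φ).presheaf.stalk x, c = 0 := by
        intro c
        obtain ⟨t, rfl⟩ := stalkMap_surjective_of_epi (cokernel.π φ) x c
        obtain ⟨a, rfl⟩ := hsurj t
        rw [← stalkMap_comp, cokernel.condition, stalkMap_zero]
      exact ⟨fun c c' => by rw [hz c, hz c']⟩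
  · rintro ⟨hK, hC⟩
    constructor
    · rw [injective_iff_map_eq_zero]
      intro a ha
      let S : ShortComplex X.Modules := ShortComplex.mk (kernel.ι φ) φ (kernel.condition φ)
      have hS : S.Exact := ShortComplex.exact_of_f_is_kernel S (kernelIsKernel φ)
      obtain ⟨k, hk⟩ := stalk_exact_of_exact S hS x a ha
      rw [← hk, Subsingleton.elim k 0, map_zero]
    · intro t
      let S : ShortComplex X.Modules := ShortComplex.mk φ (cokernel.π φ) (cokernel.condition φ)
      have hS : S.Exact := ShortComplex.exact_of_g_is_cokernel S (cokernelIsCokernel φ)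
      exact stalk_exact_of_exact S hS x t (Subsingleton.elim _ _)

end Groth.Agent.Lead.StalkExact
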