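import Groth.Agent.Lead.FPSec

/-!
# Stalks of quasi-coherent modules as localizations; free stalks and local freeness (lead)
-/

set_option autoImplicit false
universe u
open CategoryTheory CategoryTheory.Limits AlgebraicGeometry Opposite TopologicalSpace
open Groth.Agent.Lead.QCoh Groth.Agent.Lead.FinType Groth.Agent.Lead.FinPres
open Groth.Agent.Lead.AffSurj Groth.Agent.Lead.FreeEpi Groth.Agent.Lead.Extend
open Groth.Agent.Lead.FreeIso Groth.Agent.Lead.LocFree Groth.Agent.Lead.FPSec

namespace Groth.Agent.Lead.StalkLoc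

/-- transport of freeness along an isomorphism of rings acting compatibly. -/
theorem free_transport {R R' : Type u} [CommRing R] [CommRing R'] (e : R ≃+* R') {M : Type u}
    [AddCommGroup M] [Module R M] [Module R' M] (h : ∀ (r : R) (m : M), e r • m = r • m)
    [Module.Free R' M] : Module.Free R M := by
  classical
  let b := Module.Free.chooseBasis R' M
  have hli : LinearIndependent R (fun i => b i) := by
    rw [linearIndependent_iff']
    intro s g hg i hi
    have h1 : ∑ j ∈ s, e (g j) • b j = 0 := by
      rw [← hg]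
      exact Finset.sum_congr rfl (fun j _ => h _ _)
    have h2 := linearIndependent_iff'.mp b.linearIndependent s (fun j => e (g j)) h1 i hi
    exact (map_eq_zero_iff e e.injective).mp h2
  have hsp : ⊤ ≤ Submodule.span R (Set.range fun i => b i) := by
    intro m _
    have hm : m ∈ Submodule.span R' (Set.range b) := b.mem_span m
    have key : ∀ y, y ∈ Submodule.span R' (Set.range b) →
        y ∈ Submodule.span R (Set.range fun i => b i) := by
      intro y hy
      induction hy using Submodule.span_induction with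
      | mem y hy => exact Submodule.subset_span hy
      | zero => exact Submodule.zero_mem _
      | add y z _ _ hy hz => exact Submodule.add_mem _ hy hz
      | smul c y _ hy =>
        have : c • y = e.symm c • y := by rw [← h, e.apply_symm_apply]
        rw [this]
        exact Submodule.smul_mem _ _ hy
    exact key m hm
  exact Module.Free.of_basis (Module.Basis.mk hli hsp)

variable {X : Scheme.{u}}

set_option backward.isDefEq.respectTransparency false in
/-- The stalk of a quasi-coherent module at a point of an affine open is the localization of the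
module of sections at the corresponding prime. -/
theorem isLocalizedModule_germ (M : X.Modules) [M.IsQuasicoherent] {U : X.Opens}
    (hU : IsAffineOpen U) (x : X) (hx : x ∈ U) :
    letI : Module Γ(X, U) (M.presheaf.stalk x) :=
      Module.compHom _ (X.presheaf.germ U x hx).hom
    ∃ germL : Γ(M, U) →ₗ[Γ(X, U)] (M.presheaf.stalk x),
      (∀ m, germL m = M.presheaf.germ U x hx m) ∧
      IsLocalizedModule (hU.primeIdealOf ⟨x, hx⟩).asIdeal.primeCompl germL := by
  letI : Module Γ(X, U) (M.presheaf.stalk x) :=
    Module.compHom _ (X.presheaf.germ U x hx).hom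
  have hmemD : ∀ a : Γ(X, U), a ∈ (hU.primeIdealOf ⟨x, hx⟩).asIdeal.primeCompl →
      x ∈ X.basicOpen a := by
    intro a ha
    by_contra hnot
    exact ha ((mem_primeIdealOf_iff hU x hx a).mpr hnot)
  have hDmem : ∀ a : Γ(X, U), x ∈ X.basicOpen a →
      a ∈ (hU.primeIdealOf ⟨x, hx⟩).asIdeal.primeCompl := by
    intro a ha hmem
    exact ((mem_primeIdealOf_iff hU x hx a).mp hmem) ha
  let germL : Γ(M, U) →ₗ[Γ(X, U)] (M.presheaf.stalk x) :=
    { toFun := fun m => M.presheaf.germ U x hx m
      map_add' := fun a b => map_add _ a b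
      map_smul' := fun a m => germ_smul M U x hx a m }
  refine ⟨germL, fun m => rfl, ?_⟩
  refine { map_units := ?_, surj := ?_, exists_of_eq := ?_ }
  · rintro ⟨s, hs⟩
    have hu : IsUnit (X.presheaf.germ U x hx s) :=
      (Scheme.mem_basicOpen X s x hx).mp (hmemD s hs)
    rw [Module.End.isUnit_iff]
    obtain ⟨v, hv⟩ := hu
    constructor
    · intro a b hab
      have hab' : (v : X.presheaf.stalk x) • a = (v : X.presheaf.stalk x) • b := by
        rw [hv]; exact hab
      calc a = (↑v⁻¹ : X.presheaf.stalk x) • ((v : X.presheaf.stalk x) • a) := by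
            rw [smul_smul, Units.inv_mul, one_smul]
        _ = (↑v⁻¹ : X.presheaf.stalk x) • ((v : X.presheaf.stalk x) • b) := by rw [hab']
        _ = b := by rw [smul_smul, Units.inv_mul, one_smul]
    · intro b
      refine ⟨(↑v⁻¹ : X.presheaf.stalk x) • b, ?_⟩
      show (X.presheaf.germ U x hx s) • ((↑v⁻¹ : X.presheaf.stalk x) • b) = b
      rw [← hv, smul_smul, Units.mul_inv, one_smul]
  · intro n
    obtain ⟨a, m, hxa, ham⟩ := exists_smul_eq_germ M hU x hx n
    exact ⟨(m, ⟨a, hDmem a hxa⟩), ham⟩
  · intro m₁ m₂ h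
    have h0 : M.presheaf.germ U x hx (m₁ - m₂) = 0 := by
      rw [map_sub, sub_eq_zero]; exact h
    obtain ⟨a, hxa, ha⟩ := (germ_eq_zero_iff M hU x hx (m₁ - m₂)).mp h0
    refine ⟨⟨a, hDmem a hxa⟩, ?_⟩
    show a • m₁ = a • m₂
    rw [smul_sub, sub_eq_zero] at ha
    exact ha

set_option backward.isDefEq.respectTransparency false in
/-- free sections over an affine open give free stalks. -/
theorem free_stalk_of_free_sections (M : X.Modules) [M.IsQuasicoherent] {U : X.Opens}
    (hU : IsAffineOpen U) (x : X) (hx : x ∈ U) [Module.Free Γ(X, U) Γ(M, U)] :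
    Module.Free (X.presheaf.stalk x) (M.presheaf.stalk x) := by
  letI : Algebra Γ(X, U) (X.presheaf.stalk x) := X.presheaf.algebra_section_stalk ⟨x, hx⟩
  haveI : IsLocalization.AtPrime (X.presheaf.stalk x) (hU.primeIdealOf ⟨x, hx⟩).asIdeal :=
    hU.isLocalization_stalk ⟨x, hx⟩
  letI : Module Γ(X, U) (M.presheaf.stalk x) := Module.compHom _ (X.presheaf.germ U x hx).hom
  haveI : IsScalarTower Γ(X, U) (X.presheaf.stalk x) (M.presheaf.stalk x) :=
    IsScalarTower.of_algebraMap_smul (fun r m => rfl)
  obtain ⟨germL, -, hloc⟩ := isLocalizedModule_germ M hU x hx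
  haveI := hloc
  exact Module.free_of_isLocalizedModule (hU.primeIdealOf ⟨x, hx⟩).asIdeal.primeCompl germL

set_option backward.isDefEq.respectTransparency false in
/-- free stalks give free localized modules of sections. -/
theorem free_localized_of_free_stalk (M : X.Modules) [M.IsQuasicoherent] {U : X.Opens}
    (hU : IsAffineOpen U) (x : X) (hx : x ∈ U)
    [Module.Free (X.presheaf.stalk x) (M.presheaf.stalk x)] :
    Module.Free (Localization (hU.primeIdealOf ⟨x, hx⟩).asIdeal.primeCompl)
      (LocalizedModule (hU.primeIdealOf ⟨x, hx⟩).asIdeal.primeCompl Γ(M, U)) := by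
  classical
  haveI := (hU.primeIdealOf ⟨x, hx⟩).2
  letI : Algebra Γ(X, U) (X.presheaf.stalk x) := X.presheaf.algebra_section_stalk ⟨x, hx⟩
  haveI : IsLocalization.AtPrime (X.presheaf.stalk x) (hU.primeIdealOf ⟨x, hx⟩).asIdeal :=
    hU.isLocalization_stalk ⟨x, hx⟩
  letI : Module Γ(X, U) (M.presheaf.stalk x) := Module.compHom _ (X.presheaf.germ U x hx).hom
  haveI : IsScalarTower Γ(X, U) (X.presheaf.stalk x) (M.presheaf.stalk x) :=
    IsScalarTower.of_algebraMap_smul (fun r m => rfl)
  obtain ⟨germL, -, hloc⟩ := isLocalizedModule_germ M hU x hx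
  haveI := hloc
  let e₁ : Localization (hU.primeIdealOf ⟨x, hx⟩).asIdeal.primeCompl ≃ₐ[Γ(X, U)]
      (X.presheaf.stalk x) :=
    IsLocalization.algEquiv (hU.primeIdealOf ⟨x, hx⟩).asIdeal.primeCompl
      (Localization (hU.primeIdealOf ⟨x, hx⟩).asIdeal.primeCompl) (X.presheaf.stalk x)
  letI : Module (Localization (hU.primeIdealOf ⟨x, hx⟩).asIdeal.primeCompl)
      (M.presheaf.stalk x) := Module.compHom _ (e₁.toAlgHom.toRingHom)
  haveI : IsScalarTower Γ(X, U) (Localization (hU.primeIdealOf ⟨x, hx⟩).asIdeal.primeCompl)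
      (M.presheaf.stalk x) :=
    IsScalarTower.of_algebraMap_smul (fun a q => by
      show (e₁ (algebraMap Γ(X, U)
        (Localization (hU.primeIdealOf ⟨x, hx⟩).asIdeal.primeCompl) a)) • q =
        (algebraMap Γ(X, U) (X.presheaf.stalk x) a) • q
      rw [e₁.commutes])
  let iso0 : LocalizedModule (hU.primeIdealOf ⟨x, hx⟩).asIdeal.primeCompl Γ(M, U) ≃ₗ[Γ(X, U)]
      (M.presheaf.stalk x) :=
    IsLocalizedModule.iso (hU.primeIdealOf ⟨x, hx⟩).asIdeal.primeCompl germL
  let iso' : LocalizedModule (hU.primeIdealOf ⟨x, hx⟩).asIdeal.primeCompl Γ(M, U)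
      ≃ₗ[Localization (hU.primeIdealOf ⟨x, hx⟩).asIdeal.primeCompl] (M.presheaf.stalk x) :=
    iso0.extendScalarsOfIsLocalization (hU.primeIdealOf ⟨x, hx⟩).asIdeal.primeCompl
      (Localization (hU.primeIdealOf ⟨x, hx⟩).asIdeal.primeCompl)
  haveI : Module.Free (Localization (hU.primeIdealOf ⟨x, hx⟩).asIdeal.primeCompl)
      (M.presheaf.stalk x) := free_transport e₁.toRingEquiv (fun r m => rfl)
  exact Module.Free.of_equiv iso'.symm

set_option backward.isDefEq.respectTransparency false in
/-- if the sections of a quasi-coherent module over an affine open are finitely presented and the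
stalk at `x` is free, then around `x` there is a basic open over which the sections have a
basis. -/
theorem exists_basis_basicOpen' (M : X.Modules) [M.IsQuasicoherent] {U : X.Opens}
    (hU : IsAffineOpen U) [Module.FinitePresentation Γ(X, U) Γ(M, U)]
    (x : X) (hx : x ∈ U) [Module.Free (X.presheaf.stalk x) (M.presheaf.stalk x)] :
    ∃ f : Γ(X, U), x ∈ X.basicOpen f ∧ ∃ (r : ℕ) (g : Fin r → Γ(M, X.basicOpen f)),
      Submodule.span Γ(X, X.basicOpen f) (Set.range g) = ⊤ ∧
        LinearIndependent Γ(X, X.basicOpen f) g := by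
  classical
  let p := hU.primeIdealOf ⟨x, hx⟩
  haveI := p.2
  haveI hfree : Module.Free (Localization.AtPrime p.asIdeal)
      (LocalizedModule p.asIdeal.primeCompl Γ(M, U)) := free_localized_of_free_stalk M hU x hx
  obtain ⟨f, hf, hfree', -⟩ := Module.FinitePresentation.exists_free_localizedModule_powers
    p.asIdeal.primeCompl (LocalizedModule.mkLinearMap p.asIdeal.primeCompl Γ(M, U))
    (Localization.AtPrime p.asIdeal)
  have hxf : x ∈ X.basicOpen f := by
    by_contra hnot
    exact hf ((mem_primeIdealOf_iff hU x hx f).mpr hnot)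
  refine ⟨f, hxf, ?_⟩
  letI : Module Γ(X, U) Γ(M, X.basicOpen f) :=
    Module.compHom _ (algebraMap Γ(X, U) Γ(X, X.basicOpen f))
  haveI : IsScalarTower Γ(X, U) Γ(X, X.basicOpen f) Γ(M, X.basicOpen f) :=
    IsScalarTower.of_algebraMap_smul (fun r m => rfl)
  let g : Γ(M, U) →ₗ[Γ(X, U)] Γ(M, X.basicOpen f) :=
    { toFun := fun m => M.presheaf.map (homOfLE (X.basicOpen_le f)).op m
      map_add' := fun a b => map_add _ a b
      map_smul' := fun r m => by
        show M.presheaf.map (homOfLE (X.basicOpen_le f)).op (r • m) =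
          (X.presheaf.map (homOfLE (X.basicOpen_le f)).op r) •
            M.presheaf.map (homOfLE (X.basicOpen_le f)).op m
        exact Scheme.Modules.map_smul _ _ _ _ }
  haveI : IsLocalization.Away f Γ(X, X.basicOpen f) := hU.isLocalization_basicOpen f
  have hu : IsUnit (algebraMap Γ(X, U) Γ(X, X.basicOpen f) f) :=
    IsLocalization.Away.algebraMap_isUnit f
  have h₁ : IsUnit (algebraMap Γ(X, U) (Module.End Γ(X, U) Γ(M, X.basicOpen f)) f) := by
    rw [Module.End.isUnit_iff]
    obtain ⟨v, hv⟩ := hu
    constructor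
    · intro a b hab
      have hab' : (v : Γ(X, X.basicOpen f)) • a = (v : Γ(X, X.basicOpen f)) • b := by
        rw [hv]; exact hab
      calc a = (↑v⁻¹ : Γ(X, X.basicOpen f)) • ((v : Γ(X, X.basicOpen f)) • a) := by
            rw [smul_smul, Units.inv_mul, one_smul]
        _ = (↑v⁻¹ : Γ(X, X.basicOpen f)) • ((v : Γ(X, X.basicOpen f)) • b) := by rw [hab']
        _ = b := by rw [smul_smul, Units.inv_mul, one_smul]
    · intro b
      refine ⟨(↑v⁻¹ : Γ(X, X.basicOpen f)) • b, ?_⟩
      show (algebraMap Γ(X, U) Γ(X, X.basicOpen f) f) • ((↑v⁻¹ : Γ(X, X.basicOpen f)) • b) = b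
      rw [← hv, smul_smul, Units.mul_inv, one_smul]
  have h₂ : ∀ y : Γ(M, X.basicOpen f), ∃ (n : ℕ) (m : Γ(M, U)), f ^ n • y = g m := by
    intro y
    obtain ⟨n, t, ht⟩ := exists_section_of_basicOpen M hU f y
    refine ⟨n, t, ?_⟩
    show (algebraMap Γ(X, U) Γ(X, X.basicOpen f) (f ^ n)) • y = _
    rw [map_pow]
    exact ht.symm
  have h₃ : ∀ m : Γ(M, U), g m = 0 → ∃ n : ℕ, f ^ n • m = 0 := fun m hm =>
    exists_pow_smul_eq_zero M hU f m hm
  haveI : IsLocalizedModule.Away f g := IsLocalizedModule.Away.mk_of_addCommGroup h₁ h₂ h₃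
  let e₁ : Localization (Submonoid.powers f) ≃ₐ[Γ(X, U)] Γ(X, X.basicOpen f) :=
    IsLocalization.algEquiv (Submonoid.powers f) (Localization (Submonoid.powers f))
      Γ(X, X.basicOpen f)
  letI : Module (Localization (Submonoid.powers f)) Γ(M, X.basicOpen f) :=
    Module.compHom _ (e₁.toAlgHom.toRingHom)
  haveI : IsScalarTower Γ(X, U) (Localization (Submonoid.powers f)) Γ(M, X.basicOpen f) :=
    IsScalarTower.of_algebraMap_smul (fun a q => by
      show (e₁ (algebraMap Γ(X, U) (Localization (Submonoid.powers f)) a)) • q =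
        (algebraMap Γ(X, U) Γ(X, X.basicOpen f) a) • q
      rw [e₁.commutes])
  let iso0 : LocalizedModule (Submonoid.powers f) Γ(M, U) ≃ₗ[Γ(X, U)] Γ(M, X.basicOpen f) :=
    IsLocalizedModule.iso (Submonoid.powers f) g
  let iso' : LocalizedModule (Submonoid.powers f) Γ(M, U) ≃ₗ[Localization (Submonoid.powers f)]
      Γ(M, X.basicOpen f) :=
    iso0.extendScalarsOfIsLocalization (Submonoid.powers f) (Localization (Submonoid.powers f))
  haveI : Module.Free (Localization (Submonoid.powers f))
      (LocalizedModule (Submonoid.powers f) Γ(M, U)) := hfree'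
  haveI : Module.Free (Localization (Submonoid.powers f)) Γ(M, X.basicOpen f) :=
    Module.Free.of_equiv iso'
  haveI : Module.Finite Γ(X, U) Γ(M, U) := inferInstance
  haveI : Module.Finite (Localization (Submonoid.powers f)) Γ(M, X.basicOpen f) :=
    Module.Finite.equiv iso'
  haveI : Nontrivial (Localization (Submonoid.powers f)) :=
    (show Localization (Submonoid.powers f) →+* Localization.AtPrime p.asIdeal from
      IsLocalization.map (M := Submonoid.powers f) (T := p.asIdeal.primeCompl) _
        (RingHom.id _) (Submonoid.powers_le.mpr hf)).domain_nontrivial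
  let b := Module.finBasis (Localization (Submonoid.powers f)) Γ(M, X.basicOpen f)
  refine ⟨_, fun i => b i, ?_, ?_⟩
  · rw [eq_top_iff]
    intro q _
    have hq : q ∈ Submodule.span (Localization (Submonoid.powers f)) (Set.range b) := b.mem_span q
    have key : ∀ y, y ∈ Submodule.span (Localization (Submonoid.powers f)) (Set.range b) →
        y ∈ Submodule.span Γ(X, X.basicOpen f) (Set.range fun i => b i) := by
      intro y hy
      induction hy using Submodule.span_induction with
      | mem y hy => exact Submodule.subset_span hy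
      | zero => exact Submodule.zero_mem _
      | add y z _ _ hy hz => exact Submodule.add_mem _ hy hz
      | smul c y _ hy => exact Submodule.smul_mem _ (e₁ c) hy
    exact key q hq
  · rw [Fintype.linearIndependent_iff]
    intro c hc i
    have h1 : ∑ j, (e₁.symm (c j)) • b j = 0 := by
      rw [← hc]
      refine Finset.sum_congr rfl (fun j _ => ?_)
      show e₁ (e₁.symm (c j)) • b j = c j • b j
      rw [e₁.apply_symm_apply]
    have h2 := Fintype.linearIndependent_iff.mp b.linearIndependent _ h1 i
    rw [← e₁.apply_symm_apply (c i), h2, map_zero]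

set_option backward.isDefEq.respectTransparency false in
/-- a module isomorphic to a finite free module has a finite presentation. -/
theorem presentation_of_iso_free {Z : Scheme.{u}} (N : Z.Modules) (I : Type u) [Finite I]
    (ε : freeM Z I ≅ N) : ∃ P : N.Presentation, P.IsFinite := by
  let G0 := SheafOfModules.free.generatingSections (R := Z.ringCatSheaf) I
  let G : N.GeneratingSections := G0.ofEpi ε.hom
  haveI : IsIso G.π := by
    rw [SheafOfModules.GeneratingSections.ofEpi_π]
    infer_instance
  let P : N.Presentation :=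
    { generators := G
      relations :=
        { I := ULift Empty
          s := fun j => Empty.rec _ j.down
          epi := IsZero.epi (IsZero.of_iso (isZero_zero _) (kernel.ofMono _)) _ } }
  exact ⟨P, ⟨⟨(inferInstance : Finite I)⟩, ⟨(inferInstance : Finite (ULift.{u} Empty))⟩⟩⟩

set_option backward.isDefEq.respectTransparency false in
/-- finite locally free modules are finitely presented. -/
theorem isFP_of_isFinLocFree (M : X.Modules) (h : FlatMod.IsFinLocFree M) :
    SheafOfModules.IsFinitePresentation.{u, u, u} (R := X.ringCatSheaf) M := by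
  have key : ∀ x : X, ∃ (U : X.Opens) (_ : x ∈ U) (P : (M.restrict U.ι).Presentation),
      P.IsFinite := by
    intro x
    obtain ⟨U, n, hxU, ⟨e⟩⟩ := h x
    obtain ⟨P, hP⟩ := presentation_of_iso_free (M.restrict U.ι) (ULift.{u} (Fin n))
      ((freeModIso (U : Scheme.{u}) n).symm ≪≫ e.symm)
    exact ⟨U, hxU, P, hP⟩
  choose U hxU P hP using key
  have hcov : (Opens.grothendieckTopology X).CoversTop (fun x : X => U x) := by
    rw [Opens.coversTop_iff]
    show ⨆ x, U x = ⊤
    rw [eq_top_iff]
    intro x _
    exact Opens.mem_iSup.mpr ⟨x, hxU x⟩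
  let q : SheafOfModules.QuasicoherentData.{u, u, u, u} (R := X.ringCatSheaf) M :=
    { I := X, X := fun x : X => U x, coversTop := hcov,
      presentation := fun x : X => overPresentation M (U x) (P x) }
  have hq : q.IsFinitePresentation := by
    constructor
    intro x
    exact @overPresentation_isFinite _ M (U x) (P x) (hP x)
  constructor
  exact Exists.intro q hq

end Groth.Agent.Lead.StalkLoc
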